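import Cfsg.Agent.Omega.NOThreeL.Geo
import Mathlib.SetTheory.Cardinal.Finite
import Cfsg.Agent.Omega.NOThreeL.ThmT
import Cfsg.Agent.Mrg.Omega.VP

-- merged: Cfsg.Agent.Omega.NOThreeL.Two
section

/-!
# NO-3L, (2) and (4) for `|Z| = 2`, all vectors of `U_i` being incident points

* `TwoData.common` : a mutual noncommuting pair has a common incident point (text #12384 (2));
* `TwoData.same` : mutual pairs of the same type commute;
* `Rank1.false_of` : (4), `(Sp_2n(2), Sp_2m(2))`, `(n, m) ≠ (1, 1)`, is impossible. The hypotheses are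
  `[U₁(x), U₂(x)] ≤ z x`, `≠ 1`, `|U₂(x) : C(U₁(x))| = 2` and `C_{U₁(x)}(U₂(x)) > z x`
  (or the last one for `U₂`).
-/

set_option autoImplicit false

namespace Cfsg.Agent.Omega.NOThreeL

open Subgroup MulAction Pointwise
open Cfsg.Agent.Omega.NoFF.Basic (conj_conj mem_conj conj_le_iff conj_le_centralizer comm_symm
  comm_mono)
open scoped commutatorElement

universe u v

variable {G : Type u} [Group G]

/-- `|Z| = 2` and every nontrivial element of `U i x` generates an incident point. -/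
structure TwoData {X : Type v} [MulAction G X] (z : X → Subgroup G) (U : Bool → X → Subgroup G) :
    Prop extends Geo z U where
  card : ∀ x, Nat.card (z x) = 2
  inj : ∀ x y, z x = z y → x = y
  pt : ∀ (i : Bool) (x : X), ∀ v ∈ U i x, v ≠ 1 → ∃ p, v ∈ z p ∧ U i p = U i x

theorem mem_normalizer_centralizer {g : G} {A : Subgroup G} (h : g ∈ normalizer (A : Set G)) :
    g ∈ normalizer (centralizer (A : Set G) : Set G) := by
  have key : ∀ g ∈ normalizer (A : Set G), ∀ x ∈ centralizer (A : Set G),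
      g * x * g⁻¹ ∈ centralizer (A : Set G) := by
    intro g hg x hx
    rw [mem_centralizer_iff]
    intro a ha
    have h1 : g⁻¹ * a * g ∈ A := by
      have h2 := (mem_normalizer_iff.mp (inv_mem hg) a).mp ha
      rwa [inv_inv] at h2
    have h2 := mem_centralizer_iff.mp hx _ h1
    have h3 := congrArg (fun t => g * t * g⁻¹) h2
    simpa [mul_assoc] using h3
  rw [mem_normalizer_iff]
  refine fun x => ⟨fun hx => key g h x hx, fun hx => ?_⟩
  have h1 := key g⁻¹ (inv_mem h) _ hx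
  simpa [mul_assoc] using h1

namespace TwoData

variable {X : Type v} [MulAction G X] {z : X → Subgroup G} {U : Bool → X → Subgroup G}

/-- exchange the two types -/
theorem swap (D : TwoData z U) : TwoData z (fun i => U (!i)) :=
  { toGeo := D.toGeo.swap, card := D.card, inj := D.inj, pt := fun i => D.pt (!i) }

variable (D : TwoData z U)
include D

theorem gen_eq {x : X} {a b : G} (ha : a ∈ z x) (hb : b ∈ z x) (ha1 : a ≠ 1) (hb1 : b ≠ 1) :
    a = b := by
  obtain ⟨y, -, hy⟩ := (Nat.card_eq_two_iff' (1 : z x)).mp (D.card x)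
  have h1 := hy ⟨a, ha⟩ fun h => ha1 (congrArg Subtype.val h)
  have h2 := hy ⟨b, hb⟩ fun h => hb1 (congrArg Subtype.val h)
  exact congrArg Subtype.val (h1.trans h2.symm)

theorem exists_gen (x : X) : ∃ a ∈ z x, a ≠ 1 := by
  obtain ⟨y, hy, -⟩ := (Nat.card_eq_two_iff' (1 : z x)).mp (D.card x)
  exact ⟨y, y.2, fun h => hy (Subtype.ext h)⟩

theorem eq_of_mem {x y : X} {a : G} (hx : a ∈ z x) (hy : a ∈ z y) (ha : a ≠ 1) : x = y := by
  apply D.inj
  have key : ∀ x y, a ∈ z x → a ∈ z y → z x ≤ z y := by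
    intro x y hx hy b hb
    by_cases hb1 : b = 1
    · rw [hb1]
      exact one_mem _
    · rw [D.gen_eq hb hx hb1 ha]
      exact hy
  exact le_antisymm (key x y hx hy) (key y x hy hx)

theorem le_of_mem {x : X} {a : G} {A : Subgroup G} (hx : a ∈ z x) (ha : a ≠ 1) (hA : a ∈ A) :
    z x ≤ A := by
  intro b hb
  by_cases hb1 : b = 1
  · rw [hb1]
    exact one_mem _
  · rwa [D.gen_eq hb hx hb1 ha]

/-- `g x = x` implies that `g` centralises `z x`. -/
theorem cent_of_fix {x : X} {g : G} (h : g • x = x) : g ∈ centralizer (z x : Set G) := by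
  rw [mem_centralizer_iff]
  intro a ha
  by_cases ha1 : a = 1
  · rw [ha1, one_mul, mul_one]
  · have h1 : g * a * g⁻¹ ∈ z x := (mem_normalizer_iff.mp (D.norm_z h) a).mp ha
    have h2 : g * a * g⁻¹ ≠ 1 := fun h3 => ha1 (by
      have h4 := congrArg (fun t => g⁻¹ * t * g) h3
      simpa [mul_assoc] using h4)
    have h3 := D.gen_eq h1 ha h2 ha1
    calc a * g = g * a * g⁻¹ * g := by rw [h3]
      _ = g * a := by group

/-- **(2)** a mutual noncommuting pair has a common incident point. -/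
theorem common {i j : Bool} {x y : X} (h1 : U i x ≤ normalizer (U j y : Set G))
    (h2 : U j y ≤ normalizer (U i x : Set G)) (h3 : ¬ U i x ≤ centralizer (U j y : Set G)) :
    ∃ p, U i p = U i x ∧ U j p = U j y := by
  obtain ⟨u, hu, hu'⟩ : ∃ u ∈ U i x, u ∉ centralizer (U j y : Set G) := by
    by_contra hcon
    push Not at hcon
    exact h3 hcon
  obtain ⟨w, hw, hk⟩ : ∃ w ∈ U j y, ⁅u, w⁆ ≠ 1 := by
    by_contra hcon
    push Not at hcon
    refine hu' (mem_centralizer_iff.mpr fun w hw => ?_)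
    exact (commutatorElement_eq_one_iff_mul_comm.mp (hcon w hw)).symm
  have hk1 : ⁅u, w⁆ ∈ U i x := by
    have h5 : ⁅u, w⁆ = u * (w * u⁻¹ * w⁻¹) := by
      rw [commutatorElement_def]
      group
    rw [h5]
    exact (U i x).mul_mem hu ((mem_normalizer_iff.mp (h2 hw) _).mp ((U i x).inv_mem hu))
  have hk2 : ⁅u, w⁆ ∈ U j y := by
    rw [commutatorElement_def]
    exact (U j y).mul_mem ((mem_normalizer_iff.mp (h1 hu) _).mp hw) ((U j y).inv_mem hw)
  obtain ⟨p, hp1, hp2⟩ := D.pt i x _ hk1 hk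
  obtain ⟨q, hq1, hq2⟩ := D.pt j y _ hk2 hk
  obtain rfl := D.eq_of_mem hp1 hq1 hk
  exact ⟨p, hp2, hq2⟩

/-- **(2)** mutual pairs of the same type commute. -/
theorem same {i : Bool} {x y : X} (h1 : U i x ≤ normalizer (U i y : Set G))
    (h2 : U i y ≤ normalizer (U i x : Set G)) : U i x ≤ centralizer (U i y : Set G) := by
  by_contra h3
  obtain ⟨p, hp1, hp2⟩ := D.common h1 h2 h3
  exact h3 (by rw [← hp1, ← hp2]; exact D.abel i p)

/-- A mutual noncommuting pair is `U₁(p)`, `U₂(p)` for some point `p`. -/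
theorem exists_point {i j : Bool} {x y : X} (h1 : U i x ≤ normalizer (U j y : Set G))
    (h2 : U j y ≤ normalizer (U i x : Set G)) (h3 : ¬ U i x ≤ centralizer (U j y : Set G)) :
    i ≠ j ∧ ∃ p, U i p = U i x ∧ U j p = U j y ∧ ¬ U i p ≤ centralizer (U j p : Set G) := by
  obtain ⟨p, hp1, hp2⟩ := D.common h1 h2 h3
  have h4 : ¬ U i p ≤ centralizer (U j p : Set G) := by rwa [hp1, hp2]
  refine ⟨?_, p, hp1, hp2, h4⟩
  rintro rfl
  exact h4 (D.abel i p)

end TwoData

/-- `U₁(x)` and `U₂(x)` act on each other as a single transvection with centre `z x`. -/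
structure Rank1 {X : Type v} [MulAction G X] (z : X → Subgroup G) (U : Bool → X → Subgroup G) :
    Prop extends TwoData z U where
  com : ∀ x, ⁅U false x, U true x⁆ ≤ z x
  nonc : ∀ x, ¬ U false x ≤ centralizer (U true x : Set G)
  one : ∀ x, ∀ w ∈ U true x, ∀ w' ∈ U true x, w ∉ centralizer (U false x : Set G) →
    w' ∉ centralizer (U false x : Set G) → w⁻¹ * w' ∈ centralizer (U false x : Set G)

namespace Rank1

variable {X : Type v} [MulAction G X] {z : X → Subgroup G} {U : Bool → X → Subgroup G}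
variable (D : Rank1 z U)
include D

/-- `|U₁(x) : x^⊥| = 2` -/
theorem one' (x : X) : ∀ a ∈ U false x, ∀ b ∈ U false x, a ∉ centralizer (U true x : Set G) →
    b ∉ centralizer (U true x : Set G) → a⁻¹ * b ∈ centralizer (U true x : Set G) := by
  -- a noncentral `w` moves all `a` outside `x^⊥`
  have key : ∀ a ∈ U false x, a ∉ centralizer (U true x : Set G) → ∀ w ∈ U true x,
      w ∉ centralizer (U false x : Set G) → ⁅a, w⁆ ≠ 1 := by
    intro a ha ha' w hw hw' h0
    refine ha' (mem_centralizer_iff.mpr fun w₀ hw₀ => ?_)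
    by_cases h1 : w₀ ∈ centralizer (U false x : Set G)
    · exact (mem_centralizer_iff.mp h1 a ha).symm
    · have h2 := D.one x w hw w₀ hw₀ hw' h1
      have h3 := mem_centralizer_iff.mp h2 a ha
      have h4 := commutatorElement_eq_one_iff_mul_comm.mp h0
      calc w₀ * a = w * ((w⁻¹ * w₀) * a) := by group
        _ = w * (a * (w⁻¹ * w₀)) := by rw [h3]
        _ = (w * a) * w⁻¹ * w₀ := by group
        _ = (a * w) * w⁻¹ * w₀ := by rw [h4]
        _ = a * w₀ := by group
  intro a ha b hb ha' hb'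
  rw [mem_centralizer_iff]
  intro w hw
  by_cases h1 : w ∈ centralizer (U false x : Set G)
  · exact (mem_centralizer_iff.mp h1 _ (mul_mem (inv_mem ha) hb)).symm
  · have h2 := key a ha ha' w hw h1
    have h3 := key b hb hb' w hw h1
    have h4 : ⁅a, w⁆ = ⁅b, w⁆ := D.gen_eq (D.com x (commutator_mem_commutator ha hw))
      (D.com x (commutator_mem_commutator hb hw)) h2 h3
    rw [commutatorElement_def, commutatorElement_def] at h4
    have h5 : a * w * a⁻¹ = b * w * b⁻¹ := mul_right_cancel h4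
    calc w * (a⁻¹ * b) = a⁻¹ * (a * w * a⁻¹) * b := by group
      _ = a⁻¹ * (b * w * b⁻¹) * b := by rw [h5]
      _ = a⁻¹ * b * w := by group

theorem swap : Rank1 z (fun i => U (!i)) :=
  { toTwoData := D.toTwoData.swap
    com := fun x => by
      change ⁅U true x, U false x⁆ ≤ z x
      rw [commutator_comm]
      exact D.com x
    nonc := fun x h => D.nonc x (comm_symm h)
    one := fun x => D.one' x }

/-- `⊥` is symmetric. -/
theorem perp {x y : X} (h : U false x = U false y) (h1 : U true x ≤ centralizer (z y : Set G)) :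
    U true y ≤ centralizer (z x : Set G) := by
  intro w hw
  by_contra hwx
  -- `w` acts nontrivially on `U₁`
  have hwU : w ∉ centralizer (U false y : Set G) := fun h2 => hwx (by
    rw [← h] at h2
    exact centralizer_le (D.le false x) h2)
  -- `[u, t] ≠ 1`
  obtain ⟨u, hu, hu'⟩ : ∃ u ∈ U false x, u ∉ centralizer (U true x : Set G) := by
    by_contra hcon
    push Not at hcon
    exact D.nonc x hcon
  obtain ⟨t, ht, hk⟩ : ∃ t ∈ U true x, ⁅u, t⁆ ≠ 1 := by
    by_contra hcon
    push Not at hcon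
    refine hu' (mem_centralizer_iff.mpr fun w hw => ?_)
    exact (commutatorElement_eq_one_iff_mul_comm.mp (hcon w hw)).symm
  have hty : t • y = y := D.cent y t (h1 ht)
  have htx : t • x = x := D.U_fix true x t ht
  have h2 : t * w * t⁻¹ ∈ U true y := (mem_normalizer_iff.mp (D.norm_U hty true) w).mp hw
  have h3 : t * w * t⁻¹ ∉ centralizer (U false y : Set G) := fun h4 =>
    hwU ((mem_normalizer_iff.mp (mem_normalizer_centralizer (D.norm_U hty false)) w).mpr h4)
  have h4 := D.one y w hw _ h2 hwU h3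
  have h5 : w⁻¹ • y = y := D.U_fix true y w⁻¹ (inv_mem hw)
  have h6 : U false (w⁻¹ • x) = U false x := by
    rw [D.eqv_U, h, ← D.eqv_U, h5]
  have h7 : w⁻¹ * t * w ∈ U true (w⁻¹ • x) := by
    rw [D.eqv_U, mem_conj]
    simpa [mul_assoc] using ht
  have h8 : ⁅u, w⁻¹ * t * w⁆ = ⁅u, t⁆ := by
    have h9 : w⁻¹ * t * w = (w⁻¹ * (t * w * t⁻¹)) * t := by group
    have h10 : t * u⁻¹ * t⁻¹ ∈ U false x :=
      (mem_normalizer_iff.mp (D.norm_U htx false) _).mp (inv_mem hu)
    have h11 := mem_centralizer_iff.mp h4 (u * (t * u⁻¹ * t⁻¹)) (by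
      rw [← h]
      exact (U false x).mul_mem hu h10)
    have h12 := mem_centralizer_iff.mp h4 u (by
      rw [← h]
      exact hu)
    rw [h9, commutatorElement_def, commutatorElement_def]
    generalize w⁻¹ * (t * w * t⁻¹) = d at h11 h12 ⊢
    calc u * (d * t) * u⁻¹ * (d * t)⁻¹ = (u * d) * t * u⁻¹ * t⁻¹ * d⁻¹ := by group
      _ = (d * u) * t * u⁻¹ * t⁻¹ * d⁻¹ := by rw [h12]
      _ = d * (u * (t * u⁻¹ * t⁻¹)) * d⁻¹ := by group
      _ = (u * (t * u⁻¹ * t⁻¹)) * d * d⁻¹ := by rw [h11]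
      _ = u * t * u⁻¹ * t⁻¹ := by group
  have h9 : ⁅u, t⁆ ∈ z (w⁻¹ • x) := by
    rw [← h8]
    exact D.com _ (commutator_mem_commutator (by rw [h6]; exact hu) h7)
  have h10 : ⁅u, t⁆ ∈ z x := D.com _ (commutator_mem_commutator hu ht)
  have h11 : w⁻¹ • x = x := D.eq_of_mem h9 h10 hk
  refine hwx (D.cent_of_fix ?_)
  conv_lhs => rw [← h11]
  rw [smul_inv_smul]

theorem perp_iff {x y : X} (h : U false x = U false y) :
    U true x ≤ centralizer (z y : Set G) ↔ U true y ≤ centralizer (z x : Set G) :=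
  ⟨D.perp h, D.perp h.symm⟩

omit D in
theorem _root_.Cfsg.Agent.Omega.NOThreeL.TwoData.le_centralizer_iff (D : TwoData z U) {x : X}
    {a : G} (ha : a ∈ z x) (ha1 : a ≠ 1) {A : Subgroup G} :
    A ≤ centralizer (z x : Set G) ↔ a ∈ centralizer (A : Set G) := by
  constructor
  · intro h
    exact comm_symm h ha
  · intro h
    exact comm_symm (D.le_of_mem ha ha1 h)

/-- `c^⊥ = p^⊥` implies `c = p`. -/
theorem eq_of_Y_eq {c p : X} (h : U false c = U false p) (hY : Y U c = Y U p) : c = p := by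
  by_contra hne
  obtain ⟨a, ha, ha1⟩ := D.exists_gen c
  obtain ⟨b, hb, hb1⟩ := D.exists_gen p
  have hab : a⁻¹ * b ≠ 1 := fun h0 => hne (D.eq_of_mem (a := a) ha (by
    rw [inv_mul_eq_one.mp h0]
    exact hb) ha1)
  have haU : a ∈ U false c := D.le false c ha
  have hbU : b ∈ U false c := by
    rw [h]
    exact D.le false p hb
  obtain ⟨x, hx, hxU⟩ := D.pt false c _ (mul_mem (inv_mem haU) hbU) hab
  refine D.nonc x fun u hu => ?_
  by_cases hu1 : u = 1
  · rw [hu1]
    exact one_mem _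
  obtain ⟨r, hr, hrU⟩ := D.pt false x u hu hu1
  -- it is enough that `U₂(r)` centralises `a⁻¹ b`
  rw [← D.le_centralizer_iff hr hu1, D.perp_iff hrU.symm, D.le_centralizer_iff hx hab]
  have hrc : U false r = U false c := hrU.trans hxU
  have key : a ∈ centralizer (U true r : Set G) ↔ b ∈ centralizer (U true r : Set G) := by
    rw [← D.le_centralizer_iff ha ha1, ← D.le_centralizer_iff hb hb1, D.perp_iff hrc,
      D.perp_iff (hrc.trans h), D.le_centralizer_iff hr hu1, D.le_centralizer_iff hr hu1]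
    have hur : u ∈ U false c := by
      rw [← hrc]
      exact D.le false r hr
    constructor
    · intro h2
      have h3 : u ∈ Y U c := ⟨hur, h2⟩
      rw [hY] at h3
      exact h3.2
    · intro h2
      have h3 : u ∈ Y U p := ⟨by rw [← h]; exact hur, h2⟩
      rw [← hY] at h3
      exact h3.2
  by_cases h1 : a ∈ centralizer (U true r : Set G)
  · exact mul_mem (inv_mem h1) (key.mp h1)
  · exact D.one' r a (by rw [hrc]; exact haU) b (by rw [hrc]; exact hbU) h1
      fun h2 => h1 (key.mpr h2)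

/-- `c^⊥ ≤ p^⊥` implies `c = p`. -/
theorem eq_of_Y_le {c p : X} (h : U false c = U false p) (hY : Y U c ≤ Y U p) : c = p := by
  refine D.eq_of_Y_eq h (le_antisymm hY fun u hu => ?_)
  by_contra hu'
  obtain ⟨s, hs, hs'⟩ : ∃ s ∈ U false p, s ∉ centralizer (U true p : Set G) := by
    by_contra hcon
    push Not at hcon
    exact D.nonc p hcon
  have huc : u ∈ U false c := by
    rw [h]
    exact hu.1
  have hsc : s ∈ U false c := by
    rw [h]
    exact hs
  have h1 : s ∉ centralizer (U true c : Set G) := fun h2 => hs' (hY ⟨hsc, h2⟩).2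
  have h2 : u ∉ centralizer (U true c : Set G) := fun h2 => hu' ⟨huc, h2⟩
  have h3 : u⁻¹ * s ∈ Y U p :=
    hY ⟨(U false c).mul_mem ((U false c).inv_mem huc) hsc, D.one' c u huc s hsc h2 h1⟩
  refine hs' ?_
  have h4 : s = u * (u⁻¹ * s) := by group
  rw [h4]
  exact mul_mem hu.2 h3.2

theorem le_sup {c p : X} (h : U false c = U false p) (hne : c ≠ p) :
    U false c ≤ Y U c ⊔ Y U p := by
  obtain ⟨y, hy, hy'⟩ : ∃ y ∈ Y U c, y ∉ Y U p := by
    by_contra hcon
    push Not at hcon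
    exact hne (D.eq_of_Y_le h hcon)
  intro u hu
  have hup : u ∈ U false p := h ▸ hu
  by_cases h1 : u ∈ centralizer (U true p : Set G)
  · exact le_sup_right (a := Y U c) (⟨hup, h1⟩ : u ∈ Y U p)
  · have hyp : y ∈ U false p := h ▸ hy.1
    have h2 : y⁻¹ * u ∈ Y U p := ⟨(U false p).mul_mem ((U false p).inv_mem hyp) hup,
      D.one' p y hyp u hup (fun h3 => hy' ⟨hyp, h3⟩) h1⟩
    have h4 : u = y * (y⁻¹ * u) := by group
    rw [h4]
    exact mul_mem (le_sup_left (a := Y U c) hy) (le_sup_right (a := Y U c) h2)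

theorem pts (big : ∀ x, ¬ Y U x ≤ z x) (c : X) {v : G} (hv : v ∈ U false c) (hvz : v ∉ z c) :
    ∃ p, U false p = U false c ∧ z p ≤ centralizer (U true c : Set G) ∧
      v ∉ centralizer (U true p : Set G) ∧ U false c ≤ Y U c ⊔ Y U p := by
  have hv1 : v ≠ 1 := fun h => hvz (by rw [h]; exact one_mem _)
  obtain ⟨q, hq, hqU⟩ := D.pt false c v hv hv1
  by_contra hcon
  -- `v` is perpendicular to all points of `c^⊥` different from `c`
  have h1 : ∀ u ∈ Y U c, u ∉ z c → U true q ≤ centralizer (zpowers u : Set G) := by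
    intro u hu huz
    have hu1 : u ≠ 1 := fun h => huz (by rw [h]; exact one_mem _)
    obtain ⟨p, hp, hpU⟩ := D.pt false c u hu.1 hu1
    have hpc : c ≠ p := fun h => huz (by rw [h]; exact hp)
    have hvp : v ∈ centralizer (U true p : Set G) := by
      by_contra h2
      exact hcon ⟨p, hpU, D.le_of_mem hp hu1 hu.2, h2, D.le_sup hpU.symm hpc⟩
    rw [← D.le_centralizer_iff hq hv1, D.perp_iff (hpU.trans hqU.symm),
      D.le_centralizer_iff hp hu1] at hvp
    exact comm_symm (zpowers_le.mpr hvp)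
  have h2 : ∀ u ∈ Y U c, u ∉ z c → u ∈ centralizer (U true q : Set G) := fun u hu huz =>
    comm_symm (h1 u hu huz) (mem_zpowers u)
  obtain ⟨y, hy, hyz⟩ : ∃ y ∈ Y U c, y ∉ z c := by
    by_contra hc
    push Not at hc
    exact big c hc
  have h3 : ∀ a ∈ z c, a ∈ centralizer (U true q : Set G) := by
    intro a ha
    have h4 : y * a ∉ z c := fun h5 => hyz (by
      have h6 := (z c).mul_mem h5 ((z c).inv_mem ha)
      rwa [mul_inv_cancel_right] at h6)
    have h5 : a = y⁻¹ * (y * a) := by group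
    rw [h5]
    exact (centralizer _).mul_mem ((centralizer _).inv_mem (h2 y hy hyz))
      (h2 _ (mul_mem hy (D.z_le_Y c ha)) h4)
  have h4 : Y U c ≤ Y U q := by
    intro u hu
    refine ⟨by rw [hqU]; exact hu.1, ?_⟩
    by_cases hu1 : u ∈ z c
    · exact h3 u hu1
    · exact h2 u hu hu1
  obtain rfl := D.eq_of_Y_le hqU.symm h4
  exact hvz hq

theorem spData (big : ∀ x, ¬ Y U x ≤ z x) : SpData z U where
  toGeo := D.toGeo
  same := fun x y h1 h2 => D.same h1 h2
  mixed := fun x y h1 h2 h3 => D.common h1 h2 h3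
  com := D.com
  full := fun x v hv hv' A hA => by
    obtain ⟨w, hw, hk⟩ : ∃ w ∈ U true x, ⁅v, w⁆ ≠ 1 := by
      by_contra hcon
      push Not at hcon
      refine hv' (mem_centralizer_iff.mpr fun w hw => ?_)
      exact (commutatorElement_eq_one_iff_mul_comm.mp (hcon w hw)).symm
    exact D.le_of_mem (D.com x (commutator_mem_commutator hv hw)) hk (hA w hw)
  disj := fun x y _ h => by
    obtain ⟨a, ha, ha1⟩ : ∃ a ∈ z x ⊓ z y, a ≠ 1 := by
      by_contra hcon
      push Not at hcon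
      exact h (le_bot_iff.mp fun a ha => mem_bot.mpr (hcon a ha))
    rw [D.eq_of_mem ha.1 ha.2 ha1]
  perp := fun x y h h1 => D.perp h h1
  big := big
  pts := fun x v hv hvz => D.pts big x hv hvz

theorem false_of_big (big : ∀ x, ¬ Y U x ≤ z x) (c : X) : False := by
  obtain ⟨v, hv, hv'⟩ : ∃ v ∈ U true c, v ∉ centralizer (U false c : Set G) := by
    by_contra hcon
    push Not at hcon
    exact D.swap.nonc c hcon
  have hv1 : v ≠ 1 := fun h => hv' (by rw [h]; exact one_mem _)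
  obtain ⟨c', hc, hcU⟩ := D.pt true c v hv hv1
  have hn : ¬ U false c ≤ centralizer (z c' : Set G) := fun h =>
    hv' ((D.le_centralizer_iff hc hv1).mp h)
  refine (D.spData big).false_of hcU.symm hn ?_
  have hn' : ¬ U false c' ≤ centralizer (z c : Set G) := fun h => hn (D.swap.perp hcU h)
  obtain ⟨a, ha, ha1⟩ := D.exists_gen c
  -- `u v u⁻¹ = a v`
  obtain ⟨u, hu, huv⟩ : ∃ u ∈ U false c, ⁅u, v⁆ ≠ 1 := by
    by_contra hcon
    push Not at hcon
    refine hv' (mem_centralizer_iff.mpr fun u hu => ?_)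
    exact commutatorElement_eq_one_iff_mul_comm.mp (hcon u hu)
  have h1 : ⁅u, v⁆ = a := D.gen_eq (D.com c (commutator_mem_commutator hu hv)) ha huv ha1
  -- `u' a u'⁻¹ = v a`
  obtain ⟨u', hu', hua⟩ : ∃ u' ∈ U false c', ⁅u', a⁆ ≠ 1 := by
    by_contra hcon
    push Not at hcon
    refine hn' ((D.le_centralizer_iff ha ha1).mpr (mem_centralizer_iff.mpr fun u hu => ?_))
    exact commutatorElement_eq_one_iff_mul_comm.mp (hcon u hu)
  have hac : a ∈ U true c' := by
    rw [hcU]
    exact D.le true c ha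
  have h2 : ⁅u', a⁆ = v := D.gen_eq (D.com c' (commutator_mem_commutator hu' hac)) hc hua hv1
  have h3 : a * v = v * a :=
    (mem_centralizer_iff.mp (D.abel true c hv) a (D.le true c ha))
  refine ⟨u⁻¹ * u', mul_mem (inv_mem (le_sup_left (a := U false c) hu))
    (le_sup_right (a := U false c) hu'), ?_⟩
  have h4 : v ∈ z ((u⁻¹ * u') • c) := by
    rw [D.eqv_z, mem_conj]
    have h5 : u * v * u⁻¹ = a * v := by
      rw [← h1, commutatorElement_def]
      group
    have h6 : u' * a * u'⁻¹ = v * a := by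
      conv_rhs => rw [← h2]
      rw [commutatorElement_def]
      group
    have h7 : (u⁻¹ * u')⁻¹ * v * (u⁻¹ * u') = a := by
      calc (u⁻¹ * u')⁻¹ * v * (u⁻¹ * u') = u'⁻¹ * (u * v * u⁻¹) * u' := by group
        _ = u'⁻¹ * (u' * a * u'⁻¹) * u' := by rw [h5, h6, h3]
        _ = a := by group
    rw [h7]
    exact ha
  rw [D.eq_of_mem h4 hc hv1]

/-- **(4), `q = 2`**: `(Sp_2n(2), Sp_2m(2))` with `(n, m) ≠ (1, 1)` is impossible. -/
theorem false_of (big : (∀ x, ¬ U false x ⊓ centralizer (U true x : Set G) ≤ z x) ∨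
    ∀ x, ¬ U true x ⊓ centralizer (U false x : Set G) ≤ z x) (c : X) : False := by
  rcases big with h | h
  · exact D.false_of_big h c
  · exact D.swap.false_of_big h c

end Rank1

end Cfsg.Agent.Omega.NOThreeL

end

-- merged: Cfsg.Agent.Omega.NOThreeL.Closure
section

/-!
# NO-3L: the closure argument (helper83), all `q`, no structure of `M`

`X` is the `G`-set of points, `z x ≤ U x`, `W x ≤ U x` equivariant, `U x` abelian, `C_G(z x)` fixes `x`;
`M` is a subgroup normalised by `U c` with `z c ≤ M` (a line `V_P`, or `U_K(c)` for another overgroup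
`K`), `Y = C_{U c}(M)`. If

* (`opp`) every `u ∈ U c`, `u ∉ C(M)`, has a point `x` with `z x ≤ M`, `U x ∩ U (u x) ∩ C(M) = 1`,
  `U c ∩ U x ∩ C(M) = 1`, `|Y| ≤ |C_{U x}(M)|`;
* (`WM`) `W c ≤ C(M)`;
* (`conn`) a subgroup containing `z c` and with a point `z (h c)`, `h ∈ N(U c)`, also `W (h c)`, contains
  `U c`,

then `U c` centralises `M` (`Clo.le`). `ThmT.Data` satisfies `opp` (`opp_of_data`): this is THEOREM T for
all `q`, also in the presence of radicals (`thmT`).
-/

set_option autoImplicit false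

namespace Cfsg.Agent.Omega.NOThreeL.Closure

open Subgroup MulAction Pointwise
open Cfsg.Agent.Omega.NOThreeL (mem_normalizer_of_conj_eq)
open Cfsg.Agent.Omega.NOThreeL.ThmT (conj_eq_of_mem_normalizer conj_mem_centralizer card_conj)
open Cfsg.Agent.Omega.NoFF.Basic (conj_conj mem_conj conj_le_iff conj_le_centralizer comm_symm
  comm_mono)

universe u v

variable {G : Type u} [Group G]

/-- The hypotheses of the closure argument. -/
structure Clo {X : Type v} [MulAction G X] (z U W : X → Subgroup G) (M : Subgroup G) (c : X) :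
    Prop where
  eqv_U : ∀ (g : G) (x : X), U (g • x) = MulAut.conj g • U x
  eqv_W : ∀ (g : G) (x : X), W (g • x) = MulAut.conj g • W x
  abel : U c ≤ centralizer (U c : Set G)
  cent : ∀ x, ∀ g ∈ centralizer (z x : Set G), g • x = x
  zM : z c ≤ M
  UM : U c ≤ normalizer (M : Set G)
  opp : ∀ u ∈ U c, u ∉ centralizer (M : Set G) → ∃ x, z x ≤ M ∧
    U x ⊓ U (u • x) ⊓ centralizer (M : Set G) = ⊥ ∧
    U c ⊓ U x ⊓ centralizer (M : Set G) = ⊥ ∧
    Nat.card (U c ⊓ centralizer (M : Set G) : Subgroup G) ≤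
      Nat.card (U x ⊓ centralizer (M : Set G) : Subgroup G)
  WU : W c ≤ U c
  WM : W c ≤ centralizer (M : Set G)
  zW : z c ≤ W c
  conn : ∀ A : Subgroup G, z c ≤ A →
    (∀ h ∈ normalizer (U c : Set G), z (h • c) ≤ A → W (h • c) ≤ A) → U c ≤ A

namespace Clo

variable {X : Type v} [MulAction G X] {z U W : X → Subgroup G} {M : Subgroup G} {c : X}
variable (D : Clo z U W M c)
include D

theorem norm_U {g : G} {x : X} (h : g • x = x) : g ∈ normalizer (U x : Set G) :=
  mem_normalizer_of_conj_eq (by rw [← D.eqv_U, h])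

theorem norm_W {g : G} {x : X} (h : g • x = x) : g ∈ normalizer (W x : Set G) :=
  mem_normalizer_of_conj_eq (by rw [← D.eqv_W, h])

/-- `C_G(M)` fixes the points of `M`. -/
theorem fix {x : X} (hx : z x ≤ M) {g : G} (hg : g ∈ centralizer (M : Set G)) : g • x = x :=
  D.cent x g (centralizer_le hx hg)

/-- `[Y c, Y x] = 1` -/
theorem comm {x : X} (hx : z x ≤ M) (hi : U c ⊓ U x ⊓ centralizer (M : Set G) = ⊥) {a b : G}
    (ha : a ∈ U c ⊓ centralizer (M : Set G)) (hb : b ∈ U x ⊓ centralizer (M : Set G)) :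
    a * b = b * a := by
  have ha2 : a ∈ normalizer (U x : Set G) := D.norm_U (D.fix hx ha.2)
  have hb2 : b ∈ normalizer (U c : Set G) := D.norm_U (D.fix D.zM hb.2)
  have h1 : a * b * a⁻¹ * b⁻¹ ∈ U c ⊓ U x ⊓ centralizer (M : Set G) := by
    refine ⟨⟨?_, ?_⟩, ?_⟩
    · have h5 : a * b * a⁻¹ * b⁻¹ = a * (b * a⁻¹ * b⁻¹) := by group
      rw [h5]
      exact mul_mem ha.1 ((mem_normalizer_iff.mp hb2 _).mp (inv_mem ha.1))
    · exact (U x).mul_mem ((mem_normalizer_iff.mp ha2 _).mp hb.1) ((U x).inv_mem hb.1)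
    · exact (centralizer _).mul_mem ((centralizer _).mul_mem ((centralizer _).mul_mem ha.2 hb.2)
        ((centralizer _).inv_mem ha.2)) ((centralizer _).inv_mem hb.2)
  rw [hi, mem_bot] at h1
  have h2 := congrArg (fun t => t * b * a) h1
  simpa [mul_assoc] using h2

variable [Finite G]

/-- `[u, Y x] = Y c` -/
theorem star {u : G} (hu : u ∈ U c) {x : X}
    (hi : U x ⊓ U (u • x) ⊓ centralizer (M : Set G) = ⊥)
    (hc : Nat.card (U c ⊓ centralizer (M : Set G) : Subgroup G) ≤
      Nat.card (U x ⊓ centralizer (M : Set G) : Subgroup G))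
    {y : G} (hy : y ∈ U c ⊓ centralizer (M : Set G)) :
    ∃ t ∈ U x ⊓ centralizer (M : Set G), t⁻¹ * u * t = u * y := by
  have hmem : ∀ t : (U x ⊓ centralizer (M : Set G) : Subgroup G),
      u⁻¹ * ((t : G)⁻¹ * u * t) ∈ U c ⊓ centralizer (M : Set G) := by
    intro t
    have h1 : (t : G) ∈ normalizer (U c : Set G) := D.norm_U (D.fix D.zM t.2.2)
    refine mem_inf.mpr ⟨?_, ?_⟩
    · refine mul_mem (inv_mem hu) ?_
      have h2 := (mem_normalizer_iff.mp (inv_mem h1) u).mp hu
      simpa using h2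
    · have h3 : u⁻¹ * ((t : G)⁻¹ * u * t) = u⁻¹ * (t : G)⁻¹ * u * t := by group
      rw [h3]
      exact mul_mem (conj_mem_centralizer (D.UM hu) (inv_mem (mem_inf.mp t.2).2))
        (mem_inf.mp t.2).2
  let f : (U x ⊓ centralizer (M : Set G) : Subgroup G) →
      (U c ⊓ centralizer (M : Set G) : Subgroup G) := fun t => ⟨_, hmem t⟩
  have hinj : Function.Injective f := by
    intro s t hst
    have h1 : u⁻¹ * ((s : G)⁻¹ * u * s) = u⁻¹ * ((t : G)⁻¹ * u * t) := congrArg Subtype.val hst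
    have h2 : (s : G)⁻¹ * u * s = (t : G)⁻¹ * u * t := mul_left_cancel h1
    have h3 : u * ((t : G) * (s : G)⁻¹) = (t : G) * (s : G)⁻¹ * u := by
      calc u * ((t : G) * (s : G)⁻¹) = (t : G) * ((t : G)⁻¹ * u * t) * (s : G)⁻¹ := by group
        _ = (t : G) * ((s : G)⁻¹ * u * s) * (s : G)⁻¹ := by rw [h2]
        _ = (t : G) * (s : G)⁻¹ * u := by group
    have h40 : (t : G) * (s : G)⁻¹ ∈ U x :=
      mul_mem (mem_inf.mp t.2).1 (inv_mem (mem_inf.mp s.2).1)
    have h41 : (t : G) * (s : G)⁻¹ ∈ centralizer (M : Set G) :=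
      mul_mem (mem_inf.mp t.2).2 (inv_mem (mem_inf.mp s.2).2)
    have h4 : (t : G) * (s : G)⁻¹ ∈ U x ⊓ U (u • x) ⊓ centralizer (M : Set G) := by
      refine mem_inf.mpr ⟨mem_inf.mpr ⟨h40, ?_⟩, h41⟩
      rw [D.eqv_U, mem_conj]
      have h5 : u⁻¹ * ((t : G) * (s : G)⁻¹) * u = (t : G) * (s : G)⁻¹ := by
        rw [mul_assoc, ← h3, inv_mul_cancel_left]
      rw [h5]
      exact h40
    rw [hi, mem_bot] at h4
    exact Subtype.ext (mul_inv_eq_one.mp h4).symm
  have hbij := hinj.bijective_of_nat_card_le hc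
  obtain ⟨t, ht⟩ := hbij.2 ⟨y, hy⟩
  refine ⟨t, t.2, ?_⟩
  have h1 : u⁻¹ * ((t : G)⁻¹ * u * t) = y := congrArg Subtype.val ht
  rw [← h1, mul_inv_cancel_left]

/-- a point of `Y` has its `W` in `Y`. -/
theorem step {h : G} (hh : h ∈ normalizer (U c : Set G))
    (hz : z (h • c) ≤ U c ⊓ centralizer (M : Set G)) :
    W (h • c) ≤ U c ⊓ centralizer (M : Set G) := by
  have hWU : W (h • c) ≤ U c := by
    have h1 := conj_le_iff (g := h) |>.2 D.WU
    rwa [← D.eqv_W, conj_eq_of_mem_normalizer hh] at h1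
  refine le_inf hWU fun w hw => ?_
  by_contra hwM
  obtain ⟨x, hx, hi1, hi2, hc⟩ := D.opp w (hWU hw) hwM
  have hYW : U c ⊓ centralizer (M : Set G) ≤ W (h • c) := by
    intro y hy
    obtain ⟨t, ht, hty⟩ := D.star (hWU hw) hi1 hc hy
    have h1 : t ∈ centralizer (z (h • c) : Set G) := mem_centralizer_iff.mpr fun b hb =>
      D.comm hx hi2 (hz hb) ht
    have h2 : t ∈ normalizer (W (h • c) : Set G) := D.norm_W (D.cent _ _ h1)
    have h3 := (mem_normalizer_iff.mp (inv_mem h2) w).mp hw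
    have h4 : y = w⁻¹ * (t⁻¹ * w * t) := by rw [hty, inv_mul_cancel_left]
    rw [h4]
    refine mul_mem (inv_mem hw) ?_
    simpa using h3
  have h5 : Nat.card (W (h • c)) ≤ Nat.card (U c ⊓ centralizer (M : Set G) : Subgroup G) := by
    rw [D.eqv_W, card_conj]
    exact Nat.card_le_card_of_injective _ (Subgroup.inclusion_injective (le_inf D.WU D.WM))
  have h6 := Subgroup.eq_of_le_of_card_ge hYW h5
  rw [← h6] at hw
  exact hwM hw.2

/-- **The closure argument** -/
theorem le : U c ≤ centralizer (M : Set G) :=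
  (D.conn _ (D.zW.trans (le_inf D.WU D.WM)) fun _ hh => D.step hh).trans inf_le_right

end Clo

/-- a natural line satisfies `opp`. -/
theorem opp_of_data [Finite G] {X : Type v} [MulAction G X] {z U : X → Subgroup G}
    {V N : Subgroup G} {L : Set X} {opp : X → X → Prop} {c : X}
    (D : ThmT.Data z U V N L opp c) : ∀ u ∈ U c, u ∉ centralizer (V : Set G) →
    ∃ x, z x ≤ V ∧ U x ⊓ U (u • x) ⊓ centralizer (V : Set G) = ⊥ ∧
    U c ⊓ U x ⊓ centralizer (V : Set G) = ⊥ ∧
    Nat.card (U c ⊓ centralizer (V : Set G) : Subgroup G) ≤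
      Nat.card (U x ⊓ centralizer (V : Set G) : Subgroup G) := by
  intro u hu huV
  obtain ⟨c', hc', hne⟩ := D.other
  refine ⟨c', D.zV c' hc', ?_, ?_, (D.card_Y hc').ge⟩
  · rw [D.inf_eq_bot hc' (D.inv u (D.UN hu) c' hc') (D.stab u hu huV c' hc' hne), bot_inf_eq]
  · rw [D.inf_eq_bot D.mem hc' hne, bot_inf_eq]

/-- **THEOREM T** for all `q`, radicals allowed: a natural line `V` on `c` with `W c ≤ C(V)` commutes
with `U c`. -/
theorem thmT [Finite G] {X : Type v} [MulAction G X] {z U W : X → Subgroup G}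
    {V N : Subgroup G} {L : Set X} {opp : X → X → Prop} {c : X} (D : ThmT.Data z U V N L opp c)
    (eqv_W : ∀ (g : G) (x : X), W (g • x) = MulAut.conj g • W x) (WU : W c ≤ U c)
    (WV : W c ≤ centralizer (V : Set G)) (zW : z c ≤ W c)
    (conn : ∀ A : Subgroup G, z c ≤ A →
      (∀ h ∈ normalizer (U c : Set G), z (h • c) ≤ A → W (h • c) ≤ A) → U c ≤ A) :
    U c ≤ centralizer (V : Set G) :=
  Clo.le (z := z) (W := W)
    { eqv_U := D.eqv_U, eqv_W := eqv_W, abel := D.abel c, cent := D.cent, zM := D.zV c D.mem,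
      UM := D.UN.trans D.NV, opp := opp_of_data D, WU := WU, WM := WV, zW := zW, conn := conn }

end Cfsg.Agent.Omega.NOThreeL.Closure

end

-- merged: Cfsg.Agent.Mrg.Omega.NOThreeL.Plug
section

section


/-!
# NO-3L: the points `Z^g` and the two modules `U_i = ⟨Z^(H_i)⟩`, `|Z| = 2`

`C` is `C_G(Z)` or `N_G(Z)`, `C ≤ N_G(U_i)`, `U_i` abelian, `Z ≤ U_i`. The points are the elements of
`G / C`.

* `geo` : the hypotheses `Geo` of `Omega/NOThreeL/Geo.lean` (all `|Z|`);
* `not_comm` : `|Z| = 2`, `N_G(U_i)` transitive on `U_i^#`; a mutual noncommuting pair of conjugates of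
  `U_i`, `U_j` gives `i ≠ j` and `[U_1, U_2] ≠ 1` (the adjacent case);
* `sp_false` : `[U_1, U_2] ≤ Z`, `≠ 1`, `|U_2 : C_{U_2}(U_1)| = 2`, `C_{U_1}(U_2) > Z` or
  `C_{U_2}(U_1) > Z` is impossible (#12384 (4)).
-/

set_option autoImplicit false

namespace Cfsg.Agent.Omega.NOThreeL

open Subgroup MulAction Pointwise
open Cfsg.Agent.Omega.NoFF.Basic (conj_conj mem_conj conj_le_iff conj_le_centralizer comm_symm
  comm_mono)
open scoped commutatorElement

universe u v

section coset

variable {G : Type u} [Group G]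

/-- the conjugate of `A` belonging to `x ∈ G / C`. -/
noncomputable def orb (C A : Subgroup G) (x : G ⧸ C) : Subgroup G := MulAut.conj x.out • A

theorem orb_mk {C A : Subgroup G} (h : C ≤ normalizer (A : Set G)) (g : G) :
    orb C A (g : G ⧸ C) = MulAut.conj g • A := by
  obtain ⟨c, hc⟩ := QuotientGroup.mk_out_eq_mul C g
  rw [orb, hc, ← conj_conj, Pair.conj_eq_of_mem (h c.2)]

theorem orb_one {C A : Subgroup G} (h : C ≤ normalizer (A : Set G)) :
    orb C A ((1 : G) : G ⧸ C) = A := by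
  rw [orb_mk h, map_one, one_smul]

theorem orb_smul {C A : Subgroup G} (h : C ≤ normalizer (A : Set G)) (g : G) (x : G ⧸ C) :
    orb C A (g • x) = MulAut.conj g • orb C A x := by
  obtain ⟨a, rfl⟩ := QuotientGroup.mk_surjective x
  have h1 : g • (QuotientGroup.mk a : G ⧸ C) = QuotientGroup.mk (g * a) := rfl
  rw [h1]
  rw [orb_mk h (g * a)]
  rw [orb_mk h a, conj_conj]

theorem orb_mono {C A B : Subgroup G} (h : A ≤ B) (x : G ⧸ C) : orb C A x ≤ orb C B x :=
  (conj_le_iff (g := x.out)).2 h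

theorem orb_inf {C A B : Subgroup G} (x : G ⧸ C) : orb C (A ⊓ B) x = orb C A x ⊓ orb C B x :=
  Subgroup.smul_inf _ _ _

theorem orb_le_iff {C A B : Subgroup G} (x : G ⧸ C) : orb C A x ≤ orb C B x ↔ A ≤ B :=
  conj_le_iff (g := x.out)

theorem orb_comm {C A B : Subgroup G} (h : A ≤ centralizer (B : Set G)) (x : G ⧸ C) :
    orb C A x ≤ centralizer (orb C B x : Set G) :=
  conj_le_centralizer (g := x.out) h

theorem conj_centralizer (g : G) (A : Subgroup G) :
    centralizer ((MulAut.conj g • A : Subgroup G) : Set G) = MulAut.conj g • centralizer (A : Set G) := by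
  apply le_antisymm
  · intro y hy
    rw [mem_conj, mem_centralizer_iff]
    intro u hu
    have h1 := mem_centralizer_iff.mp hy (g * u * g⁻¹) (by
      change _ ∈ MulAut.conj g • A
      rw [mem_conj]
      simpa [mul_assoc] using hu)
    have h2 := congrArg (fun t => g⁻¹ * t * g) h1
    simpa [mul_assoc] using h2
  · exact conj_le_centralizer le_rfl

theorem orb_centralizer {C A : Subgroup G} (x : G ⧸ C) :
    orb C (centralizer (A : Set G)) x = centralizer (orb C A x : Set G) :=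
  (conj_centralizer x.out A).symm

theorem mem_orb {C A : Subgroup G} (x : G ⧸ C) {g : G} :
    g ∈ orb C A x ↔ x.out⁻¹ * g * x.out ∈ A := mem_conj

theorem orb_commutator {C A B : Subgroup G} (x : G ⧸ C) :
    orb C ⁅A, B⁆ x = ⁅orb C A x, orb C B x⁆ := Subgroup.map_commutator _ _ _

theorem card_orb {C A : Subgroup G} (x : G ⧸ C) : Nat.card (orb C A x) = Nat.card A :=
  Nat.card_congr (Subgroup.equivSMul (MulAut.conj x.out) A).toEquiv.symm

/-- A group of order 2 is centralised by its normaliser. -/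
theorem normalizer_le_centralizer {Z : Subgroup G} (hc : Nat.card Z = 2) :
    normalizer (Z : Set G) ≤ centralizer (Z : Set G) := by
  intro g hg
  rw [mem_centralizer_iff]
  intro a ha
  by_cases ha1 : a = 1
  · rw [ha1, one_mul, mul_one]
  obtain ⟨y, -, hy⟩ := (Nat.card_eq_two_iff' (1 : Z)).mp hc
  have h1 : g * a * g⁻¹ ∈ Z := (mem_normalizer_iff.mp hg a).mp ha
  have h2 : g * a * g⁻¹ ≠ 1 := fun h3 => ha1 (by
    have h4 := congrArg (fun t => g⁻¹ * t * g) h3
    simpa [mul_assoc] using h4)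
  have h3 := hy ⟨a, ha⟩ fun h => ha1 (congrArg Subtype.val h)
  have h4 := hy ⟨g * a * g⁻¹, h1⟩ fun h => h2 (congrArg Subtype.val h)
  have h5 : g * a * g⁻¹ = a := congrArg Subtype.val (h4.trans h3.symm)
  calc a * g = g * a * g⁻¹ * g := by rw [h5]
    _ = g * a := by group

theorem mk_smul_eq {C : Subgroup G} {g a : G} (h : a⁻¹ * g * a ∈ C) :
    g • (QuotientGroup.mk a : G ⧸ C) = QuotientGroup.mk a := by
  have h1 : g • (QuotientGroup.mk a : G ⧸ C) = QuotientGroup.mk (g * a) := rfl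
  rw [h1, eq_comm, QuotientGroup.eq]
  rwa [← mul_assoc]

variable {Z C : Subgroup G} {U : Bool → Subgroup G}

/-- The geometry of the points `Z^g`. -/
theorem geo (hC : centralizer (Z : Set G) ≤ C) (hCZ : C ≤ normalizer (Z : Set G))
    (hZ : ∀ i, Z ≤ U i) (hU : ∀ i, U i ≤ centralizer (U i : Set G))
    (hN : ∀ i, C ≤ normalizer (U i : Set G)) :
    Geo (orb C Z) (fun i => orb C (U i)) where
  eqv_z g x := orb_smul hCZ g x
  eqv_U i g x := orb_smul (hN i) g x
  le i x := orb_mono (hZ i) x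
  abel i x := orb_comm (hU i) x
  cent := by
    intro x g hg
    obtain ⟨a, rfl⟩ := QuotientGroup.mk_surjective x
    rw [orb_mk hCZ, conj_centralizer, mem_conj] at hg
    exact mk_smul_eq (hC hg)

/-- The geometry for `|Z| = 2`, `N_G(U_i)` transitive on `U_i^#`. -/
theorem twoData (hC : centralizer (Z : Set G) ≤ C) (hCZ : C ≤ normalizer (Z : Set G))
    (hZ : ∀ i, Z ≤ U i) (hU : ∀ i, U i ≤ centralizer (U i : Set G))
    (hN : ∀ i, C ≤ normalizer (U i : Set G)) (hc : Nat.card Z = 2)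
    (ht : ∀ i, ∀ v ∈ U i, v ≠ 1 → ∃ g ∈ normalizer (U i : Set G), v ∈ MulAut.conj g • Z) :
    TwoData (orb C Z) (fun i => orb C (U i)) where
  toGeo := geo hC hCZ hZ hU hN
  card x := (card_orb x).trans hc
  inj := by
    intro x y hxy
    obtain ⟨a, rfl⟩ := QuotientGroup.mk_surjective x
    obtain ⟨b, rfl⟩ := QuotientGroup.mk_surjective y
    rw [orb_mk hCZ, orb_mk hCZ] at hxy
    rw [QuotientGroup.eq]
    apply hC
    apply normalizer_le_centralizer hc
    apply mem_normalizer_of_conj_eq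
    rw [← conj_conj, ← hxy, conj_conj, inv_mul_cancel, map_one, one_smul]
  pt := by
    intro i x v hv hv1
    obtain ⟨a, rfl⟩ := QuotientGroup.mk_surjective x
    rw [orb_mk (hN i), mem_conj] at hv
    obtain ⟨g, hg, hgv⟩ := ht i _ hv fun h => hv1 (by
      have h4 := congrArg (fun t => a * t * a⁻¹) h
      simpa [mul_assoc] using h4)
    refine ⟨QuotientGroup.mk (a * g), ?_, ?_⟩
    · rw [orb_mk hCZ, mem_conj]
      rw [mem_conj] at hgv
      simpa [mul_assoc] using hgv
    · rw [orb_mk (hN i), orb_mk (hN i), ← conj_conj, Pair.conj_eq_of_mem hg]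

/-- (2): the adjacent case. -/
theorem not_comm (hC : centralizer (Z : Set G) ≤ C) (hCZ : C ≤ normalizer (Z : Set G))
    (hZ : ∀ i, Z ≤ U i) (hU : ∀ i, U i ≤ centralizer (U i : Set G))
    (hN : ∀ i, C ≤ normalizer (U i : Set G)) (hc : Nat.card Z = 2)
    (ht : ∀ i, ∀ v ∈ U i, v ≠ 1 → ∃ g ∈ normalizer (U i : Set G), v ∈ MulAut.conj g • Z)
    {i j : Bool} {x : G}
    (h1 : U i ≤ normalizer ((MulAut.conj x • U j : Subgroup G) : Set G))
    (h2 : MulAut.conj x • U j ≤ normalizer (U i : Set G))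
    (h3 : ¬ U i ≤ centralizer ((MulAut.conj x • U j : Subgroup G) : Set G)) :
    i ≠ j ∧ ¬ U i ≤ centralizer (U j : Set G) := by
  have D := twoData hC hCZ hZ hU hN hc ht
  have e1 : orb C (U i) (QuotientGroup.mk 1) = U i := orb_one (hN i)
  have e2 : orb C (U j) (QuotientGroup.mk x) = MulAut.conj x • U j := orb_mk (hN j) x
  obtain ⟨hij, p, -, -, hp⟩ := D.exists_point (i := i) (j := j) (x := QuotientGroup.mk 1)
    (y := QuotientGroup.mk x) (by rw [e1, e2]; exact h1) (by rw [e1, e2]; exact h2)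
    (by rw [e1, e2]; exact h3)
  exact ⟨hij, fun h4 => hp (orb_comm h4 p)⟩

/-- **(4), `q = 2`**: `(Sp_2n(2), Sp_2m(2))` with `(n, m) ≠ (1, 1)` is impossible. -/
theorem sp_false (hC : centralizer (Z : Set G) ≤ C) (hCZ : C ≤ normalizer (Z : Set G))
    (hZ : ∀ i, Z ≤ U i) (hU : ∀ i, U i ≤ centralizer (U i : Set G))
    (hN : ∀ i, C ≤ normalizer (U i : Set G)) (hc : Nat.card Z = 2)
    (ht : ∀ i, ∀ v ∈ U i, v ≠ 1 → ∃ g ∈ normalizer (U i : Set G), v ∈ MulAut.conj g • Z)
    (hcom : ⁅U false, U true⁆ ≤ Z) (hne : ¬ U false ≤ centralizer (U true : Set G))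
    (hone : ∀ w ∈ U true, ∀ w' ∈ U true, w ∉ centralizer (U false : Set G) →
      w' ∉ centralizer (U false : Set G) → w⁻¹ * w' ∈ centralizer (U false : Set G))
    (hbig : ¬ U false ⊓ centralizer (U true : Set G) ≤ Z ∨
      ¬ U true ⊓ centralizer (U false : Set G) ≤ Z) : False := by
  have D := twoData hC hCZ hZ hU hN hc ht
  have R : Rank1 (orb C Z) (fun i => orb C (U i)) :=
    { toTwoData := D
      com := fun x => by
        rw [← orb_commutator]
        exact orb_mono hcom x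
      nonc := fun x h => hne (by
        rw [← orb_centralizer] at h
        exact (orb_le_iff x).mp h)
      one := fun x w hw w' hw' h1 h2 => by
        rw [← orb_centralizer] at h1 h2 ⊢
        rw [mem_orb] at hw hw' h1 h2 ⊢
        have h3 := hone _ hw _ hw' h1 h2
        have h4 : (x.out⁻¹ * w * x.out)⁻¹ * (x.out⁻¹ * w' * x.out) =
            x.out⁻¹ * (w⁻¹ * w') * x.out := by group
        rwa [h4] at h3 }
  refine R.false_of ?_ (QuotientGroup.mk 1)
  rcases hbig with h | h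
  · left
    intro x h1
    rw [← orb_centralizer, ← orb_inf, orb_le_iff] at h1
    exact h h1
  · right
    intro x h1
    rw [← orb_centralizer, ← orb_inf, orb_le_iff] at h1
    exact h h1

end coset

end Cfsg.Agent.Omega.NOThreeL

end

section


/-!
# NO-3L, the adjacent case in the frame (#12384 (2), (3), (4))

`S` a Sylow 2-subgroup, `Z = Ω₁(Z(S))`, `C = C_G(Z)`, `H ∈ L(S)` with `C ≤ H`, `U_H = zl S H`.

* `W S H = ⟨V_P^c : P ∈ P*(S), P ≤ H, c ∈ C⟩ ≤ U_H`;
* `comm_W` : in NOFF, `[U_H, U_K] ≤ Z` implies `[W_H, W_K] = 1`;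
* `irr_false` : if moreover `C` acts irreducibly on `U_H / Z` and on `U_K / Z` then `[U_H, U_K] = 1`;
* `adjacent` : `|Z| = 2`, `⟨H, K⟩` nonlocal, `H` (resp. `K`) transitive on `U_H^#` (resp. `U_K^#`):
  `[U_H, U_K] ≠ 1`;
* `sp_false_frame` : (4) in the frame.
-/

set_option autoImplicit false

namespace Cfsg.Agent.Omega.NOThreeL

open Subgroup MulAction Pointwise Cfsg Cfsg.Agent.ZN Cfsg.Agent.MinSimple
open Cfsg.Agent.Omega.NoFF.Basic (conj_conj mem_conj conj_le_iff conj_le_centralizer comm_symm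
  comm_mono)
open Cfsg.Agent.Omega.MinPar (IsPar IsParS IsLoc NonLoc)
open Cfsg.Agent.Omega.FrameNOFF (CZ)
open Cfsg.Agent.MinSimple.VModule (le_o2 mem_zc zc_le zc_le_zl zl_le_zc zl_comm zl_sq
  le_normalizer_zl zl_le inf_centralizer_zl o2_le_centralizer_zl normalizer_le_normalizer_zc)
open scoped commutatorElement

universe u v

variable {G : Type u} [Group G]

theorem le_normalizer_of_commutator {A B : Subgroup G} (h : ⁅A, B⁆ ≤ B) :
    A ≤ normalizer (B : Set G) := by
  refine le_normalizer_of fun u hu w hw => ?_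
  have h1 : ⁅u, w⁆ * w ∈ B := mul_mem (h (commutator_mem_commutator hu hw)) hw
  have h2 : u * w * u⁻¹ = ⁅u, w⁆ * w := by
    rw [commutatorElement_def]
    group
  rwa [h2]

/-- In the case NOFF, conjugates `V_P^a`, `V_{P'}^b` (`a, b ∈ N_G(Z)`) with `[V_P^a, V_{P'}^b] ≤ Z`
commute. -/
theorem comm_of_not_FF {S : Subgroup G} (hF : ¬ FF S) {P P' : Subgroup G} (hP : IsParS S P)
    (hP' : IsParS S P') {a b : G} (ha : a ∈ normalizer (zc S : Set G))
    (hb : b ∈ normalizer (zc S : Set G))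
    (h : ⁅MulAut.conj a • zl S P, MulAut.conj b • zl S P'⁆ ≤ zc S) :
    ⁅MulAut.conj a • zl S P, MulAut.conj b • zl S P'⁆ = ⊥ := by
  have h1 : ⁅zl S P, MulAut.conj (a⁻¹ * b) • zl S P'⁆ ≤ zc S := by
    have h2 := (conj_le_iff (g := a⁻¹)).2 h
    rw [conj_smul_commutator, conj_conj, conj_conj, inv_mul_cancel, map_one, one_smul,
      Pair.conj_eq_of_mem (inv_mem ha)] at h2
    exact h2
  have h3 : ⁅zl S P, MulAut.conj (a⁻¹ * b) • zl S P'⁆ = ⊥ := by
    by_contra h4
    refine hF ⟨P, P', a⁻¹ * b, hP, hP', ?_, ?_, h4⟩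
    · refine le_normalizer_of_commutator (h1.trans ?_)
      rw [← Pair.conj_eq_of_mem (mul_mem (inv_mem ha) hb)]
      exact conj_le_iff.2 (zc_le_zl _ _)
    · rw [commutator_comm] at h1
      exact le_normalizer_of_commutator (h1.trans (zc_le_zl _ _))
  have h5 : MulAut.conj a • ⁅zl S P, MulAut.conj (a⁻¹ * b) • zl S P'⁆ =
      ⁅MulAut.conj a • zl S P, MulAut.conj b • zl S P'⁆ := by
    rw [conj_smul_commutator, conj_conj, mul_inv_cancel_left]
  rw [← h5, h3, Subgroup.smul_bot]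

/-- `W_H = ⟨V_P^c : P ∈ P*(S), P ≤ H, c ∈ C_G(Z)⟩`. -/
def W (S H : Subgroup G) : Subgroup G :=
  ⨆ (P : {P : Subgroup G // IsParS S P ∧ P ≤ H}) (c : CZ S), MulAut.conj (c : G) • zl S (P : Subgroup G)

theorem le_W {S H P : Subgroup G} (hP : IsParS S P) (hPH : P ≤ H) {c : G} (hc : c ∈ CZ S) :
    MulAut.conj c • zl S P ≤ W S H :=
  (le_iSup (fun c : CZ S => MulAut.conj (c : G) • zl S P) ⟨c, hc⟩).trans
    (le_iSup (fun P : {P : Subgroup G // IsParS S P ∧ P ≤ H} =>
      ⨆ c : CZ S, MulAut.conj (c : G) • zl S (P : Subgroup G)) ⟨P, hP, hPH⟩)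

theorem zl_le_W {S H P : Subgroup G} (hP : IsParS S P) (hPH : P ≤ H) : zl S P ≤ W S H := by
  have h := le_W hP hPH (one_mem (CZ S))
  rwa [map_one, one_smul] at h

theorem W_le {S H A : Subgroup G}
    (h : ∀ P, IsParS S P → P ≤ H → ∀ c ∈ CZ S, MulAut.conj c • zl S P ≤ A) : W S H ≤ A :=
  iSup_le fun P => iSup_le fun c => h P P.2.1 P.2.2 c c.2

theorem zl_mono {S H K : Subgroup G} (h : H ≤ K) : zl S H ≤ zl S K :=
  zl_le (zc_le_zl S K) (h.trans (le_normalizer_zl S K))

theorem W_le_zl {S H : Subgroup G} (hC : CZ S ≤ H) : W S H ≤ zl S H :=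
  W_le fun P _ hPH c hc => by
    have h1 : MulAut.conj c • zl S P ≤ MulAut.conj c • zl S H := conj_le_iff.2 (zl_mono hPH)
    rwa [Pair.conj_eq_of_mem (le_normalizer_zl S H (hC hc))] at h1

theorem CZ_le_normalizer_W (S H : Subgroup G) : CZ S ≤ normalizer (W S H : Set G) := by
  refine le_normalizer_of fun u hu w hw => ?_
  have h1 : W S H ≤ MulAut.conj u⁻¹ • W S H := by
    refine W_le fun P hP hPH c hc => ?_
    have h2 := le_W hP hPH (mul_mem hu hc)
    have h3 := (conj_le_iff (g := u⁻¹)).2 h2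
    rwa [conj_conj, inv_mul_cancel_left] at h3
  have h2 := h1 hw
  rw [mem_conj, inv_inv] at h2
  exact h2

/-- In the case NOFF, `[U_H, U_K] ≤ Z` implies `[W_H, W_K] = 1`. -/
theorem comm_W {S H K : Subgroup G} (hF : ¬ FF S) (hCH : CZ S ≤ H) (hCK : CZ S ≤ K)
    (h : ⁅zl S H, zl S K⁆ ≤ zc S) : W S H ≤ centralizer (W S K : Set G) := by
  refine W_le fun P hP hPH a ha => ?_
  rw [Subgroup.le_centralizer_iff]
  refine W_le fun P' hP' hPK b hb => ?_
  rw [Subgroup.le_centralizer_iff, ← commutator_eq_bot_iff_le_centralizer]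
  refine comm_of_not_FF hF hP hP' (centralizer_le_normalizer _ ha)
    (centralizer_le_normalizer _ hb) (le_trans ?_ h)
  refine commutator_mono ?_ ?_
  · exact (le_W hP hPH ha).trans (W_le_zl hCH)
  · exact (le_W hP' hPK hb).trans (W_le_zl hCK)

variable [Finite G]

/-- `W_H > Z` for `H ∈ L(S)` not normalising `Z`. -/
theorem W_not_le (S : Sylow 2 G) {H : Subgroup G} (hH : IsLoc (S : Subgroup G) H)
    (hn : ¬ H ≤ normalizer (zc (S : Subgroup G) : Set G)) :
    zc (S : Subgroup G) ≤ W (S : Subgroup G) H ∧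
      ¬ W (S : Subgroup G) H ≤ zc (S : Subgroup G) := by
  obtain ⟨P, hP, hPH, hPn⟩ := hH.exists_not_le S
    (inf_le_right.trans (normalizer_le_normalizer_zc _)) hn
  have hPs : IsParS (S : Subgroup G) P := ⟨hP, hPn⟩
  refine ⟨(zc_le_zl _ _).trans (zl_le_W hPs hPH), fun h => hPn ?_⟩
  have h1 : zl (S : Subgroup G) P = zc (S : Subgroup G) :=
    le_antisymm ((zl_le_W hPs hPH).trans h) (zc_le_zl _ _)
  rw [← h1]
  exact le_normalizer_zl _ _

/-- `C_G(Z)` acts irreducibly on `U_H / Z`. -/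
def Irr (S H : Subgroup G) : Prop :=
  ∀ A : Subgroup G, zc S ≤ A → A ≤ zl S H → CZ S ≤ normalizer (A : Set G) →
    A = zc S ∨ A = zl S H

theorem W_eq (S : Sylow 2 G) {H : Subgroup G} (hH : IsLoc (S : Subgroup G) H)
    (hC : CZ (S : Subgroup G) ≤ H) (hn : ¬ H ≤ normalizer (zc (S : Subgroup G) : Set G))
    (hi : Irr (S : Subgroup G) H) : W (S : Subgroup G) H = zl (S : Subgroup G) H := by
  obtain ⟨h1, h2⟩ := W_not_le S hH hn
  rcases hi _ h1 (W_le_zl hC) (CZ_le_normalizer_W _ _) with h3 | h3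
  · exact absurd h3.le h2
  · exact h3

/-- NOFF, `[U_H, U_K] ≤ Z`, `C_G(Z)` irreducible on `U_H / Z` and `U_K / Z`: `[U_H, U_K] = 1`. -/
theorem irr_comm (S : Sylow 2 G) (hF : ¬ FF (S : Subgroup G)) {H K : Subgroup G}
    (hH : IsLoc (S : Subgroup G) H) (hK : IsLoc (S : Subgroup G) K)
    (hCH : CZ (S : Subgroup G) ≤ H) (hCK : CZ (S : Subgroup G) ≤ K)
    (hnH : ¬ H ≤ normalizer (zc (S : Subgroup G) : Set G))
    (hnK : ¬ K ≤ normalizer (zc (S : Subgroup G) : Set G))
    (hiH : Irr (S : Subgroup G) H) (hiK : Irr (S : Subgroup G) K)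
    (h : ⁅zl (S : Subgroup G) H, zl (S : Subgroup G) K⁆ ≤ zc (S : Subgroup G)) :
    ⁅zl (S : Subgroup G) H, zl (S : Subgroup G) K⁆ = ⊥ := by
  have h1 := comm_W hF hCH hCK h
  rw [W_eq S hH hCH hnH hiH, W_eq S hK hCK hnK hiK] at h1
  exact commutator_eq_bot_iff_le_centralizer.mpr h1

/-- `H` is transitive on `U_H^#` (`|Z| = 2`). -/
def Trans (S H : Subgroup G) : Prop :=
  ∀ v ∈ zl S H, v ≠ 1 → ∃ g ∈ normalizer (zl S H : Set G), v ∈ MulAut.conj g • zc S

section bool

variable {S : Sylow 2 G} {H : Bool → Subgroup G}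

/-- The geometry of two overgroups of `C_G(Z)`. -/
theorem geo_frame (hG : IsCharacteristicTwoType G) (hH : ∀ i, IsLoc (S : Subgroup G) (H i))
    (hC : ∀ i, CZ (S : Subgroup G) ≤ H i) :
    Geo (orb (CZ (S : Subgroup G)) (zc (S : Subgroup G)))
      (fun i => orb (CZ (S : Subgroup G)) (zl (S : Subgroup G) (H i))) :=
  geo le_rfl (centralizer_le_normalizer _) (fun _ => zc_le_zl _ _)
    (fun i => (Pair.zl_abel hG S (hH i)).1) (fun i => (hC i).trans (le_normalizer_zl _ _))

/-- `|Z| = 2`, `H_i` transitive on `U_i^#`. -/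
theorem twoData_frame (hG : IsCharacteristicTwoType G) (hH : ∀ i, IsLoc (S : Subgroup G) (H i))
    (hC : ∀ i, CZ (S : Subgroup G) ≤ H i) (hc : Nat.card (zc (S : Subgroup G)) = 2)
    (ht : ∀ i, Trans (S : Subgroup G) (H i)) :
    TwoData (orb (CZ (S : Subgroup G)) (zc (S : Subgroup G)))
      (fun i => orb (CZ (S : Subgroup G)) (zl (S : Subgroup G) (H i))) :=
  twoData le_rfl (centralizer_le_normalizer _) (fun _ => zc_le_zl _ _)
    (fun i => (Pair.zl_abel hG S (hH i)).1) (fun i => (hC i).trans (le_normalizer_zl _ _)) hc ht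

/-- **The adjacent case** (#12384 (1), (2)): `|Z| = 2`, `H_i` transitive on `U_i^#`, `⟨H_1, H_2⟩`
nonlocal: `[U_1, U_2] ≠ 1`. -/
theorem adjacent (hG : IsCharacteristicTwoType G) (hH : ∀ i, IsLoc (S : Subgroup G) (H i))
    (hC : ∀ i, CZ (S : Subgroup G) ≤ H i) (hc : Nat.card (zc (S : Subgroup G)) = 2)
    (ht : ∀ i, Trans (S : Subgroup G) (H i)) (core : o2 (⨆ i, H i) = ⊥) :
    ⁅zl (S : Subgroup G) (H false), zl (S : Subgroup G) (H true)⁆ ≠ ⊥ := by
  obtain ⟨i, j, x, -, h1, h2, h3⟩ := Pair.exists_mutual_loc hG S hH hC core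
  obtain ⟨hij, h4⟩ := not_comm (Z := zc (S : Subgroup G)) (C := CZ (S : Subgroup G))
    (U := fun i => zl (S : Subgroup G) (H i)) le_rfl (centralizer_le_normalizer _)
    (fun _ => zc_le_zl _ _) (fun i => (Pair.zl_abel hG S (hH i)).1)
    (fun i => (hC i).trans (le_normalizer_zl _ _)) hc ht h1 h2
    (fun h => h3 (commutator_eq_bot_iff_le_centralizer.mpr h))
  intro h5
  rw [commutator_eq_bot_iff_le_centralizer] at h5
  rcases i with _ | _ <;> rcases j with _ | _
  · exact hij rfl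
  · exact h4 h5
  · exact h4 (comm_symm h5)
  · exact hij rfl

/-- **(4) in the frame**: `|Z| = 2`, `H_i` transitive on `U_i^#`, `⟨H_1, H_2⟩` nonlocal,
`[U_1, U_2] ≤ Z`, `|U_2 : C_{U_2}(U_1)| ≤ 2`, `C_{U_1}(U_2) > Z` or `C_{U_2}(U_1) > Z`:
contradiction. -/
theorem sp_false_frame (hG : IsCharacteristicTwoType G) (hH : ∀ i, IsLoc (S : Subgroup G) (H i))
    (hC : ∀ i, CZ (S : Subgroup G) ≤ H i) (hc : Nat.card (zc (S : Subgroup G)) = 2)
    (ht : ∀ i, Trans (S : Subgroup G) (H i)) (core : o2 (⨆ i, H i) = ⊥)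
    (hcom : ⁅zl (S : Subgroup G) (H false), zl (S : Subgroup G) (H true)⁆ ≤ zc (S : Subgroup G))
    (hone : ∀ w ∈ zl (S : Subgroup G) (H true), ∀ w' ∈ zl (S : Subgroup G) (H true),
      w ∉ centralizer (zl (S : Subgroup G) (H false) : Set G) →
      w' ∉ centralizer (zl (S : Subgroup G) (H false) : Set G) →
      w⁻¹ * w' ∈ centralizer (zl (S : Subgroup G) (H false) : Set G))
    (hbig : ¬ zl (S : Subgroup G) (H false) ⊓
        centralizer (zl (S : Subgroup G) (H true) : Set G) ≤ zc (S : Subgroup G) ∨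
      ¬ zl (S : Subgroup G) (H true) ⊓
        centralizer (zl (S : Subgroup G) (H false) : Set G) ≤ zc (S : Subgroup G)) : False := by
  have h1 := adjacent hG hH hC hc ht core
  exact sp_false (Z := zc (S : Subgroup G)) (C := CZ (S : Subgroup G))
    (U := fun i => zl (S : Subgroup G) (H i)) le_rfl (centralizer_le_normalizer _)
    (fun _ => zc_le_zl _ _) (fun i => (Pair.zl_abel hG S (hH i)).1)
    (fun i => (hC i).trans (le_normalizer_zl _ _)) hc ht hcom
    (fun h => h1 (commutator_eq_bot_iff_le_centralizer.mpr h)) hone hbig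

/-- **(3), irreducible case, in the frame**: NOFF, `|Z| = 2`, `H_i` transitive on `U_i^#`,
`⟨H_1, H_2⟩` nonlocal, `[U_1, U_2] ≤ Z`, `C_G(Z)` irreducible on `U_i / Z` (`SL_n(2)`):
contradiction. -/
theorem irr_false_frame (hG : IsCharacteristicTwoType G) (hF : ¬ FF (S : Subgroup G))
    (hH : ∀ i, IsLoc (S : Subgroup G) (H i))
    (hC : ∀ i, CZ (S : Subgroup G) ≤ H i) (hc : Nat.card (zc (S : Subgroup G)) = 2)
    (ht : ∀ i, Trans (S : Subgroup G) (H i)) (core : o2 (⨆ i, H i) = ⊥)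
    (hcom : ⁅zl (S : Subgroup G) (H false), zl (S : Subgroup G) (H true)⁆ ≤ zc (S : Subgroup G))
    (hi : ∀ i, Irr (S : Subgroup G) (H i)) : False := by
  have h1 := adjacent hG hH hC hc ht core
  have hn : ∀ i, ¬ H i ≤ normalizer (zc (S : Subgroup G) : Set G) := by
    intro i h2
    have h3 : zl (S : Subgroup G) (H i) = zc (S : Subgroup G) :=
      le_antisymm (zl_le le_rfl h2) (zc_le_zl _ _)
    apply h1
    rw [commutator_eq_bot_iff_le_centralizer]
    rcases i with _ | _
    · rw [h3]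
      exact comm_symm (((Pair.zl_abel hG S (hH true)).1).trans (centralizer_le (zc_le_zl _ _)))
    · rw [h3]
      exact ((Pair.zl_abel hG S (hH false)).1).trans (centralizer_le (zc_le_zl _ _))
  exact h1 (irr_comm S hF (hH false) (hH true) (hC false) (hC true) (hn false) (hn true)
    (hi false) (hi true) hcom)

end bool

end Cfsg.Agent.Omega.NOThreeL

end

section


/-!
# NO-3L: the points of `U_H` are connected by lines

`conn` : `S ≤ H ∈ L(S)`; a subgroup `A` with `Z ≤ A` and `W_H^h ≤ A` whenever `Z^h ≤ A`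
(`h ∈ N_G(U_H)`) contains `U_H = ⟨Z^H⟩`; `W_H = ⟨V_P^c : P ∈ P*(S), P ≤ H, c ∈ C_G(Z)⟩` (or any subgroup
containing all `V_P`, `P ∈ P*(S)`, `P ≤ H`).
-/

set_option autoImplicit false

namespace Cfsg.Agent.Omega.NOThreeL

open Subgroup MulAction Pointwise Cfsg Cfsg.Agent.ZN Cfsg.Agent.MinSimple
open Cfsg.Agent.Omega.NoFF.Basic (conj_conj mem_conj conj_le_iff)
open Cfsg.Agent.Omega.MinPar (IsPar IsParS IsLoc NonLoc)

universe u

variable {G : Type u} [Group G]

/-- the elements which stabilise the set `{h ∈ N : Z^h ≤ A}` from the right -/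
def rstab (N Z A : Subgroup G) : Subgroup G where
  carrier := {y | y ∈ N ∧ ∀ h ∈ N, MulAut.conj h • Z ≤ A ↔ MulAut.conj (h * y) • Z ≤ A}
  mul_mem' := by
    rintro a b ⟨ha, ha2⟩ ⟨hb, hb2⟩
    refine ⟨mul_mem ha hb, fun h hh => ?_⟩
    rw [← mul_assoc, ha2 h hh]
    exact hb2 (h * a) (mul_mem hh ha)
  one_mem' := ⟨one_mem _, fun h _ => by rw [mul_one]⟩
  inv_mem' := by
    rintro a ⟨ha, ha2⟩
    refine ⟨inv_mem ha, fun h hh => ?_⟩
    have h1 := ha2 (h * a⁻¹) (mul_mem hh (inv_mem ha))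
    rw [inv_mul_cancel_right] at h1
    exact h1.symm

theorem mem_rstab {N Z A : Subgroup G} {y : G} : y ∈ rstab N Z A ↔
    y ∈ N ∧ ∀ h ∈ N, MulAut.conj h • Z ≤ A ↔ MulAut.conj (h * y) • Z ≤ A := Iff.rfl

/-- it is enough to check one direction, for all elements of a subgroup -/
theorem le_rstab {N Z A P : Subgroup G} (hPN : P ≤ N)
    (h : ∀ y ∈ P, ∀ h ∈ N, MulAut.conj h • Z ≤ A → MulAut.conj (h * y) • Z ≤ A) :
    P ≤ rstab N Z A := by
  intro y hy
  refine mem_rstab.mpr ⟨hPN hy, fun g hg => ⟨h y hy g hg, fun h1 => ?_⟩⟩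
  have h2 := h y⁻¹ (inv_mem hy) (g * y) (mul_mem hg (hPN hy)) h1
  rwa [mul_inv_cancel_right] at h2

/-- **The points of `U_H` are connected.** -/
theorem conn [Finite G] (S : Sylow 2 G) {H W : Subgroup G} (hH : IsLoc (S : Subgroup G) H)
    (hW : ∀ P, IsParS (S : Subgroup G) P → P ≤ H → zl (S : Subgroup G) P ≤ W) (A : Subgroup G)
    (hZ : zc (S : Subgroup G) ≤ A)
    (h : ∀ g ∈ normalizer (zl (S : Subgroup G) H : Set G),
      MulAut.conj g • zc (S : Subgroup G) ≤ A → MulAut.conj g • W ≤ A) :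
    zl (S : Subgroup G) H ≤ A := by
  have hHN : H ≤ normalizer (zl (S : Subgroup G) H : Set G) := VModule.le_normalizer_zl _ _
  have hfix : ∀ P : Subgroup G, P ≤ H → P ≤ normalizer (zc (S : Subgroup G) : Set G) →
      P ≤ rstab (normalizer (zl (S : Subgroup G) H : Set G)) (zc (S : Subgroup G)) A := by
    intro P hPH hPn
    refine le_rstab (hPH.trans hHN) fun y hy g _ h1 => ?_
    rwa [← conj_conj, Pair.conj_eq_of_mem (hPn hy)]
  have key : H ≤ rstab (normalizer (zl (S : Subgroup G) H : Set G)) (zc (S : Subgroup G)) A := by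
    refine hH.le_of_forall S ?_ fun P hP hPH => ?_
    · exact hfix _ inf_le_left (inf_le_right.trans (VModule.normalizer_le_normalizer_zc _))
    · by_cases hPs : P ≤ normalizer (zc (S : Subgroup G) : Set G)
      · exact hfix P hPH hPs
      · refine le_rstab (hPH.trans hHN) fun y hy g hg h1 => ?_
        refine le_trans ?_ (h g hg h1)
        rw [← conj_conj]
        refine conj_le_iff.2 (le_trans ?_ (hW P ⟨hP, hPs⟩ hPH))
        have h2 : MulAut.conj y • zc (S : Subgroup G) ≤ MulAut.conj y • zl (S : Subgroup G) P :=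
          conj_le_iff.2 (VModule.zc_le_zl _ _)
        rwa [Pair.conj_eq_of_mem (VModule.le_normalizer_zl _ _ hy)] at h2
  refine iSup_le fun g => ?_
  have h1 := ((mem_rstab.mp (key g.2)).2 1 (one_mem _)).mp (by rwa [map_one, one_smul])
  rw [one_mul] at h1
  exact h1

/-- the same for `W S H`. -/
theorem conn_W [Finite G] (S : Sylow 2 G) {H : Subgroup G} (hH : IsLoc (S : Subgroup G) H)
    (A : Subgroup G) (hZ : zc (S : Subgroup G) ≤ A)
    (h : ∀ g ∈ normalizer (zl (S : Subgroup G) H : Set G),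
      MulAut.conj g • zc (S : Subgroup G) ≤ A → MulAut.conj g • W (S : Subgroup G) H ≤ A) :
    zl (S : Subgroup G) H ≤ A :=
  conn S hH (fun _ hP hPH => zl_le_W hP hPH) A hZ h

end Cfsg.Agent.Omega.NOThreeL

end

section


/-!
# NO-3L: the closure argument in the frame

`clo_frame` : `S` a Sylow 2-subgroup of `G`, `Z = Ω₁Z(S)`, `C = C_G(Z) ≤ H ∈ L(S)`, `U = ⟨Z^H⟩`,
`Z ≤ W ≤ U` normalised by `C` and containing all `V_P`, `P ∈ P*(S)`, `P ≤ H`; `M` a subgroup with
`Z ≤ M`, normalised by `U` and centralised by `W`. If every `u ∈ U`, `u ∉ C(M)` has a `g` with `Z^g ≤ M`,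
`U^g ∩ U^(ug) ∩ C(M) = 1`, `U ∩ U^g ∩ C(M) = 1`, `|C_U(M)| ≤ |C_{U^g}(M)|`, then `[U, M] = 1`.
-/

set_option autoImplicit false

namespace Cfsg.Agent.Omega.NOThreeL

open Subgroup MulAction Pointwise Cfsg Cfsg.Agent.ZN Cfsg.Agent.MinSimple
open Cfsg.Agent.Omega.NoFF.Basic (conj_conj mem_conj conj_le_iff)
open Cfsg.Agent.Omega.MinPar (IsPar IsParS IsLoc NonLoc)
open Cfsg.Agent.Omega.FrameNOFF (CZ)

universe u

variable {G : Type u} [Group G] [Finite G]

/-- **The closure argument in the frame.** -/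
theorem clo_frame (hG : IsCharacteristicTwoType G) (S : Sylow 2 G) {H W M : Subgroup G}
    (hH : IsLoc (S : Subgroup G) H) (hC : CZ (S : Subgroup G) ≤ H)
    (hZW : zc (S : Subgroup G) ≤ W) (hWU : W ≤ zl (S : Subgroup G) H)
    (hCW : CZ (S : Subgroup G) ≤ normalizer (W : Set G))
    (hPW : ∀ P, IsParS (S : Subgroup G) P → P ≤ H → zl (S : Subgroup G) P ≤ W)
    (hZM : zc (S : Subgroup G) ≤ M) (hUM : zl (S : Subgroup G) H ≤ normalizer (M : Set G))
    (hWM : W ≤ centralizer (M : Set G))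
    (opp : ∀ u ∈ zl (S : Subgroup G) H, u ∉ centralizer (M : Set G) → ∃ g : G,
      MulAut.conj g • zc (S : Subgroup G) ≤ M ∧
      MulAut.conj g • zl (S : Subgroup G) H ⊓ MulAut.conj (u * g) • zl (S : Subgroup G) H ⊓
        centralizer (M : Set G) = ⊥ ∧
      zl (S : Subgroup G) H ⊓ MulAut.conj g • zl (S : Subgroup G) H ⊓
        centralizer (M : Set G) = ⊥ ∧
      Nat.card (zl (S : Subgroup G) H ⊓ centralizer (M : Set G) : Subgroup G) ≤
        Nat.card (MulAut.conj g • zl (S : Subgroup G) H ⊓ centralizer (M : Set G) : Subgroup G)) :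
    zl (S : Subgroup G) H ≤ centralizer (M : Set G) := by
  have hCU : CZ (S : Subgroup G) ≤ normalizer (zl (S : Subgroup G) H : Set G) :=
    hC.trans (VModule.le_normalizer_zl _ _)
  have hCZ : CZ (S : Subgroup G) ≤ normalizer (zc (S : Subgroup G) : Set G) :=
    centralizer_le_normalizer _
  have hgeo := geo (Z := zc (S : Subgroup G)) (C := CZ (S : Subgroup G))
    (U := fun _ => zl (S : Subgroup G) H) le_rfl hCZ (fun _ => VModule.zc_le_zl _ _)
    (fun _ => (Pair.zl_abel hG S hH).1) (fun _ => hCU)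
  have e1 : ∀ {A : Subgroup G}, CZ (S : Subgroup G) ≤ normalizer (A : Set G) →
      orb (CZ (S : Subgroup G)) A (QuotientGroup.mk 1) = A := fun h => orb_one h
  have D : Closure.Clo (orb (CZ (S : Subgroup G)) (zc (S : Subgroup G)))
      (orb (CZ (S : Subgroup G)) (zl (S : Subgroup G) H)) (orb (CZ (S : Subgroup G)) W) M
      (QuotientGroup.mk 1) :=
    { eqv_U := fun g x => orb_smul hCU g x
      eqv_W := fun g x => orb_smul hCW g x
      abel := hgeo.abel false _
      cent := hgeo.cent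
      zM := by rw [e1 hCZ]; exact hZM
      UM := by rw [e1 hCU]; exact hUM
      opp := by
        rw [e1 hCU]
        intro u hu huM
        obtain ⟨g, h1, h2, h3, h4⟩ := opp u hu huM
        refine ⟨QuotientGroup.mk g, ?_, ?_, ?_, ?_⟩
        · rw [orb_mk hCZ]
          exact h1
        · have h5 : u • (QuotientGroup.mk g : G ⧸ CZ (S : Subgroup G)) =
            QuotientGroup.mk (u * g) := rfl
          rw [h5, orb_mk hCU, orb_mk hCU]
          exact h2
        · rw [orb_mk hCU]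
          exact h3
        · rw [orb_mk hCU]
          exact h4
      WU := orb_mono hWU _
      WM := by rw [e1 hCW]; exact hWM
      zW := orb_mono hZW _
      conn := by
        rw [e1 hCU]
        intro A hZA hA
        rw [e1 hCZ] at hZA
        refine conn S hH hPW A hZA fun g hg h1 => ?_
        have h5 : g • (QuotientGroup.mk 1 : G ⧸ CZ (S : Subgroup G)) = QuotientGroup.mk g := by
          change (QuotientGroup.mk (g * 1) : G ⧸ CZ (S : Subgroup G)) = _
          rw [mul_one]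
        have h2 := hA g hg
        rw [h5, orb_mk hCZ, orb_mk hCW] at h2
        exact h2 h1 }
  have h1 := D.le
  rwa [e1 hCU] at h1

end Cfsg.Agent.Omega.NOThreeL

end

end
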