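import Cfsg.Agent.Mrg.Omega.VP
import Cfsg.Agent.Mrg.Omega.Node.NO3L
import Cfsg.Agent.Mrg.Omega.FFMutual

-- merged: Cfsg.Agent.Mrg.Omega.NOThreeL.PointStab
section

/-!
# NO-3L: the point stabiliser lemma (text `bb OMEGA`, helper582, LEMMA P)

K-free. `H i` are subgroups with `C_G(Z) ≤ H i`, `U i` an abelian normal subgroup of `H i` containing `Z`,
`O₂(H i) ≤ O₂(C_G(Z))`. Words `l` in the `H k` are galleries; `conj l.prod • U j` is the module of
type `j` at the last point of the gallery.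

* `word_le` : if no pair of modules at distance `< l.length` is noncommuting, then
  `(U j)^x ≤ O₂(C_G(Z))`, `x = l.prod`, and `(U j)^x ≤ O₂(H k)` if the first letter of `l` is in `H k`;
* `exists_crit_or` : there is a mutual noncommuting pair `U i`, `(U j)^x` with
  `(U j)^x ≤ O₂(C_G(Z))` and `U i ≤ O₂(C_G(Z))^x`, or everything commutes;
* `exists_crit_loc` : the same in the frame (`H i ∈ L(S)`, `C_G(Ω₁Z(S)) ≤ H i`, `O₂(⟨H i⟩) = 1`).
-/

set_option autoImplicit false

namespace Cfsg.Agent.Omega.NOThreeL.PointStab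

open Subgroup MulAction Pointwise Cfsg Cfsg.Agent.ZN Cfsg.Agent.MinSimple
open Cfsg.Agent.Omega.NoFF.Basic (conj_conj mem_conj conj_le_iff conj_le_centralizer comm_symm
  comm_mono)
open Cfsg.Agent.Omega.NOThreeL.Pair
open Cfsg.Agent.MinSimple.VModule (o2_le o2_isPGroup le_normalizer_o2 le_o2 o2_le_of_sylow
  normalizer_le_normalizer_zc)
open scoped commutatorElement

universe u v

section abstr

variable {G : Type u} [Group G] {ι : Type v}

/-- All pairs of modules at gallery distance `< n` commute. -/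
def Good (H U : ι → Subgroup G) (n : ℕ) : Prop :=
  ∀ (i j : ι) (l : List G), l.length < n → (∀ y ∈ l, ∃ k, y ∈ H k) →
    U i ≤ centralizer ((MulAut.conj l.prod • U j : Subgroup G) : Set G)

theorem Good.mono {H U : ι → Subgroup G} {m n : ℕ} (h : Good H U n) (hmn : m ≤ n) : Good H U m :=
  fun i j l hl => h i j l (hl.trans_le hmn)

/-- the part of `O₂(C_G(Z))` centralising `U k ≥ Z` is in `O₂(H k)`. -/
theorem inf_le_o2 {Z U H : Subgroup G} (hZ : Z ≤ U) (hC : centralizer (Z : Set G) ≤ H)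
    (hN : H ≤ normalizer (U : Set G)) :
    o2 (centralizer (Z : Set G)) ⊓ centralizer (U : Set G) ≤ o2 H := by
  have hCU : centralizer (U : Set G) ≤ centralizer (Z : Set G) := centralizer_le hZ
  have h1 : o2 (centralizer (Z : Set G)) ⊓ centralizer (U : Set G) ≤
      o2 (centralizer (U : Set G)) := by
    refine le_o2 inf_le_right ((o2_isPGroup _).to_le inf_le_left) ?_
    intro g hg
    have h2 := le_normalizer_o2 (centralizer (Z : Set G)) (hCU hg)
    rw [mem_normalizer_iff] at h2 ⊢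
    intro x
    rw [Subgroup.mem_inf, Subgroup.mem_inf, h2 x]
    refine and_congr_right fun _ => ⟨fun hx => mul_mem (mul_mem hg hx) (inv_mem hg), fun hx => ?_⟩
    have h3 := mul_mem (mul_mem (inv_mem hg) hx) hg
    simpa [mul_assoc] using h3
  refine h1.trans (le_o2 ((o2_le _).trans (hCU.trans hC)) (o2_isPGroup _) ?_)
  intro g hg
  have h4 : ∀ a ∈ normalizer (U : Set G), ∀ x ∈ centralizer (U : Set G),
      a * x * a⁻¹ ∈ centralizer (U : Set G) := by
    intro a ha x hx
    rw [mem_centralizer_iff]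
    intro u hu
    have h5 : a⁻¹ * u * a ∈ U := by
      have h6 := (mem_normalizer_iff.mp (inv_mem ha) u).mp hu
      rwa [inv_inv] at h6
    have h6 := mem_centralizer_iff.mp hx _ h5
    have h7 := congrArg (fun t => a * t * a⁻¹) h6
    simpa [mul_assoc] using h7
  have h5 : g ∈ normalizer (centralizer (U : Set G) : Set G) := by
    rw [mem_normalizer_iff]
    intro x
    refine ⟨h4 g (hN hg) x, fun hx => ?_⟩
    have h6 := h4 g⁻¹ (inv_mem (hN hg)) _ hx
    simpa [mul_assoc] using h6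
  exact Cfsg.Agent.Omega.normalizer_le_normalizer_o2' _ h5

/-- **LEMMA P.** -/
theorem word_le {Z : Subgroup G} {H U : ι → Subgroup G}
    (hZ : ∀ i, Z ≤ U i) (hC : ∀ i, centralizer (Z : Set G) ≤ H i)
    (hN : ∀ i, H i ≤ normalizer (U i : Set G)) (hO : ∀ i, o2 (H i) ≤ o2 (centralizer (Z : Set G)))
    (hUO : ∀ i, U i ≤ o2 (H i)) (j : ι) :
    ∀ l : List G, (∀ y ∈ l, ∃ k, y ∈ H k) → Good H U l.length →
      MulAut.conj l.prod • U j ≤ o2 (centralizer (Z : Set G)) ∧
      ∀ y l', l = y :: l' → ∀ k, y ∈ H k → MulAut.conj l.prod • U j ≤ o2 (H k)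
  | [], _, _ => by
    refine ⟨?_, fun y l' h => absurd h (by simp)⟩
    rw [List.prod_nil, map_one, one_smul]
    exact (hUO j).trans (hO j)
  | y :: l, hl, hg => by
    have ih := word_le hZ hC hN hO hUO j l (fun x hx => hl x (List.mem_cons_of_mem _ hx))
      (hg.mono (by simp))
    have key : ∀ k, y ∈ H k → MulAut.conj (y :: l).prod • U j ≤ o2 (H k) := by
      intro k hk
      have h1 : U k ≤ centralizer ((MulAut.conj l.prod • U j : Subgroup G) : Set G) :=
        hg k j l (by simp) (fun x hx => hl x (List.mem_cons_of_mem _ hx))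
      have h2 : MulAut.conj l.prod • U j ≤ o2 (H k) :=
        (le_inf ih.1 (comm_symm h1)).trans (inf_le_o2 (hZ k) (hC k) (hN k))
      rw [List.prod_cons, ← conj_conj]
      have h3 : MulAut.conj y • o2 (H k) = o2 (H k) :=
        conj_eq_of_mem (le_normalizer_o2 _ hk)
      rw [← h3]
      exact conj_le_iff.2 h2
    refine ⟨?_, ?_⟩
    · obtain ⟨k, hk⟩ := hl y (by simp)
      exact (key k hk).trans (hO k)
    · intro y' l' h k hk
      obtain ⟨rfl, rfl⟩ := List.cons.inj h
      exact key k hk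

/-- Reversing a gallery. -/
theorem Good.symm_word {Z : Subgroup G} {H U : ι → Subgroup G}
    (hZ : ∀ i, Z ≤ U i) (hC : ∀ i, centralizer (Z : Set G) ≤ H i)
    (hN : ∀ i, H i ≤ normalizer (U i : Set G)) (hO : ∀ i, o2 (H i) ≤ o2 (centralizer (Z : Set G)))
    (hUO : ∀ i, U i ≤ o2 (H i)) (i : ι) (l : List G) (hl : ∀ y ∈ l, ∃ k, y ∈ H k)
    (hg : Good H U l.length) :
    U i ≤ MulAut.conj l.prod • o2 (centralizer (Z : Set G)) := by
  have h1 := (word_le hZ hC hN hO hUO i (l.reverse.map (·⁻¹)) (by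
    intro y hy
    obtain ⟨x, hx, rfl⟩ := List.mem_map.mp hy
    obtain ⟨k, hk⟩ := hl x (List.mem_reverse.mp hx)
    exact ⟨k, inv_mem hk⟩) (by simpa using hg)).1
  have h2 : (l.reverse.map (·⁻¹)).prod = l.prod⁻¹ := by
    rw [List.prod_inv_reverse, List.map_reverse]
  rw [h2] at h1
  have h3 := conj_le_iff (g := l.prod).2 h1
  rwa [conj_conj, mul_inv_cancel, map_one, one_smul] at h3

/-- **NO-3L**: everything commutes, or there is a mutual noncommuting pair inside the `O₂` of the two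
point stabilisers. -/
theorem exists_crit_or {Z : Subgroup G} {H U : ι → Subgroup G}
    (hZ : ∀ i, Z ≤ U i) (hC : ∀ i, centralizer (Z : Set G) ≤ H i)
    (hN : ∀ i, H i ≤ normalizer (U i : Set G)) (hO : ∀ i, o2 (H i) ≤ o2 (centralizer (Z : Set G)))
    (hUO : ∀ i, U i ≤ o2 (H i)) :
    (∃ i j, ∃ x ∈ (⨆ i, H i : Subgroup G),
      MulAut.conj x • U j ≤ o2 (centralizer (Z : Set G)) ∧
      U i ≤ MulAut.conj x • o2 (centralizer (Z : Set G)) ∧
      ¬ U i ≤ centralizer ((MulAut.conj x • U j : Subgroup G) : Set G)) ∨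
    ∀ i j, ∀ x ∈ (⨆ i, H i : Subgroup G),
      U i ≤ centralizer ((MulAut.conj x • U j : Subgroup G) : Set G) := by
  classical
  by_cases hbad : ∃ n, Bad H U n
  swap
  · right
    intro i j x hx
    by_contra hne
    obtain ⟨l, hl, rfl⟩ := exists_list hx
    exact hbad ⟨l.length, i, j, l, rfl, hl, hne⟩
  left
  obtain ⟨i, j, l, hl, hH, hne⟩ := Nat.find_spec hbad
  have hgood : Good H U l.length := by
    intro i j l' hl' hH'
    by_contra hne'
    rw [hl] at hl'
    exact Nat.find_min hbad hl' ⟨i, j, l', rfl, hH', hne'⟩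
  have hmem : l.prod ∈ (⨆ i, H i : Subgroup G) := by
    refine list_prod_mem fun y hy => ?_
    obtain ⟨k, hk⟩ := hH y hy
    exact (le_iSup H k) hk
  exact ⟨i, j, l.prod, hmem, (word_le hZ hC hN hO hUO j l hH hgood).1,
    Good.symm_word hZ hC hN hO hUO i l hH hgood, hne⟩

end abstr

/-! ### In the frame -/

section loc

open Cfsg.Agent.Omega.MinPar (IsPar IsParS IsLoc NonLoc)
open Cfsg.Agent.MinSimple.VModule (mem_zc zc_le zc_le_zl zl_le_zc zl_comm zl_sq
  le_normalizer_zl zl_le inf_centralizer_zl o2_le_centralizer_zl)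

variable {G : Type u} [Group G] [Finite G] {ι : Type v}

omit [Finite G] in
/-- `S ≤ C_G(Ω₁Z(S))`. -/
theorem le_cz (S : Subgroup G) : S ≤ centralizer (zc S : Set G) := by
  intro s hs
  rw [mem_centralizer_iff]
  intro z hz
  exact ((mem_zc.mp hz).2.1 s hs).symm

/-- `O₂(H) ≤ O₂(C_G(Ω₁Z(S)))` for `H ∈ L(S)` with `C_G(Ω₁Z(S)) ≤ H`. -/
theorem o2_le_o2_cz (S : Sylow 2 G) {H : Subgroup G} (h : IsLoc (S : Subgroup G) H)
    (hC : centralizer (zc (S : Subgroup G) : Set G) ≤ H) :
    o2 H ≤ o2 (centralizer (zc (S : Subgroup G) : Set G)) :=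
  le_o2 ((h.o2_le S).trans (le_cz _)) (o2_isPGroup _) (hC.trans (le_normalizer_o2 _))

theorem zl_le_o2 (hG : IsCharacteristicTwoType G) (S : Sylow 2 G) {H : Subgroup G}
    (h : IsLoc (S : Subgroup G) H) : zl (S : Subgroup G) H ≤ o2 H := by
  have h1 := h.zl_le S hG
  exact h1.trans (zc_le _)

/-- **LEMMA P in the frame.** -/
theorem exists_crit_loc [Nonempty ι] (hG : IsCharacteristicTwoType G) (S : Sylow 2 G)
    {H : ι → Subgroup G} (h : ∀ i, IsLoc (S : Subgroup G) (H i))
    (hC : ∀ i, centralizer (zc (S : Subgroup G) : Set G) ≤ H i) (core : o2 (⨆ i, H i) = ⊥) :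
    ∃ i j, ∃ x ∈ (⨆ i, H i : Subgroup G),
      MulAut.conj x • zl (S : Subgroup G) (H j) ≤
        o2 (centralizer (zc (S : Subgroup G) : Set G)) ∧
      zl (S : Subgroup G) (H i) ≤
        MulAut.conj x • o2 (centralizer (zc (S : Subgroup G) : Set G)) ∧
      ⁅zl (S : Subgroup G) (H i), MulAut.conj x • zl (S : Subgroup G) (H j)⁆ ≠ ⊥ := by
  rcases exists_crit_or (Z := zc (S : Subgroup G)) (H := H)
    (U := fun i => zl (S : Subgroup G) (H i)) (fun i => zc_le_zl _ _) hC
    (fun i => le_normalizer_zl _ _) (fun i => o2_le_o2_cz S (h i) (hC i))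
    (fun i => zl_le_o2 hG S (h i)) with h1 | h1
  · obtain ⟨i, j, x, hx, h2, h3, h4⟩ := h1
    refine ⟨i, j, x, hx, h2, h3, fun h5 => h4 ?_⟩
    rwa [commutator_eq_bot_iff_le_centralizer] at h5
  · exfalso
    obtain ⟨i, j, x, hx, -, -, h4⟩ := exists_mutual_loc hG S h hC core
    apply h4
    rw [commutator_eq_bot_iff_le_centralizer]
    exact h1 i j x hx

end loc

end Cfsg.Agent.Omega.NOThreeL.PointStab

end

-- merged: Cfsg.Agent.Mrg.Omega.NOThreeL.Basic
section

/-!
# NO-3L: the cut (A) / (B1) / (B2) / (B3) (#13890, helper863; #12384, helper111), K-free part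

`S` a Sylow 2-subgroup, `Z = Ω₁(Z(S))`, `C = C_G(Z) = CZ S`, `Q = O₂(C)`, `Data S` the situation of NO-3L, long
groups `H` (`IsLong S H`: local, `C ≤ H`), `U_H = zl S H = ⟨Z^H⟩`.

* `WP S = ⟨V_P^c : P ∈ P*(S), c ∈ C⟩` : the product of all lines on the point `Z`; the point `Z^g` has
  `WP^g = MulAut.conj g • WP S`;
* `FH S H = ⟨WP^h : h ∈ H⟩ = F_H` : the product of all lines on the points of `H`;
* `CaseA S` : some `V_P`, `P ∈ P*(S)`, does not centralise some `U_H`;
* `comm_of_le` : `WP^x ≤ Q^y`, `WP^y ≤ Q^x` implies `[WP^x, WP^y] = 1`;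
* (not A) `NotA.WP_le`, `NotA.FH_le_o2`, `NotA.FH_comm`, `NotA.FH_sq` : `F_H` is an elementary abelian normal
  subgroup of `H` in `O₂(H)`;
* (not A, not B1, not B2) `NotB2.FH_le_o2`, `NotB2.FH_comm` : `F_K ≤ O₂(H)` and `[F_H, F_K] = 1` for all long
  `H`, `K`;
* (A) `PairA` : `V_P` and `U_H` normalise each other and do not commute; `PairA.off_of` : with the FF theorem,
  `Off V_P U_H` gives `NoOver`, `Concl` for `P` and `Off U_H V_P`;
* `DataZ S` : moreover `C_Z(P) = 1` for all `P ∈ P*(S)`; `DataZ.cv_eq` : `C_{V_P}(O²(P)) = 1`;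
* `o2_sSup` : the long groups generate a nonlocal group; `exists_crit` : a critical pair of long modules.
-/

set_option autoImplicit false

namespace Cfsg.Agent.Omega.NOThreeL.Basic

open Subgroup Cfsg Cfsg.Agent.ZN Cfsg.Agent.Omega.MinPar Cfsg.Agent.Omega.Frame Cfsg.Agent.Omega.FrameNOFF
open Cfsg.Agent.Omega.Node.NO3L
open Cfsg.Agent.Omega.NoFF.Basic (V conj_conj mem_conj conj_le_iff conj_le_centralizer comm_symm comm_mono
  Z_le_V V_le conj_V_mul)
open Cfsg.Agent.Omega.NOThreeL.Pair (conj_eq_of_mem conj_le_normalizer zl_abel)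
open Cfsg.Agent.Omega.FFThm (Off NoOver Concl)
open Cfsg.Agent.MinSimple.VModule (zl_le le_normalizer_zl zc_le_zl zc_le zl_le_zc o2_isPGroup le_normalizer_o2
  mem_zc)
open scoped Pointwise

universe u

variable {G : Type u} [Group G]

/-! ### Definitions -/

/-- The product of all lines on the point `Z`. -/
def WP (S : Subgroup G) : Subgroup G := NoFF.Lines.W (zc S) (CZ S) (PS S)

/-- `F_H`: the product of all lines on the points `Z^h`, `h ∈ H`. -/
def FH (S H : Subgroup G) : Subgroup G := V (WP S) H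

/-- Case (A): some `V_P` does not centralise some `U_H`. -/
def CaseA (S : Subgroup G) : Prop :=
  ∃ P H : Subgroup G, IsParS S P ∧ IsLong S H ∧ ¬ zl S P ≤ centralizer (zl S H : Set G)

/-- Case (B1): not (A), and some `U_H`, `U_K` do not commute. -/
def CaseB1 (S : Subgroup G) : Prop :=
  ¬ CaseA S ∧ ∃ H K : Subgroup G, IsLong S H ∧ IsLong S K ∧ ¬ zl S H ≤ centralizer (zl S K : Set G)

/-- Case (B2): not (A), all `U_H` commute, and some `U_H` does not centralise some `F_K`. -/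
def CaseB2 (S : Subgroup G) : Prop :=
  ¬ CaseA S ∧ (∀ H K : Subgroup G, IsLong S H → IsLong S K → zl S H ≤ centralizer (zl S K : Set G)) ∧
    ∃ H K : Subgroup G, IsLong S H ∧ IsLong S K ∧ ¬ zl S H ≤ centralizer (FH S K : Set G)

/-- Case (B3): not (A), and all `U_H` centralise all `F_K`. -/
def CaseB3 (S : Subgroup G) : Prop :=
  ¬ CaseA S ∧ ∀ H K : Subgroup G, IsLong S H → IsLong S K → zl S H ≤ centralizer (FH S K : Set G)

/-- The situation of NO-3L with `C_Z(P) = 1` for all `P ∈ P*(S)`. -/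
structure DataZ (S : Subgroup G) : Prop extends Data S where
  cz : ∀ P : Subgroup G, IsParS S P → zc S ⊓ centralizer (P : Set G) = ⊥

/-- Case (A): `V_P` and `U_H` do not commute. -/
structure PairA (S P H : Subgroup G) : Prop where
  par : IsParS S P
  long : IsLong S H
  ne : ¬ zl S P ≤ centralizer (zl S H : Set G)

theorem caseA_iff {S : Subgroup G} : CaseA S ↔ ∃ P H, PairA S P H :=
  ⟨fun ⟨P, H, h1, h2, h3⟩ => ⟨P, H, h1, h2, h3⟩, fun ⟨P, H, h⟩ => ⟨P, H, h.par, h.long, h.ne⟩⟩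

/-! ### Elementary facts -/

theorem le_normalizer_FH (S H : Subgroup G) : H ≤ normalizer (FH S H : Set G) := by
  intro h hh
  have key : ∀ h ∈ H, MulAut.conj h • FH S H = FH S H := fun h hh => by
    have := conj_V_mul (Z := WP S) (g := 1) hh
    rwa [one_mul, map_one, one_smul] at this
  rw [mem_normalizer_iff]
  intro x
  constructor
  · intro hx
    rw [← key h hh, mem_conj]
    simpa [mul_assoc] using hx
  · intro hx
    rw [← key h hh, mem_conj] at hx
    simpa [mul_assoc] using hx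

theorem WP_le_FH (S H : Subgroup G) : WP S ≤ FH S H := by
  have h := Z_le_V (Z := WP S) H.one_mem
  rwa [map_one, one_smul] at h

theorem conj_WP_le_FH (S : Subgroup G) {H : Subgroup G} {h : G} (hh : h ∈ H) :
    MulAut.conj h • WP S ≤ FH S H := Z_le_V hh

theorem FH_le {S H A : Subgroup G} (h : ∀ x ∈ H, MulAut.conj x • WP S ≤ A) : FH S H ≤ A := V_le h

theorem zl_le_WP {S P : Subgroup G} (hP : IsParS S P) : zl S P ≤ WP S := by
  have := NoFF.Lines.line_le (Z := zc S) (C := CZ S) (F := PS S) hP (one_mem _)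
  rwa [map_one, one_smul] at this

theorem line_le_WP {S P : Subgroup G} (hP : IsParS S P) {c : G} (hc : c ∈ CZ S) :
    MulAut.conj c • zl S P ≤ WP S :=
  NoFF.Lines.line_le (Z := zc S) (C := CZ S) (F := PS S) hP hc

theorem WP_le {S A : Subgroup G} (h : ∀ P, IsParS S P → ∀ c ∈ CZ S, MulAut.conj c • zl S P ≤ A) :
    WP S ≤ A := NoFF.Lines.W_le fun P hP c hc => h P hP c hc

theorem conj_WP {S : Subgroup G} {c : G} (hc : c ∈ CZ S) : MulAut.conj c • WP S = WP S :=
  NoFF.Lines.W_conj hc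

section fin

variable [Finite G] {S : Sylow 2 G}

theorem zc_le_WP (h : Ctx G) (hF : Full (S : Subgroup G)) : zc (S : Subgroup G) ≤ WP (S : Subgroup G) := by
  obtain ⟨P, hP⟩ := h.exists_isParS hF
  exact (zc_le_zl _ _).trans (zl_le_WP hP)

theorem zl_le_FH (h : Ctx G) (hF : Full (S : Subgroup G)) (H : Subgroup G) :
    zl (S : Subgroup G) H ≤ FH (S : Subgroup G) H :=
  zl_le ((zc_le_WP h hF).trans (WP_le_FH _ H)) (le_normalizer_FH _ H)

variable (hc : IsCharacteristicTwoType G) (D : Data (S : Subgroup G))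
include D

omit [Finite G] in
/-- All lines on `Z` are in `Q = O₂(C)`. -/
theorem WP_le_Q : WP (S : Subgroup G) ≤ o2 (CZ (S : Subgroup G)) := by
  refine WP_le fun P hP c hcc => ?_
  have h1 := (conj_le_iff (g := c)).2 (D.low P hP)
  rwa [conj_eq_of_mem (le_normalizer_o2 _ hcc)] at h1

include hc

theorem geo : NoFF.Lines.Geo (S : Subgroup G) (zc (S : Subgroup G)) (CZ (S : Subgroup G))
    (PS (S : Subgroup G)) := by
  have hG : (S : Subgroup G) ≠ ⊥ := by
    intro h0
    have h2 : Fact (Nat.Prime 2) := ⟨Nat.prime_two⟩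
    have h1 := S.not_dvd_index
    rw [h0, index_bot] at h1
    exact h1 hc.1.two_dvd
  exact FrameNOFF.geo hc S D.noff hG D.low

/-- **Two points whose lines are in each other's `O₂`.** -/
theorem comm_of_le {x y : G}
    (h1 : MulAut.conj x • WP (S : Subgroup G) ≤ MulAut.conj y • o2 (CZ (S : Subgroup G)))
    (h2 : MulAut.conj y • WP (S : Subgroup G) ≤ MulAut.conj x • o2 (CZ (S : Subgroup G))) :
    MulAut.conj x • WP (S : Subgroup G) ≤
      centralizer ((MulAut.conj y • WP (S : Subgroup G) : Subgroup G) : Set G) := by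
  have D' := geo hc D
  have hS : (S : Subgroup G) ≠ ⊥ := by
    intro h0
    have h2 : Fact (Nat.Prime 2) := ⟨Nat.prime_two⟩
    have h1 := S.not_dvd_index
    rw [h0, index_bot] at h1
    exact h1 hc.1.two_dvd
  have hQS : o2 (CZ (S : Subgroup G)) ≤ (S : Subgroup G) := (isLoc_centralizer_zc S hS).o2_le S
  -- lines on `x` are in `P'^(y d)`
  have key : ∀ {x y : G}, MulAut.conj x • WP (S : Subgroup G) ≤ MulAut.conj y • o2 (CZ (S : Subgroup G)) →
      ∀ {P P' : Subgroup G}, IsParS (S : Subgroup G) P → IsParS (S : Subgroup G) P' →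
      ∀ {c d : G}, c ∈ CZ (S : Subgroup G) → d ∈ CZ (S : Subgroup G) →
        MulAut.conj (x * c) • zl (S : Subgroup G) P ≤ MulAut.conj (y * d) • P' := by
    intro x y hxy P P' hP hP' c d hcc hd
    have e1 : MulAut.conj (x * c) • zl (S : Subgroup G) P ≤ MulAut.conj x • WP (S : Subgroup G) := by
      rw [← conj_conj]
      exact conj_le_iff.2 (line_le_WP hP hcc)
    have e2 : MulAut.conj y • o2 (CZ (S : Subgroup G)) ≤ MulAut.conj (y * d) • P' := by
      rw [← conj_conj]
      refine conj_le_iff.2 ?_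
      rw [← conj_eq_of_mem (le_normalizer_o2 _ hd)]
      exact conj_le_iff.2 (hQS.trans hP'.le)
    exact (e1.trans hxy).trans e2
  refine NoFF.Lines.conj_W_le fun P hP c hcc => ?_
  rw [le_centralizer_iff]
  refine NoFF.Lines.conj_W_le fun P' hP' d hd => ?_
  rw [le_centralizer_iff]
  exact D'.noff' hP hP' (key h1 hP hP' hcc hd) (key h2 hP' hP hd hcc)

omit [Finite G] hc D in
/-- A subgroup of `Q` centralising `U_H` is in `O₂(H)`. -/
theorem le_o2_of_comm {A H : Subgroup G} (hA : A ≤ o2 (CZ (S : Subgroup G)))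
    (hH : IsLong (S : Subgroup G) H) (h : A ≤ centralizer (zl (S : Subgroup G) H : Set G)) : A ≤ o2 H :=
  (le_inf hA h).trans (PointStab.inf_le_o2 (zc_le_zl _ _) hH.cz (le_normalizer_zl _ _))

/-! ### Not (A) -/

omit [Finite G] hc D in
theorem WP_le_centralizer (hA : ¬ CaseA (S : Subgroup G)) {H : Subgroup G}
    (hH : IsLong (S : Subgroup G) H) :
    WP (S : Subgroup G) ≤ centralizer (zl (S : Subgroup G) H : Set G) := by
  refine WP_le fun P hP c hcc => ?_
  have h1 : zl (S : Subgroup G) P ≤ centralizer (zl (S : Subgroup G) H : Set G) := by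
    by_contra h
    exact hA ⟨P, H, hP, hH, h⟩
  have h2 := conj_le_centralizer (g := c) h1
  rwa [conj_eq_of_mem (le_normalizer_zl _ _ (hH.cz hcc))] at h2

omit [Finite G] hc in
/-- **(i)** not (A): all lines on `Z` are in `O₂(H)`. -/
theorem NotA.WP_le (hA : ¬ CaseA (S : Subgroup G)) {H : Subgroup G}
    (hH : IsLong (S : Subgroup G) H) : WP (S : Subgroup G) ≤ o2 H :=
  le_o2_of_comm (WP_le_Q D) hH (WP_le_centralizer hA hH)

omit hc in
/-- **(ii)** not (A): `F_H ≤ O₂(H)`. -/
theorem NotA.FH_le_o2 (hA : ¬ CaseA (S : Subgroup G)) {H : Subgroup G}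
    (hH : IsLong (S : Subgroup G) H) : FH (S : Subgroup G) H ≤ o2 H := by
  refine FH_le fun x hx => ?_
  have h1 := (conj_le_iff (g := x)).2 (NotA.WP_le D hA hH)
  rwa [conj_eq_of_mem (le_normalizer_o2 _ hx)] at h1

/-- **(ii)** not (A): `F_H` is abelian. -/
theorem NotA.FH_comm (hA : ¬ CaseA (S : Subgroup G)) {H : Subgroup G}
    (hH : IsLong (S : Subgroup G) H) :
    FH (S : Subgroup G) H ≤ centralizer (FH (S : Subgroup G) H : Set G) := by
  have hle : ∀ x ∈ H, MulAut.conj x • WP (S : Subgroup G) ≤ o2 H := fun x hx =>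
    (conj_WP_le_FH _ hx).trans (NotA.FH_le_o2 D hA hH)
  have hQ : ∀ y ∈ H, o2 H ≤ MulAut.conj y • o2 (CZ (S : Subgroup G)) := fun y hy => by
    rw [← conj_eq_of_mem (le_normalizer_o2 H hy)]
    exact conj_le_iff.2 (hH.o2_le S)
  refine FH_le fun x hx => comm_symm (FH_le fun y hy => comm_symm ?_)
  exact comm_of_le hc D ((hle x hx).trans (hQ y hy)) ((hle y hy).trans (hQ x hx))

/-- **(ii)** not (A): `F_H` has exponent 2. -/
theorem NotA.FH_sq (hA : ¬ CaseA (S : Subgroup G)) {H : Subgroup G}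
    (hH : IsLong (S : Subgroup G) H) : ∀ f ∈ FH (S : Subgroup G) H, f ^ 2 = 1 :=
  NoFF.Lines.Geo.sq_of_comm (NotA.FH_comm hc D hA hH)
    (B := fun h : H => MulAut.conj (h : G) • WP (S : Subgroup G)) (fun h => conj_WP_le_FH _ h.2) le_rfl
    fun h => (geo hc D).W_sq' (h : G)

/-- **(ii)** not (A): `F_H` is elementary abelian. -/
theorem NotA.FH_elem (hA : ¬ CaseA (S : Subgroup G)) {H : Subgroup G}
    (hH : IsLong (S : Subgroup G) H) : IsElementaryAbelian 2 (FH (S : Subgroup G) H) :=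
  ⟨⟨⟨fun a b => Subtype.ext (mem_centralizer_iff.1 (NotA.FH_comm hc D hA hH b.2) a a.2)⟩⟩,
    NotA.FH_sq hc D hA hH⟩

/-! ### Not (A), and `U_H` centralises all `F_K` -/

omit hc in
/-- (B3): `F_K ≤ O₂(H)` for all long `H`, `K`. -/
theorem B3.FH_le_o2 (h3 : CaseB3 (S : Subgroup G)) {H K : Subgroup G}
    (hH : IsLong (S : Subgroup G) H) (hK : IsLong (S : Subgroup G) K) : FH (S : Subgroup G) K ≤ o2 H :=
  le_o2_of_comm ((NotA.FH_le_o2 D h3.1 hK).trans (hK.o2_le S)) hH (comm_symm (h3.2 H K hH hK))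

/-- (B3): `[F_H, F_K] = 1` for all long `H`, `K`, so `d_H ≥ 3`. -/
theorem B3.FH_comm (h3 : CaseB3 (S : Subgroup G)) {H K : Subgroup G}
    (hH : IsLong (S : Subgroup G) H) (hK : IsLong (S : Subgroup G) K) :
    FH (S : Subgroup G) H ≤ centralizer (FH (S : Subgroup G) K : Set G) := by
  have hQ : ∀ {L : Subgroup G}, IsLong (S : Subgroup G) L → ∀ y ∈ L,
      o2 L ≤ MulAut.conj y • o2 (CZ (S : Subgroup G)) := fun hL y hy => by
    rw [← conj_eq_of_mem (le_normalizer_o2 _ hy)]
    exact conj_le_iff.2 (hL.o2_le S)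
  refine FH_le fun x hx => comm_symm (FH_le fun y hy => comm_symm ?_)
  refine comm_of_le hc D ?_ ?_
  · exact ((conj_WP_le_FH _ hx).trans (B3.FH_le_o2 D h3 hK hH)).trans (hQ hK y hy)
  · exact ((conj_WP_le_FH _ hy).trans (B3.FH_le_o2 D h3 hH hK)).trans (hQ hH x hx)

/-! ### (A): the mutual pair `V_P`, `U_H` -/

omit hc D in
theorem IsLong.zl_le_S (hc : IsCharacteristicTwoType G) {H : Subgroup G} (hH : IsLong (S : Subgroup G) H) :
    zl (S : Subgroup G) H ≤ (S : Subgroup G) := (hH.zl_le_o2 hc S).trans (hH.loc.o2_le S)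

omit D in
theorem IsParS.zl_le_S {P : Subgroup G} (hP : IsParS (S : Subgroup G) P) :
    zl (S : Subgroup G) P ≤ (S : Subgroup G) :=
  ((hP.isLoc.zl_le S hc).trans (zc_le _)).trans (hP.isLoc.o2_le S)

omit D in
/-- `U_H` normalises `V_P`. -/
theorem PairA.le_normalizer {P H : Subgroup G} (h : PairA (S : Subgroup G) P H) :
    zl (S : Subgroup G) H ≤ normalizer (zl (S : Subgroup G) P : Set G) :=
  (IsLong.zl_le_S hc h.long).trans (h.par.le.trans (le_normalizer_zl _ _))

omit D in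
/-- `V_P` normalises `U_H`. -/
theorem PairA.le_normalizer' {P H : Subgroup G} (h : PairA (S : Subgroup G) P H) :
    zl (S : Subgroup G) P ≤ normalizer (zl (S : Subgroup G) H : Set G) :=
  (IsParS.zl_le_S hc h.par).trans (h.long.loc.le.trans (le_normalizer_zl _ _))

omit [Finite G] hc D in
theorem PairA.ne' {P H : Subgroup G} (h : PairA (S : Subgroup G) P H) :
    ¬ zl (S : Subgroup G) H ≤ centralizer (zl (S : Subgroup G) P : Set G) :=
  fun h1 => h.ne (comm_symm h1)

omit D in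
/-- One of `V_P`, `U_H` is an offender on the other. -/
theorem PairA.off_or {P H : Subgroup G} (h : PairA (S : Subgroup G) P H) :
    Off (zl (S : Subgroup G) P) (zl (S : Subgroup G) H) ∨
      Off (zl (S : Subgroup G) H) (zl (S : Subgroup G) P) :=
  FFThm.off_or (FFThm.elem_zl hc S h.par.isLoc) (FFThm.elem_zl hc S h.long.loc) h.ne'

omit D in
/-- **(A), `U_H` offends on `V_P`**: the FF theorem for `P`, and `|V_P : C(U_H)| = |U_H : C(V_P)|`. -/
theorem PairA.off_of (hFF : FFThm.Stmt.{u}) {P H : Subgroup G} (h : PairA (S : Subgroup G) P H)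
    (hoff : Off (zl (S : Subgroup G) P) (zl (S : Subgroup G) H)) :
    NoOver (zl (S : Subgroup G) P) P ∧ Concl (S : Subgroup G) P ∧
      Off (zl (S : Subgroup G) H) (zl (S : Subgroup G) P) ∧
      Nat.card (zl (S : Subgroup G) P) *
          Nat.card ↥(zl (S : Subgroup G) H ⊓ centralizer (zl (S : Subgroup G) P : Set G)) =
        Nat.card (zl (S : Subgroup G) H) *
          Nat.card ↥(zl (S : Subgroup G) P ⊓ centralizer (zl (S : Subgroup G) H : Set G)) := by
  obtain ⟨h1, h2⟩ := FFThm.of_off hFF hc S h.par.toIsPar (PairA.le_normalizer hc h) hoff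
  have h3 := h1 _ ((IsLong.zl_le_S hc h.long).trans h.par.le) (FFThm.elem_zl hc S h.long.loc)
  exact ⟨h1, h2, ⟨FFThm.elem_zl hc S h.par.isLoc, h.ne, h3⟩, le_antisymm hoff.le h3⟩

/-! ### `C_Z(P) = 1` -/

omit D in
/-- `C_Z(P) = 1` gives `C_{V_P}(O²(P)) = 1`. -/
theorem DataZ.cv_eq (D : DataZ (S : Subgroup G)) {P : Subgroup G} (hP : IsParS (S : Subgroup G) P) :
    FrameFF.cv (S : Subgroup G) P = ⊥ :=
  NoFF.LinesPlug.inf_oddGen_eq_bot hc S hP.toIsPar (D.cz P hP)

end fin

/-! ### The long groups generate a nonlocal group -/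

section nonloc

variable [Finite G]

/-- **The long groups generate a nonlocal group.** -/
theorem o2_sSup (h : Ctx G) (S : Sylow 2 G) (hF : Full (S : Subgroup G)) (D : Data (S : Subgroup G)) :
    o2 (sSup {H : Subgroup G | IsLong (S : Subgroup G) H}) = ⊥ := by
  refine eq_bot_of_norm h S hF (o2_isPGroup _) (fun P hP => ?_) ?_
  · refine le_trans ?_ (le_normalizer_o2 _)
    exact (le_sup_left : P ≤ P ⊔ CZ (S : Subgroup G)).trans (le_sSup (D.loc P hP))
  · obtain ⟨P, hP⟩ := h.exists_isParS hF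
    refine le_trans ?_ (le_normalizer_o2 _)
    exact (le_sup_right : _ ≤ P ⊔ CZ (S : Subgroup G)).trans (le_sSup (D.loc P hP))

/-- **A critical pair of long modules** (LEMMA P, helper582): `U_H`, `(U_K)^x` do not commute,
`(U_K)^x ≤ Q`, `U_H ≤ Q^x`. -/
theorem exists_crit (h : Ctx G) (S : Sylow 2 G) (hF : Full (S : Subgroup G)) (D : Data (S : Subgroup G)) :
    ∃ (H K : Subgroup G) (x : G), IsLong (S : Subgroup G) H ∧ IsLong (S : Subgroup G) K ∧
      MulAut.conj x • zl (S : Subgroup G) K ≤ o2 (CZ (S : Subgroup G)) ∧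
      zl (S : Subgroup G) H ≤ MulAut.conj x • o2 (CZ (S : Subgroup G)) ∧
      ⁅zl (S : Subgroup G) H, MulAut.conj x • zl (S : Subgroup G) K⁆ ≠ ⊥ := by
  obtain ⟨P, hP⟩ := h.exists_isParS hF
  have hne : Nonempty {H : Subgroup G // IsLong (S : Subgroup G) H} := ⟨⟨_, D.loc P hP⟩⟩
  obtain ⟨H, K, x, -, h1, h2, h3⟩ := PointStab.exists_crit_loc h.char2 S
    (H := fun H : {H : Subgroup G // IsLong (S : Subgroup G) H} => (H : Subgroup G))
    (fun H => H.2.loc) (fun H => H.2.cz) (by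
      have := o2_sSup h S hF D
      rwa [sSup_eq_iSup'] at this)
  exact ⟨H, K, x, H.2, K.2, h1, h2, h3⟩

omit [Finite G] in
/-- (A) fails iff all `V_P` centralise all `U_H`; the four cases. -/
theorem cases (S : Subgroup G) : CaseA S ∨ CaseB1 S ∨ CaseB2 S ∨ CaseB3 S := by
  by_cases hA : CaseA S
  · exact Or.inl hA
  right
  by_cases h1 : ∃ H K : Subgroup G, IsLong S H ∧ IsLong S K ∧ ¬ zl S H ≤ centralizer (zl S K : Set G)
  · exact Or.inl ⟨hA, h1⟩
  right
  by_cases h2 : ∃ H K : Subgroup G, IsLong S H ∧ IsLong S K ∧ ¬ zl S H ≤ centralizer (FH S K : Set G)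
  · refine Or.inl ⟨hA, fun H K hH hK => ?_, h2⟩
    by_contra h
    exact h1 ⟨H, K, hH, hK, h⟩
  · refine Or.inr ⟨hA, fun H K hH hK => ?_⟩
    by_contra h
    exact h2 ⟨H, K, hH, hK, h⟩

end nonloc

end Cfsg.Agent.Omega.NOThreeL.Basic

end
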