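import Cfsg.Agent.Mrg.Omega.NOThreeL.IndepTwo
import Cfsg.Agent.Mrg.Omega.NOThreeL.RTools.FrameA
import Cfsg.Agent.Mrg.Omega.NOThreeL.RTools.Two
import Cfsg.Agent.Mrg.Omega.FFMutual
import Cfsg.Agent.Mrg.Omega.NOThreeL.RTools.HypA
import Cfsg.Agent.Mrg.Omega.NOThreeL.RAOne.Zero
import Cfsg.Agent.Mrg.Omega.NOThreeL.RTools.Many.Nat
import Cfsg.Agent.Mrg.Omega.NOThreeL.RSym
import Cfsg.Agent.Mrg.Omega.NOThreeL.AFour.NotFFPlug
import Cfsg.Agent.Mrg.Omega.FFBr.Final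
import Cfsg.Agent.Mrg.Omega.NOThreeL.Merge
import Cfsg.Agent.Mrg.Omega.NOThreeL.Star

-- merged: Cfsg.Agent.Mrg.Omega.NOThreeL.RTools.Many.SL
section

/-!
# NO-3L, box R ∩ (A), `q = 2`, all `k` (#18037 (2)): the case SL does not occur (helper850)

* `HypK.norm_Y` : `C_H(z_i)` normalises `C_{U₁}(n_i)`.
-/

set_option autoImplicit false
set_option linter.unusedSectionVars false
set_option Elab.async false

namespace Cfsg.Agent.Omega.NOThreeL.RTools.Many

open Subgroup Cfsg Cfsg.Agent.Omega.MinPar Cfsg.Agent.Omega.NOThreeL.RTools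
open Cfsg.Agent.ZN (zc zl o2)
open Cfsg.Agent.Omega.Frame Cfsg.Agent.Omega.FrameNOFF
open Cfsg.Agent.Omega.NOThreeL (le_normalizer_of)
open Cfsg.Agent.Omega.Node.NO3L Cfsg.Agent.Omega.NOThreeL.Basic
open Cfsg.Agent.MinSimple.VModule (zl_le zc_le_zl le_normalizer_zl zc_le o2_isPGroup le_normalizer_o2 le_o2)
open Cfsg.Agent.Omega.NOThreeL.ThmL (act act_apply z2 Y)
open scoped Pointwise

universe u

variable {G : Type u} [Group G]

/-! ### An elementary abelian subgroup as a module -/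

/-- `A` is elementary abelian and normalised by `H`. -/
class MdInv (H A : Subgroup G) : Prop where
  ab : ∀ u ∈ A, ∀ v ∈ A, u * v = v * u
  sq : ∀ u ∈ A, u * u = 1
  nrm : ∀ h ∈ H, ∀ u ∈ A, h * u * h⁻¹ ∈ A

/-- `A` written additively. -/
def Md (_H A : Subgroup G) : Type u := ↥A

namespace Md

variable {H A : Subgroup G}

/-- the element of `G` -/
def val (m : Md H A) : G := ((show ↥A from m : ↥A) : G)

variable (H) in
/-- the element of the module -/
def mk (a : G) (ha : a ∈ A) : Md H A := (⟨a, ha⟩ : ↥A)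

theorem val_mem (m : Md H A) : m.val ∈ A := (show ↥A from m).2

@[simp] theorem val_mk (a : G) (ha : a ∈ A) : (mk H a ha).val = a := rfl

theorem ext {m n : Md H A} (h : m.val = n.val) : m = n := Subtype.ext h

theorem mk_val (m : Md H A) : mk H m.val m.val_mem = m := ext rfl

instance [Finite G] : Finite (Md H A) := Finite.of_injective (fun m : Md H A => m.val) fun _ _ h => ext h

variable [i : MdInv H A]

instance : Add (Md H A) := ⟨fun m n => mk H (m.val * n.val) (A.mul_mem m.val_mem n.val_mem)⟩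

instance : Zero (Md H A) := ⟨mk H 1 A.one_mem⟩

instance : Neg (Md H A) := ⟨fun m => mk H m.val⁻¹ (A.inv_mem m.val_mem)⟩

instance : AddCommGroup (Md H A) where
  add_assoc a b c := ext (mul_assoc a.val b.val c.val)
  zero_add a := ext (one_mul a.val)
  add_zero a := ext (mul_one a.val)
  nsmul := nsmulRec
  zsmul := zsmulRec
  neg_add_cancel a := ext (inv_mul_cancel a.val)
  add_comm a b := ext (i.ab _ a.val_mem _ b.val_mem)

theorem val_add (m n : Md H A) : (m + n).val = m.val * n.val := rfl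

theorem val_zero : (0 : Md H A).val = 1 := rfl

theorem val_neg (m : Md H A) : (-m).val = m.val⁻¹ := rfl

instance : Module (ZMod 2) (Md H A) := AddCommGroup.zmodModule (n := 2) fun v => by
  rw [two_nsmul]
  exact ext (i.sq _ v.val_mem)

instance : DistribMulAction ↥H (Md H A) where
  smul h m := mk H (h * m.val * (h : G)⁻¹) (i.nrm h h.2 _ m.val_mem)
  one_smul m := ext (by
    change ((1 : ↥H) : G) * m.val * ((1 : ↥H) : G)⁻¹ = m.val
    rw [OneMemClass.coe_one, one_mul, inv_one, mul_one])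
  mul_smul x y m := ext (by
    change ((x * y : ↥H) : G) * m.val * ((x * y : ↥H) : G)⁻¹ = x * (y * m.val * (y : G)⁻¹) * (x : G)⁻¹
    rw [Subgroup.coe_mul]; group)
  smul_zero x := ext (by
    change (x : G) * 1 * (x : G)⁻¹ = 1
    rw [mul_one, mul_inv_cancel])
  smul_add x m n := ext (by
    change (x : G) * (m.val * n.val) * (x : G)⁻¹ = (x * m.val * (x : G)⁻¹) * (x * n.val * (x : G)⁻¹)
    group)

theorem val_smul (h : ↥H) (m : Md H A) : (h • m).val = h * m.val * (h : G)⁻¹ := rfl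

theorem val_sub (m n : Md H A) : (m - n).val = m.val * n.val⁻¹ := by
  rw [sub_eq_add_neg, val_add, val_neg]

/-- a fixed element -/
theorem smul_eq_iff (h : ↥H) (m : Md H A) : h • m = m ↔ (h : G) * m.val = m.val * h := by
  constructor
  · intro h1
    have h2 := congrArg val h1
    rw [val_smul, mul_inv_eq_iff_eq_mul] at h2
    exact h2
  · intro h1
    apply ext
    rw [val_smul, h1, mul_inv_cancel_right]

theorem val_sum {k : ℕ} (f : Fin k → Md H A) : (∑ i, f i).val = (List.ofFn fun i => (f i).val).prod := by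
  rw [← List.sum_ofFn]
  induction k with
  | zero => rfl
  | succ k ih =>
    rw [List.ofFn_succ, List.sum_cons, List.ofFn_succ, List.prod_cons, val_add, ih]

open Classical in
/-- the functional of an element acting as a transvection -/
noncomputable def fnl (a c : G) (h : ∀ u ∈ A, a * u * a⁻¹ = u ∨ a * u * a⁻¹ = u * c) (hc : c ∈ A) :
    Md H A →+ ZMod 2 where
  toFun m := if a * m.val = m.val * a then 0 else 1
  map_zero' := by
    change (if a * 1 = 1 * a then (0 : ZMod 2) else 1) = 0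
    rw [if_pos (by rw [mul_one, one_mul])]
  map_add' m n := by
    change (if a * (m.val * n.val) = m.val * n.val * a then (0 : ZMod 2) else 1) =
      (if a * m.val = m.val * a then 0 else 1) + (if a * n.val = n.val * a then 0 else 1)
    have key : ∀ x : G, a * x = x * a ↔ a * x * a⁻¹ = x := fun x => mul_inv_eq_iff_eq_mul.symm
    have e1 : a * (m.val * n.val) * a⁻¹ = (a * m.val * a⁻¹) * (a * n.val * a⁻¹) := by group
    rw [key, key, key, e1]
    have hcm : c * n.val = n.val * c := i.ab _ hc _ n.val_mem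
    have hcc : c * c = 1 := i.sq _ hc
    by_cases h1 : a * m.val * a⁻¹ = m.val
    · by_cases h2 : a * n.val * a⁻¹ = n.val
      · rw [if_pos h1, if_pos h2, if_pos (by rw [h1, h2]), add_zero]
      · rw [if_pos h1, if_neg h2, if_neg (by rw [h1]; exact fun h3 => h2 (mul_left_cancel h3)), zero_add]
    · by_cases h2 : a * n.val * a⁻¹ = n.val
      · rw [if_neg h1, if_pos h2, if_neg (by rw [h2]; exact fun h3 => h1 (mul_right_cancel h3)), add_zero]
      · have h3 := (h _ m.val_mem).resolve_left h1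
        have h4 := (h _ n.val_mem).resolve_left h2
        rw [if_neg h1, if_neg h2, if_pos ?_]
        · decide
        · rw [h3, h4]
          calc m.val * c * (n.val * c) = m.val * (c * n.val) * c := by group
            _ = m.val * n.val * (c * c) := by rw [hcm]; group
            _ = m.val * n.val := by rw [hcc, mul_one]

open Classical in
theorem fnl_eq_zero {a c : G} {h : ∀ u ∈ A, a * u * a⁻¹ = u ∨ a * u * a⁻¹ = u * c} {hc : c ∈ A} {m : Md H A} :
    fnl a c h hc m = 0 ↔ a * m.val = m.val * a := by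
  change (if a * m.val = m.val * a then (0 : ZMod 2) else 1) = 0 ↔ _
  constructor
  · intro h1
    by_contra h2
    rw [if_neg h2] at h1
    exact absurd h1 (by decide)
  · intro h1
    rw [if_pos h1]

theorem fnl_smul {a c : G} {h : ∀ u ∈ A, a * u * a⁻¹ = u ∨ a * u * a⁻¹ = u * c} {hc : c ∈ A} {x : ↥H}
    (hx : (x : G) = a) (m : Md H A) : x • m = m + fnl a c h hc m • mk H c hc := by
  apply ext
  rw [val_smul, val_add, hx]
  rcases z2 (fnl a c h hc m) with h1 | h1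
  · rw [h1, zero_smul, val_zero, mul_one, mul_inv_eq_iff_eq_mul]
    exact fnl_eq_zero.mp h1
  · rw [h1, one_smul, val_mk]
    refine (h _ m.val_mem).resolve_left fun h2 => ?_
    rw [mul_inv_eq_iff_eq_mul, ← fnl_eq_zero (h := h) (hc := hc), h1] at h2
    exact absurd h2 (by decide)

/-- inclusion -/
def incl {B : Subgroup G} [MdInv H B] (hAB : A ≤ B) : Md H A →+ Md H B where
  toFun m := mk H m.val (hAB m.val_mem)
  map_zero' := rfl
  map_add' _ _ := rfl

@[simp] theorem val_incl {B : Subgroup G} [MdInv H B] (hAB : A ≤ B) (m : Md H A) : (incl hAB m).val = m.val := rfl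

end Md

/-! ### The plug -/

open SLMod

namespace HypK

variable [Finite G] {S : Sylow 2 G} {P H : Subgroup G} {k : ℕ} {z n : Fin k → G} {e w : G}
  (D : HypK S P H z n e w)
include D

theorem md₁ : MdInv H (Uk H z) :=
  ⟨fun _ hu _ hv => D.Uk_comm hu hv, fun _ hu => D.Uk_sq hu,
    fun _ hh _ hu => conj_mem_of_mem (le_normalizer_Uk H z hh) hu⟩

theorem md₂ : MdInv H (zl (S : Subgroup G) H) :=
  ⟨fun _ hu _ hv => D.commU hu hv, fun _ hu => D.sqU hu,
    fun _ hh _ hu => conj_mem_of_mem (le_normalizer_zl (S : Subgroup G) H hh) hu⟩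

theorem n_act₀ (i : Fin k) {u : G} (hu : u ∈ zl (S : Subgroup G) H) :
    n i * u * (n i)⁻¹ = u ∨ n i * u * (n i)⁻¹ = u * z i := by
  have h0 : n i * u * (n i)⁻¹ = cm (n i) u * u := by rw [cm_def]; group
  rcases D.cm_n hu i with h | h
  · left; rw [h0, h, one_mul]
  · right; rw [h0, h, D.commU (D.zU i) hu]

theorem n_act₁ (i : Fin k) : ∀ u ∈ Uk H z, n i * u * (n i)⁻¹ = u ∨ n i * u * (n i)⁻¹ = u * z i :=
  fun _ hu => D.n_act₀ i (D.Uk_le hu)

theorem n_act₂ (i : Fin k) : ∀ u ∈ zl (S : Subgroup G) H, n i * u * (n i)⁻¹ = u ∨ n i * u * (n i)⁻¹ = u * z i :=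
  fun _ hu => D.n_act₀ i hu

theorem nH₀ (i : Fin k) : n i ∈ H := D.VH (D.nV i)

theorem nNN (i : Fin k) : n i ∈ NN (S : Subgroup G) P H := le_NN _ _ _ (D.nV i)

theorem s_comm {s : G} (hs : s ∈ (S : Subgroup G)) {i j : Fin k} (h : s * z i * s⁻¹ = z j) {u : G}
    (hu : u ∈ zl (S : Subgroup G) H) : (s * n i * s⁻¹) * u = u * (s * n i * s⁻¹) ↔ n j * u = u * n j := by
  rcases D.S_n hs h with h1 | h1
  · rw [h1]
  · rw [h1]
    have h2 : z j * u = u * z j := D.commU (D.zU j) hu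
    constructor
    · intro h3
      calc n j * u = (z j)⁻¹ * (z j * n j * u) := by group
        _ = (z j)⁻¹ * (u * z j) * n j := by rw [h3]; group
        _ = u * n j := by rw [← h2]; group
    · intro h3
      calc z j * n j * u = z j * (n j * u) := by group
        _ = (z j * u) * n j := by rw [h3]; group
        _ = u * (z j * n j) := by rw [h2]; group

theorem normalN : ((NN (S : Subgroup G) P H).subgroupOf H).Normal :=
  ⟨fun x hx g => by
    rw [mem_subgroupOf] at hx ⊢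
    exact conj_mem_of_mem (le_normalizer_NN _ _ _ g.2) hx⟩

/-- not all of `Z` is centralised by `H` -/
theorem exists_z : ∃ x ∈ zc (S : Subgroup G), ¬ H ≤ centralizer ({x} : Set G) := by
  by_contra hcon
  push Not at hcon
  apply D.ne
  have h1 : zl (S : Subgroup G) H ≤ zc (S : Subgroup G) := by
    refine zl_le (fun x hx => hx) (le_normalizer_of fun h hh x hx => ?_)
    have h2 := mem_centralizer_iff.mp (hcon x hx hh) x rfl
    rw [← h2, mul_inv_cancel_right]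
    exact hx
  intro v hv
  rw [mem_centralizer_iff]
  intro f hf
  exact (zcomm (h1 hf) (D.VS hv)).symm

section modules

variable [MdInv H (Uk H z)] [MdInv H (zl (S : Subgroup G) H)]

omit D [Finite G] [MdInv H (zl (S : Subgroup G) H)] in
variable (H z) in
/-- `z i` in the module -/
def zz (i : Fin k) : Md H (Uk H z) := Md.mk H (z i) (z_mem_Uk H z i)

omit [MdInv H (Uk H z)] [MdInv H (zl (S : Subgroup G) H)] in
/-- `n i` in `H` -/
def nn (i : Fin k) : ↥H := ⟨n i, D.nH₀ i⟩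

/-- the functional of `n i` on `U₁` -/
noncomputable def ph₁ (i : Fin k) : Md H (Uk H z) →+ ZMod 2 := Md.fnl (n i) (z i) (D.n_act₁ i) (z_mem_Uk H z i)

/-- the functional of `n i` on `U` -/
noncomputable def ph₂ (i : Fin k) : Md H (zl (S : Subgroup G) H) →+ ZMod 2 :=
  Md.fnl (n i) (z i) (D.n_act₂ i) (D.zU i)

theorem tr₁ (i : Fin k) (u : Md H (Uk H z)) : D.nn i • u = u + D.ph₁ i u • zz H z i := Md.fnl_smul rfl u

theorem tr₂ (i : Fin k) (u : Md H (zl (S : Subgroup G) H)) :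
    D.nn i • u = u + D.ph₂ i u • Md.incl D.Uk_le (zz H z i) := Md.fnl_smul rfl u

theorem ph₁_zero {i : Fin k} {u : Md H (Uk H z)} : D.ph₁ i u = 0 ↔ n i * u.val = u.val * n i := Md.fnl_eq_zero

theorem ph₁_self (i : Fin k) : D.ph₁ i (zz H z i) = 0 := by
  rw [D.ph₁_zero]
  exact (D.zn i).symm

theorem ph₁_ne (i : Fin k) : D.ph₁ i ≠ 0 := by
  intro h0
  obtain ⟨f, hf, h1⟩ := D.exists_f i
  have h2 : D.ph₁ i (Md.mk H f hf) = 0 := by rw [h0]; rfl
  rw [D.ph₁_zero, Md.val_mk] at h2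
  rw [← h2, mul_inv_cancel_right] at h1
  exact D.z1 i (right_eq_mul.mp h1)

theorem cj (i j : Fin k) : ∃ x : ↥H, zz H z j = x • zz H z i ∧ D.ph₁ j = act x (D.ph₁ i) := by
  obtain ⟨s, hs, h⟩ := D.Str i j
  refine ⟨⟨s, D.SH hs⟩, Md.ext ?_, ?_⟩
  · rw [Md.val_smul]
    exact h.symm
  · ext u
    have h1 : D.ph₁ j u = 0 ↔ act (⟨s, D.SH hs⟩ : ↥H) (D.ph₁ i) u = 0 := by
      rw [act_apply, D.ph₁_zero, D.ph₁_zero, ← D.s_comm hs h (D.Uk_le u.val_mem), Md.val_smul,
        InvMemClass.coe_inv, inv_inv]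
      change _ ↔ n i * (s⁻¹ * u.val * s) = s⁻¹ * u.val * s * n i
      constructor
      · intro h2
        calc n i * (s⁻¹ * u.val * s) = s⁻¹ * (s * n i * s⁻¹ * u.val) * s := by group
          _ = s⁻¹ * u.val * s * n i := by rw [h2]; group
      · intro h2
        calc s * n i * s⁻¹ * u.val = s * (n i * (s⁻¹ * u.val * s)) * s⁻¹ := by group
          _ = u.val * (s * n i * s⁻¹) := by rw [h2]; group
    rcases z2 (D.ph₁ j u) with h2 | h2
    · rw [h2, h1.mp h2]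
    · rcases z2 (act (⟨s, D.SH hs⟩ : ↥H) (D.ph₁ i) u) with h3 | h3
      · rw [h1.mpr h3] at h2; exact absurd h2 (by decide)
      · rw [h2, h3]

theorem mem_Fx {m : Md H (Uk H z)} : m ∈ FxN (Md H (Uk H z)) ((NN (S : Subgroup G) P H).subgroupOf H) ↔
    ∀ x ∈ NN (S : Subgroup G) P H, x * m.val = m.val * x := by
  constructor
  · intro h x hx
    exact (Md.smul_eq_iff _ _).mp (h ⟨x, D.NN_le_H hx⟩ (mem_subgroupOf.mpr hx))
  · intro h x hx
    exact (Md.smul_eq_iff _ _).mpr (h x (mem_subgroupOf.mp hx))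

/-- the group generated by the transvections -/
theorem gen (i₀ : Fin k) : ∀ x ∈ (NN (S : Subgroup G) P H).subgroupOf H,
    ∃ n' ∈ Subgroup.closure {y : ↥H | ∃ x : ↥H, ∀ u : Md H (Uk H z),
      y • u = u + act x (D.ph₁ i₀) u • (x • zz H z i₀)}, ∀ u : Md H (Uk H z), x • u = n' • u := by
  set T' := Subgroup.closure {y : ↥H | ∃ x : ↥H, ∀ u : Md H (Uk H z),
      y • u = u + act x (D.ph₁ i₀) u • (x • zz H z i₀)} with hT'
  have hn : ∀ t ∈ T', ∀ x : ↥H, x * t * x⁻¹ ∈ T' := by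
    intro t ht x
    induction ht using Subgroup.closure_induction with
    | mem y hy =>
      obtain ⟨b, hb⟩ := hy
      refine subset_closure ⟨x * b, fun u => ?_⟩
      rw [conj_tr hb x, mul_smul]
      congr 2
      rw [act_apply, act_apply, act_apply, mul_inv_rev, mul_smul]
    | one => rw [mul_one, mul_inv_cancel]; exact one_mem _
    | mul a b _ _ ha hb =>
      have e1 : x * (a * b) * x⁻¹ = (x * a * x⁻¹) * (x * b * x⁻¹) := by group
      rw [e1]
      exact mul_mem ha hb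
    | inv a _ ha =>
      have e1 : x * a⁻¹ * x⁻¹ = (x * a * x⁻¹)⁻¹ := by group
      rw [e1]
      exact inv_mem ha
  let K' : Subgroup G :=
    { carrier := {g | ∃ hg : g ∈ H, ∃ n' ∈ T', ∀ u : Md H (Uk H z), (⟨g, hg⟩ : ↥H) • u = n' • u}
      one_mem' := ⟨one_mem _, 1, one_mem _, fun _ => rfl⟩
      mul_mem' := by
        rintro a b ⟨ha, x, hx, h1⟩ ⟨hb, y, hy, h2⟩
        refine ⟨mul_mem ha hb, x * y, mul_mem hx hy, fun u => ?_⟩
        have e1 : (⟨a * b, mul_mem ha hb⟩ : ↥H) = ⟨a, ha⟩ * ⟨b, hb⟩ := rfl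
        rw [e1, mul_smul, mul_smul, h2, h1]
      inv_mem' := by
        rintro a ⟨ha, x, hx, h1⟩
        refine ⟨inv_mem ha, x⁻¹, inv_mem hx, fun u => ?_⟩
        have e1 : (⟨a⁻¹, inv_mem ha⟩ : ↥H) = (⟨a, ha⟩ : ↥H)⁻¹ := rfl
        rw [e1, inv_smul_eq_iff, h1, smul_inv_smul] }
  have hV : zl (S : Subgroup G) P ≤ K' := by
    have htriv : ∀ x ∈ zl (S : Subgroup G) H, x ∈ K' := by
      intro x hx
      refine ⟨D.US.trans D.SH hx, 1, one_mem _, fun u => ?_⟩
      rw [one_smul, Md.smul_eq_iff]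
      exact D.commU hx (D.Uk_le u.val_mem)
    have h0 : closure (Set.range z ∪ Set.range n) ≤ K' := by
      rw [closure_le]
      rintro _ (⟨i, rfl⟩ | ⟨i, rfl⟩)
      · exact htriv _ (D.zU i)
      · obtain ⟨x, h1, h2⟩ := D.cj i₀ i
        refine ⟨D.nH₀ i, D.nn i, subset_closure ⟨x, fun u => ?_⟩, fun u => rfl⟩
        rw [D.tr₁, h1, h2]
    intro v hv
    obtain ⟨x, hx, ε, hε, rfl⟩ := D.cov v hv
    exact mul_mem (h0 hx) (htriv _ (ZU (mem_inf.mp hε).1))
  have hN : NN (S : Subgroup G) P H ≤ K' := by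
    refine NN_le fun x hx => ?_
    intro y hy
    rw [mem_pointwise_smul_iff_inv_smul_mem] at hy
    obtain ⟨hg, t, ht, h1⟩ := hV hy
    have e0 : y = x * ((MulAut.conj x)⁻¹ • y) * x⁻¹ := by simp [mul_assoc]
    have hyH : y ∈ H := by
      rw [e0]
      exact mul_mem (mul_mem hx hg) (inv_mem hx)
    refine ⟨hyH, ⟨x, hx⟩ * t * ⟨x, hx⟩⁻¹, hn t ht _, fun u => ?_⟩
    have e1 : (⟨y, hyH⟩ : ↥H) = ⟨x, hx⟩ * ⟨_, hg⟩ * (⟨x, hx⟩ : ↥H)⁻¹ := Subtype.ext e0
    rw [e1, mul_smul, mul_smul, h1, mul_smul, mul_smul]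
  rintro x hx
  obtain ⟨hg, t, ht, h1⟩ := hN (mem_subgroupOf.mp hx)
  exact ⟨t, ht, h1⟩

theorem dat {i₀ : Fin k} {h y : G} (hh : h ∈ H) (hz : h * z i₀ = z i₀ * h) (hy : y ∈ Uk H z)
    (hn : n i₀ * y = y * n i₀) (hb : n i₀ * (h * y * h⁻¹) ≠ (h * y * h⁻¹) * n i₀) :
    Dat ((NN (S : Subgroup G) P H).subgroupOf H) (zz H z i₀) (D.ph₁ i₀) where
  ne h0 := D.z1 i₀ (congrArg Md.val h0)
  span := by
    rw [eq_top_iff]
    rintro m -
    have key : ∀ x ∈ Uk H z, ∃ hx : x ∈ Uk H z, Md.mk H x hx ∈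
        AddSubgroup.closure {m : Md H (Uk H z) | ∃ x : ↥H, x • zz H z i₀ = m} := by
      intro x hx
      refine closure_induction (p := fun x _ => ∃ hx : x ∈ Uk H z, Md.mk H x hx ∈
        AddSubgroup.closure {m : Md H (Uk H z) | ∃ x : ↥H, x • zz H z i₀ = m}) ?_ ?_ ?_ ?_ hx
      · rintro x ⟨i, g, hg, rfl⟩
        obtain ⟨s, h1, -⟩ := D.cj i₀ i
        refine ⟨PPk_sub ⟨i, g, hg, rfl⟩, AddSubgroup.subset_closure ⟨⟨g, hg⟩ * s, Md.ext ?_⟩⟩
        rw [mul_smul, ← h1]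
        rfl
      · exact ⟨one_mem _, AddSubgroup.zero_mem _⟩
      · rintro x y - - ⟨hx, h1⟩ ⟨hy, h2⟩
        exact ⟨mul_mem hx hy, AddSubgroup.add_mem _ h1 h2⟩
      · rintro x - ⟨hx, h1⟩
        exact ⟨inv_mem hx, AddSubgroup.neg_mem _ h1⟩
    obtain ⟨hx, h1⟩ := key m.val m.val_mem
    exact h1
  tr := ⟨D.nn i₀, mem_subgroupOf.mpr (D.nNN i₀), D.tr₁ i₀⟩
  fe := D.ph₁_self i₀
  f0 := D.ph₁_ne i₀
  gen := D.gen i₀
  d := by
    intro x h1 h2 u
    rw [Md.smul_eq_iff]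
    have h3 := D.triv (I := Uk H z ⊓ centralizer (NN (S : Subgroup G) P H : Set G)) inf_le_left
      (le_normalizer_of fun g hg y hy => by
        refine mem_inf.mpr ⟨conj_mem_of_mem (le_normalizer_Uk H z hg) (mem_inf.mp hy).1, ?_⟩
        rw [mem_centralizer_iff]
        intro m hm
        have h4 := mem_centralizer_iff.mp (mem_inf.mp hy).2 _
          (conj_mem_of_mem (le_normalizer_NN (S : Subgroup G) P H (inv_mem hg)) hm)
        rw [inv_inv] at h4
        calc m * (g * y * g⁻¹) = g * (g⁻¹ * m * g * y) * g⁻¹ := by group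
          _ = g * y * g⁻¹ * m := by rw [h4]; group) x.2
      (fun y hy => by
        have h4 := D.mem_Fx.mp (h1 (Md.mk H y hy))
        rw [Md.val_sub, Md.val_smul, Md.val_mk] at h4
        refine mem_inf.mpr ⟨mul_mem (conj_mem_of_mem (le_normalizer_Uk H z x.2) hy) (inv_mem hy), ?_⟩
        rw [mem_centralizer_iff]
        exact h4)
      (fun y hy => by
        have h4 := h2 (Md.mk H y (mem_inf.mp hy).1) (D.mem_Fx.mpr fun m hm =>
          mem_centralizer_iff.mp (mem_inf.mp hy).2 m hm)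
        rw [Md.smul_eq_iff, Md.val_mk] at h4
        rw [cm_def, h4]; group) u.val u.val_mem
    rw [cm_def, mul_inv_eq_one, mul_inv_eq_iff_eq_mul] at h3
    exact h3
  four := by
    have hz' : h⁻¹ * z i₀ * h = z i₀ := by rw [mul_assoc, ← hz, inv_mul_cancel_left]
    refine ⟨act (⟨h, hh⟩ : ↥H)⁻¹ (D.ph₁ i₀), ⟨?_, (⟨h, hh⟩ : ↥H)⁻¹ * D.nn i₀ * (⟨h, hh⟩ : ↥H)⁻¹⁻¹,
      fun u => ?_⟩, act_ne (D.ph₁_ne i₀) _, fun h0 => ?_⟩
    · rw [act_apply, inv_inv]
      have h1 : (⟨h, hh⟩ : ↥H) • zz H z i₀ = zz H z i₀ := (Md.smul_eq_iff _ _).mpr hz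
      rw [h1]
      exact D.ph₁_self i₀
    · rw [conj_tr (D.tr₁ i₀)]
      congr 2
      rw [inv_smul_eq_iff]
      exact ((Md.smul_eq_iff _ _).mpr hz).symm
    · have h1 := DFunLike.congr_fun h0 (Md.mk H y hy)
      have h2 : D.ph₁ i₀ (Md.mk H y hy) = 0 := D.ph₁_zero.mpr hn
      rw [act_apply, inv_inv, h2, D.ph₁_zero] at h1
      exact hb h1

/-- the product of the `z i` -/
theorem val_e : (∑ i, zz H z i).val = e := by
  rw [Md.val_sum, D.eprod]
  rfl

theorem full {i₀ : Fin k} {h y : G} (hh : h ∈ H) (hz : h * z i₀ = z i₀ * h) (hy : y ∈ Uk H z)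
    (hn : n i₀ * y = y * n i₀) (hb : n i₀ * (h * y * h⁻¹) ≠ (h * y * h⁻¹) * n i₀) {x : G}
    (hx : x ∈ zc (S : Subgroup G)) (hxH : ¬ H ≤ centralizer ({x} : Set G)) :
    Full ((NN (S : Subgroup G) P H).subgroupOf H) ((CZ (S : Subgroup G)).subgroupOf H)
      (Md.incl D.Uk_le : Md H (Uk H z) →+ Md H (zl (S : Subgroup G) H)) (zz H z) D.ph₁ D.nn i₀ (D.ph₂ i₀)
      (Md.mk H x (ZU hx)) where
  dat := D.dat hh hz hy hn hb
  inj a b hab := Md.ext (by
    have h1 := congrArg Md.val hab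
    rwa [Md.val_incl, Md.val_incl] at h1)
  eqv _ _ := rfl
  cent := by
    intro g hg u
    rw [Md.smul_eq_iff]
    have h1 : (g : G) ∈ H ⊓ centralizer (Uk H z : Set G) := by
      refine mem_inf.mpr ⟨g.2, ?_⟩
      rw [mem_centralizer_iff]
      intro f hf
      exact ((Md.smul_eq_iff _ _).mp (hg (Md.mk H f hf))).symm
    exact (mem_centralizer_iff.mp (D.cent_U h1) u.val u.val_mem).symm
  tr2 := ⟨D.nn i₀, mem_subgroupOf.mpr (D.nNN i₀), D.tr₁ i₀, D.tr₂ i₀⟩
  cj i := D.cj i₀ i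
  zinj a b hab := D.disj a b (z a) (Or.inl rfl) (Or.inl (congrArg Md.val hab))
  ti := D.tr₁
  NC := by
    intro g
    obtain ⟨m, hm, c, hc, h1⟩ := D.exists_nc g.2
    exact ⟨⟨m, D.NN_le_H hm⟩, mem_subgroupOf.mpr hm, ⟨c, D.CH hc⟩, mem_subgroupOf.mpr hc, Subtype.ext h1⟩
  Ce := by
    intro c hc
    rw [Md.smul_eq_iff, D.val_e]
    have h1 := C_cent D.eZ (mem_subgroupOf.mp hc)
    rwa [mul_inv_eq_iff_eq_mul] at h1
  hash := by
    intro g hg i
    rw [Md.smul_eq_iff, Md.val_mk] at hg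
    have hgK : (g : G) ∈ H ⊓ centralizer ({x} : Set G) := by
      refine mem_inf.mpr ⟨g.2, ?_⟩
      rw [mem_centralizer_iff]
      intro f hf
      rw [Set.mem_singleton_iff.mp hf]
      exact hg.symm
    have h1 := D.V_le_o2 hx hxH (D.nV i)
    have h2 : (g : G) * n i * (g : G)⁻¹ * (n i)⁻¹ ∈ o2 (H ⊓ centralizer ({x} : Set G)) :=
      mul_mem (conj_mem_of_mem (le_normalizer_o2 _ hgK) h1) (inv_mem h1)
    obtain ⟨m, hm⟩ := (o2_isPGroup (H ⊓ centralizer ({x} : Set G))) ⟨_, h2⟩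
    refine ⟨m, fun u => ?_⟩
    have h3 : (g * D.nn i * g⁻¹ * (D.nn i)⁻¹) ^ (2 ^ m) = 1 := by
      apply Subtype.ext
      have h4 := congrArg Subtype.val hm
      exact h4
    rw [h3, one_smul]
  W := by
    rintro ⟨g, hg, hne⟩
    have hH : ¬ H ≤ centralizer ({e} : Set G) := by
      intro h0
      apply hne
      rw [Md.smul_eq_iff, D.val_e]
      exact (mem_centralizer_iff.mp (h0 g.2) e rfl).symm
    refine ⟨{ carrier := {m | m.val ∈ Wl (S : Subgroup G) H e}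
              zero_mem' := by
                change (1 : G) ∈ Wl (S : Subgroup G) H e
                exact one_mem _
              add_mem' := fun {a b} ha hb => by
                change a.val * b.val ∈ Wl (S : Subgroup G) H e
                exact mul_mem ha hb
              neg_mem' := fun {a} ha => by
                change a.val⁻¹ ∈ Wl (S : Subgroup G) H e
                exact inv_mem ha }, ?_, ?_, ?_⟩
    · intro c hc m hm
      rw [Md.smul_eq_iff, D.val_e] at hc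
      refine conj_mem_of_mem (K_norm_Wl (mem_inf.mpr ⟨c.2, ?_⟩)) hm
      rw [mem_centralizer_iff]
      intro f hf
      rw [Set.mem_singleton_iff.mp hf]
      exact hc.symm
    · intro i m hm
      rw [D.ph₁_zero]
      exact mem_centralizer_iff.mp (D.Wl_cent_V D.eZ hH hm) _ (D.nV i)
    · intro hfix
      exfalso
      obtain ⟨g', hg', h1, h2⟩ := D.exists_ne D.eZ hH
      apply h2
      have h3 := hfix ⟨g', hg'⟩ (by
        change ((⟨g', hg'⟩ : ↥H) • ∑ i, zz H z i).val ∈ Wl (S : Subgroup G) H e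
        rw [Md.val_smul, D.val_e]
        exact h1)
      have h4 := congrArg Md.val h3
      rw [Md.val_smul, D.val_e] at h4
      exact h4

end modules

/-- **The case SL does not occur**: `C_H(z_i)` normalises `C_{U₁}(n_i)`. -/
theorem norm_Y (i : Fin k) {h : G} (hh : h ∈ H) (hz : h * z i = z i * h) {y : G} (hy : y ∈ Uk H z)
    (hn : n i * y = y * n i) : n i * (h * y * h⁻¹) = (h * y * h⁻¹) * n i := by
  by_contra hb
  obtain ⟨x, hx, hxH⟩ := D.exists_z
  have := D.md₁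
  have := D.md₂
  have := D.normalN
  exact (D.full hh hz hy hn hb hx hxH).false

end HypK

end Cfsg.Agent.Omega.NOThreeL.RTools.Many

end

-- merged: Cfsg.Agent.Mrg.Omega.NOThreeL.RTools.Many.Mk
section

section


/-!
# NO-3L, box R ∩ (A), `q = 2`, all `k`: the symplectic system from the frame

`HypK.NY D` : elements of `H` commuting with `z i` normalise `C_{U_1}(n i)` (the case `|Φ| = 2`, supplied by SL).

* `HypK.exists_form` : the form; `HypK.exists_sys` : the system `Sys` of `Many/Sys.lean`;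
* `HypK.tv`, `HypK.core`, .. : the fields of `End` which do not mention `g`, `T`.
-/

set_option autoImplicit false
set_option linter.unusedSectionVars false

namespace Cfsg.Agent.Omega.NOThreeL.RTools.Many

open Subgroup Cfsg Cfsg.Agent.Omega.MinPar Cfsg.Agent.Omega.NOThreeL.RTools
open Cfsg.Agent.ZN (zc zl o2)
open Cfsg.Agent.Omega.Frame Cfsg.Agent.Omega.FrameNOFF
open Cfsg.Agent.Omega.Node.NO3L Cfsg.Agent.Omega.NOThreeL.Basic
open Cfsg.Agent.Omega.NoFF.Basic (conj_conj mem_conj conj_le_iff conj_le_centralizer comm_symm comm_mono)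
open Cfsg.Agent.Omega.NOThreeL.Pair (conj_eq_of_mem conj_le_normalizer zl_abel)
open Cfsg.Agent.MinSimple.VModule (zl_le zc_le_zl le_normalizer_zl zc_le o2_isPGroup le_normalizer_o2 le_o2
  normalizer_le_normalizer_zc)
open Cfsg.Agent.Omega.NOThreeL (mem_normalizer_of_conj_eq le_normalizer_of mem_sup_of_comm)
open Cfsg.Agent.Omega.NOThreeL.RTools.SpForm (Tr chi chi_eq_one chi_of_mem chi_of_not Pt)
open scoped Pointwise

universe u

variable {G : Type u} [Group G]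

/-- the transvection property of `t` at `p` for `B` on `U` -/
def Tv (U : Subgroup G) (B : G → G → ℤˣ) (p t : G) : Prop :=
  ∀ m ∈ U, (B p m = 1 → t * m * t⁻¹ = m) ∧ (B p m = -1 → t * m * t⁻¹ = m * p)

namespace HypK

variable [Finite G] {S : Sylow 2 G} {P H : Subgroup G} {k : ℕ} {z n : Fin k → G} {e w : G}

/-- the case `|Φ| = 2` -/
def NY (_D : HypK S P H z n e w) : Prop :=
  ∀ i, ∀ h ∈ H, h * z i = z i * h → ∀ y ∈ Uk H z, y * n i = n i * y → (h * y * h⁻¹) * n i = n i * (h * y * h⁻¹)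

variable (D : HypK S P H z n e w)
include D

theorem nU {h x : G} (hh : h ∈ H) (hx : x ∈ Uk H z) : h * x * h⁻¹ ∈ Uk H z :=
  conj_mem_of_mem (le_normalizer_Uk H z hh) hx

theorem nU' {h x : G} (hh : h ∈ H) (hx : x ∈ Uk H z) : h⁻¹ * x * h ∈ Uk H z := by
  have := D.nU (H.inv_mem hh) hx
  rwa [inv_inv] at this

theorem zU1 (i : Fin k) : z i ∈ Uk H z := z_mem_Uk H z i

theorem nH (i : Fin k) : n i ∈ H := D.VH (D.nV i)

/-- the action of `n i` on the whole of `U_H` -/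
theorem n_act {f : G} (hf : f ∈ zl (S : Subgroup G) H) (i : Fin k) :
    (f * n i = n i * f ∧ n i * f * (n i)⁻¹ = f) ∨ (f * n i ≠ n i * f ∧ n i * f * (n i)⁻¹ = f * z i) := by
  rcases D.Un f hf i with h | h
  · left
    have h1 : f * n i = n i * f := mul_inv_eq_iff_eq_mul.1 h
    exact ⟨h1, by rw [← h1, mul_inv_cancel_right]⟩
  · right
    have h1 : f * n i = z i * n i * f := mul_inv_eq_iff_eq_mul.1 h
    have h2 : n i * f = f * z i * n i := by
      have h3 : z i * f = f * z i := D.commU (D.zU i) hf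
      calc n i * f = (z i * z i) * n i * f := by rw [D.z_sq, one_mul]
        _ = z i * (z i * n i * f) := by group
        _ = z i * (f * n i) := by rw [← h1]
        _ = f * z i * n i := by rw [← mul_assoc, h3]
    refine ⟨fun h3 => ?_, by rw [h2, mul_inv_cancel_right]⟩
    rw [h1] at h3
    have h4 : z i * (n i * f) = 1 * (n i * f) := by rw [one_mul, ← mul_assoc]; exact h3
    exact D.z1 i (mul_right_cancel h4)

theorem tr_z (hY : D.NY) (i : Fin k) :
    Tr (z i) (n i) (Uk H z) (Uk H z ⊓ centralizer ({n i} : Set G)) H where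
  sq x hx := D.Uk_sq hx
  comm x hx y hy := D.Uk_comm hx hy
  nU h hh x hx := D.nU hh hx
  YU := inf_le_left
  eY := mem_inf.2 ⟨D.zU1 i, mem_centralizer_singleton_iff.2 (D.zn i)⟩
  nY h hh hhe y hy := by
    obtain ⟨h1, h2⟩ := mem_inf.1 hy
    refine mem_inf.2 ⟨D.nU hh h1, mem_centralizer_singleton_iff.2 ?_⟩
    exact hY i h hh hhe y h1 (mem_centralizer_singleton_iff.1 h2)
  aH := D.nH i
  a1 y hy := (mem_centralizer_singleton_iff.1 (mem_inf.1 hy).2).symm
  a2 x hx hxY := by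
    rcases D.n_act (D.Uk_le hx) i with ⟨h1, -⟩ | ⟨-, h1⟩
    · exact absurd (mem_inf.2 ⟨hx, mem_centralizer_singleton_iff.2 h1⟩) hxY
    · exact h1
  idx x hx y hy hxY hyY := by
    refine mem_inf.2 ⟨(Uk H z).mul_mem hx hy, mem_centralizer_singleton_iff.2 ?_⟩
    have hx1 : n i * x * (n i)⁻¹ = x * z i := by
      rcases D.n_act (D.Uk_le hx) i with ⟨h1, -⟩ | ⟨-, h1⟩
      · exact absurd (mem_inf.2 ⟨hx, mem_centralizer_singleton_iff.2 h1⟩) hxY
      · exact h1
    have hy1 : n i * y * (n i)⁻¹ = y * z i := by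
      rcases D.n_act (D.Uk_le hy) i with ⟨h1, -⟩ | ⟨-, h1⟩
      · exact absurd (mem_inf.2 ⟨hy, mem_centralizer_singleton_iff.2 h1⟩) hyY
      · exact h1
    have h2 : n i * (x * y) * (n i)⁻¹ = x * y := by
      calc n i * (x * y) * (n i)⁻¹ = (n i * x * (n i)⁻¹) * (n i * y * (n i)⁻¹) := by group
        _ = x * (z i * y) * z i := by rw [hx1, hy1]; group
        _ = x * (y * z i) * z i := by rw [D.Uk_comm (D.zU1 i) hy]
        _ = x * y * (z i * z i) := by group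
        _ = x * y := by rw [D.z_sq, mul_one]
    exact (mul_inv_eq_iff_eq_mul.1 h2).symm
  gen := by
    refine closure_mono ?_
    rintro _ ⟨j, h, hh, rfl⟩
    obtain ⟨s, hs, hsz⟩ := D.Str i j
    exact ⟨h * s, H.mul_mem hh (D.SH hs), by rw [← hsz]; group⟩
  ne := by
    obtain ⟨f, hf, h1⟩ := D.exists_f i
    refine ⟨f, hf, fun h2 => ?_⟩
    have h3 := mem_centralizer_singleton_iff.1 (mem_inf.1 h2).2
    rw [h3, mul_inv_cancel_right] at h1
    exact D.z1 i (mul_eq_right.1 h1.symm)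

/-- **the form** -/
theorem exists_form (hY : D.NY) : ∃ B : G → G → ℤˣ,
    Form0 (Uk H z) (PPk H z) B ∧
    (∀ h ∈ H, ∀ u ∈ Uk H z, ∀ v ∈ Uk H z, B (h * u * h⁻¹) (h * v * h⁻¹) = B u v) ∧
    (∀ i, ∀ v ∈ Uk H z, B (z i) v = 1 ↔ v * n i = n i * v) ∧
    (∀ i, ∀ h ∈ H, Tv (Uk H z) B (h * z i * h⁻¹) (h * n i * h⁻¹)) := by
  obtain ⟨i0, -, -, -⟩ := D.exists_i
  obtain ⟨B, hm, hs, h0, hi, he⟩ := (D.tr_z hY i0).exists_form
  have hcom : ∀ i, ∀ v ∈ Uk H z, B (z i) v = 1 ↔ v * n i = n i * v := by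
    intro i v hv
    obtain ⟨s, hs', hsz⟩ := D.Str i0 i
    have hsH := D.SH hs'
    have hv' := D.nU' hsH hv
    have h1 : B (z i) v = B (z i0) (s⁻¹ * v * s) := by
      rw [← hsz, ← hi s hsH _ (D.zU1 i0) _ hv']
      congr 1
      group
    rw [h1, he _ hv', chi_eq_one, mem_inf, mem_centralizer_singleton_iff, and_iff_right hv']
    have h2 : s⁻¹ * v * s * n i0 = n i0 * (s⁻¹ * v * s) ↔ v * (s * n i0 * s⁻¹) = (s * n i0 * s⁻¹) * v := by
      constructor
      · intro h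
        calc v * (s * n i0 * s⁻¹) = s * (s⁻¹ * v * s * n i0) * s⁻¹ := by group
          _ = s * (n i0 * (s⁻¹ * v * s)) * s⁻¹ := by rw [h]
          _ = _ := by group
      · intro h
        calc s⁻¹ * v * s * n i0 = s⁻¹ * (v * (s * n i0 * s⁻¹)) * s := by group
          _ = s⁻¹ * ((s * n i0 * s⁻¹) * v) * s := by rw [h]
          _ = _ := by group
    rw [h2]
    rcases D.S_n hs' hsz with h3 | h3
    · rw [h3]
    · rw [h3]
      have h4 := D.Uk_comm (D.zU1 i) hv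
      constructor
      · intro h
        have h5 : z i * (v * n i) = z i * (n i * v) := by rw [← mul_assoc, h4, mul_assoc, h, mul_assoc]
        exact mul_left_cancel h5
      · intro h
        rw [← mul_assoc, ← h4, mul_assoc, h, mul_assoc]
  have htv : ∀ i, ∀ h ∈ H, Tv (Uk H z) B (h * z i * h⁻¹) (h * n i * h⁻¹) := by
    intro i h hh m hmU
    have hm' := D.nU' hh hmU
    have h1 : B (h * z i * h⁻¹) m = B (z i) (h⁻¹ * m * h) := by
      rw [← hi h hh _ (D.zU1 i) _ hm']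
      congr 1
      group
    have e1 : (h * n i * h⁻¹) * m * (h * n i * h⁻¹)⁻¹ = h * (n i * (h⁻¹ * m * h) * (n i)⁻¹) * h⁻¹ := by group
    rw [h1, e1]
    have h2 := hcom i _ hm'
    rcases D.n_act (D.Uk_le hm') i with ⟨h3, h4⟩ | ⟨h3, h4⟩
    · rw [h4]
      refine ⟨fun _ => by group, fun h5 => ?_⟩
      rw [h2.2 h3] at h5
      exact absurd h5 (by decide)
    · rw [h4]
      refine ⟨fun h5 => absurd (h2.1 h5) h3, fun _ => by group⟩
  refine ⟨B, ⟨fun u hu => D.Uk_sq hu, fun u hu v hv => D.Uk_comm hu hv, fun p hp => PPk_sub hp, le_rfl, hm, hs, h0,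
    ?_⟩, hi, hcom, htv⟩
  rintro _ ⟨i, h, hh, rfl⟩ q hq h1
  have h2 := (htv i h hh q (PPk_sub hq)).2 h1
  have hpU : h * z i * h⁻¹ ∈ Uk H z := D.nU hh (D.zU1 i)
  rw [D.Uk_comm hpU (PPk_sub hq), ← h2]
  exact PPk_conj (H.mul_mem (H.mul_mem hh (D.nH i)) (H.inv_mem hh)) hq

/-- two conjugates of `n`'s with the same centre act in the same way on `U_H` -/
theorem same_act {B : G → G → ℤˣ} (htv : ∀ i, ∀ h ∈ H, Tv (Uk H z) B (h * z i * h⁻¹) (h * n i * h⁻¹)) {i j : Fin k}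
    {h h' : G} (hh : h ∈ H) (hh' : h' ∈ H) (he : h * z i * h⁻¹ = h' * z j * h'⁻¹) {f : G}
    (hf : f ∈ zl (S : Subgroup G) H) :
    (h * n i * h⁻¹) * f * (h * n i * h⁻¹)⁻¹ = (h' * n j * h'⁻¹) * f * (h' * n j * h'⁻¹)⁻¹ := by
  have h1H : h * n i * h⁻¹ ∈ H := H.mul_mem (H.mul_mem hh (D.nH i)) (H.inv_mem hh)
  have h2H : h' * n j * h'⁻¹ ∈ H := H.mul_mem (H.mul_mem hh' (D.nH j)) (H.inv_mem hh')
  have h1 : (h' * n j * h'⁻¹)⁻¹ * (h * n i * h⁻¹) ∈ H ⊓ centralizer (Uk H z : Set G) := by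
    refine mem_inf.2 ⟨H.mul_mem (H.inv_mem h2H) h1H, mem_centralizer_iff.2 fun m hm => ?_⟩
    have h3 := htv i h hh m hm
    have h4 := htv j h' hh' m hm
    rw [he] at h3
    have h5 : (h * n i * h⁻¹) * m * (h * n i * h⁻¹)⁻¹ = (h' * n j * h'⁻¹) * m * (h' * n j * h'⁻¹)⁻¹ := by
      rcases Int.units_eq_one_or (B (h' * z j * h'⁻¹) m) with h6 | h6
      · rw [h3.1 h6, h4.1 h6]
      · rw [h3.2 h6, h4.2 h6]
    have h6 : (h * n i * h⁻¹) * m = (h' * n j * h'⁻¹) * m * (h' * n j * h'⁻¹)⁻¹ * (h * n i * h⁻¹) :=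
      mul_inv_eq_iff_eq_mul.1 h5
    calc m * ((h' * n j * h'⁻¹)⁻¹ * (h * n i * h⁻¹))
        = (h' * n j * h'⁻¹)⁻¹ * ((h' * n j * h'⁻¹) * m * (h' * n j * h'⁻¹)⁻¹ * (h * n i * h⁻¹)) := by group
      _ = (h' * n j * h'⁻¹)⁻¹ * ((h * n i * h⁻¹) * m) := by rw [h6]
      _ = _ := by group
  have h2 := mem_centralizer_iff.1 (D.cent_U h1) f hf
  calc (h * n i * h⁻¹) * f * (h * n i * h⁻¹)⁻¹
      = (h' * n j * h'⁻¹) * (((h' * n j * h'⁻¹)⁻¹ * (h * n i * h⁻¹)) * f) * (h * n i * h⁻¹)⁻¹ := by group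
    _ = (h' * n j * h'⁻¹) * (f * ((h' * n j * h'⁻¹)⁻¹ * (h * n i * h⁻¹))) * (h * n i * h⁻¹)⁻¹ := by rw [h2]
    _ = _ := by group

/-- the action of a conjugate of `n i` on `U_H` -/
theorem cn_act {f h : G} (hf : f ∈ zl (S : Subgroup G) H) (hh : h ∈ H) (i : Fin k) :
    (h * n i * h⁻¹) * f * (h * n i * h⁻¹)⁻¹ = f ∨ (h * n i * h⁻¹) * f * (h * n i * h⁻¹)⁻¹ = f * (h * z i * h⁻¹) := by
  have hf' : h⁻¹ * f * h ∈ zl (S : Subgroup G) H := by
    have h1 := conj_mem_of_mem (le_normalizer_zl (S : Subgroup G) H (inv_mem hh)) hf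
    rwa [inv_inv] at h1
  have e1 : (h * n i * h⁻¹) * f * (h * n i * h⁻¹)⁻¹ = h * (n i * (h⁻¹ * f * h) * (n i)⁻¹) * h⁻¹ := by group
  rw [e1]
  rcases D.n_act hf' i with ⟨-, h4⟩ | ⟨-, h4⟩
  · left; rw [h4]; group
  · right; rw [h4]; group

/-- (#): `t` at `p` fixes `ζ ∈ Z - C(H)` ⟹ `p ⊥ z_i` -/
theorem hash_aux {B : G → G → ℤˣ} (F : Form0 (Uk H z) (PPk H z) B)
    (hi : ∀ h ∈ H, ∀ u ∈ Uk H z, ∀ v ∈ Uk H z, B (h * u * h⁻¹) (h * v * h⁻¹) = B u v)
    (htv : ∀ i, ∀ h ∈ H, Tv (Uk H z) B (h * z i * h⁻¹) (h * n i * h⁻¹)) {ζ : G}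
    (hζ : ζ ∈ zc (S : Subgroup G)) (hζ1 : ¬ H ≤ centralizer ({ζ} : Set G)) {j : Fin k} {h : G} (hh : h ∈ H)
    (hc : (h * n j * h⁻¹) * ζ = ζ * (h * n j * h⁻¹)) (i : Fin k) : B (h * z j * h⁻¹) (z i) = 1 := by
  by_contra hB
  have hB := ne_one hB
  set t := h * n j * h⁻¹ with ht
  set p := h * z j * h⁻¹ with hp
  have htH : t ∈ H := H.mul_mem (H.mul_mem hh (D.nH j)) (H.inv_mem hh)
  have hpU : p ∈ Uk H z := D.nU hh (D.zU1 j)
  have hziU := D.zU1 (i := i)
  set O := o2 (H ⊓ centralizer ({ζ} : Set G)) with hO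
  have hnO : n i ∈ O := D.V_le_o2 hζ hζ1 (D.nV i)
  have htK : t ∈ H ⊓ centralizer ({ζ} : Set G) := mem_inf.2 ⟨htH, mem_centralizer_singleton_iff.2 hc⟩
  have htn : t * n i * t⁻¹ ∈ O := conj_mem_of_mem (le_normalizer_o2 _ htK) hnO
  set x := t * n i * t⁻¹ * n i with hx
  have hxO : x ∈ O := O.mul_mem htn hnO
  -- the action of `x`
  have h1 : Tv (Uk H z) B (z i) (n i) := by
    have := htv i 1 H.one_mem
    simpa using this
  have h2 : Tv (Uk H z) B (t * z i * t⁻¹) (t * n i * t⁻¹) := htv i t htH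
  have h3 : Tv (Uk H z) B p t := htv j h hh
  have htz : t * z i * t⁻¹ = z i * p := (h3 _ hziU).2 hB
  rw [htz] at h2
  have hBzp : B (z i) p = -1 := by rw [F.symm _ hziU _ hpU]; exact hB
  have hzpU : z i * p ∈ Uk H z := (Uk H z).mul_mem hziU hpU
  have hzp := D.Uk_comm hziU hpU
  have hsq := D.z_sq i
  have hpp := D.Uk_sq hpU
  -- `z ↦ p ↦ zp ↦ z`
  have conj_x : ∀ m, x * m * x⁻¹ = (t * n i * t⁻¹) * (n i * m * (n i)⁻¹) * (t * n i * t⁻¹)⁻¹ := fun m => by
    rw [hx]; group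
  have a1 : x * z i * x⁻¹ = p := by
    rw [conj_x, (h1 _ hziU).1 (F.self _ hziU), (h2 _ hziU).2 (by
      rw [F.mul_left hziU hpU hziU, F.self _ hziU, hB, one_mul])]
    rw [← mul_assoc, hsq, one_mul]
  have a2 : x * p * x⁻¹ = p * z i := by
    rw [conj_x, (h1 _ hpU).2 hBzp, (h2 _ ((Uk H z).mul_mem hpU hziU)).1 (by
      rw [F.mul_left hziU hpU ((Uk H z).mul_mem hpU hziU), F.mul _ hziU _ hpU _ hziU, F.mul _ hpU _ hpU _ hziU,
        F.self _ hziU, F.self _ hpU, hBzp, hB]; decide)]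
  have a3 : x * (p * z i) * x⁻¹ = z i := by
    have e1 : x * (p * z i) * x⁻¹ = (x * p * x⁻¹) * (x * z i * x⁻¹) := by group
    rw [e1, a1, a2, mul_assoc, hzp, ← mul_assoc, hpp, one_mul]
  have a4 : Commute (x ^ 3) (z i) := by
    have e1 : x ^ 3 * z i * (x ^ 3)⁻¹ = x * (x * (x * z i * x⁻¹) * x⁻¹) * x⁻¹ := by
      have e0 : x ^ 3 = x * x * x := by rw [pow_succ, pow_two]
      rw [e0]; group
    have e2 : x ^ 3 * z i * (x ^ 3)⁻¹ = z i := by rw [e1, a1, a2, a3]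
    exact mul_inv_eq_iff_eq_mul.1 e2
  obtain ⟨m, hm⟩ := (o2_isPGroup (H ⊓ centralizer ({ζ} : Set G))) ⟨x, hxO⟩
  have hm' : x ^ 2 ^ m = 1 := by
    have := congrArg Subtype.val hm
    simpa using this
  have a5 : Commute x (z i) := by
    have hcop : Nat.Coprime (2 ^ m) 3 := Nat.Coprime.pow_left m (by norm_num)
    have h4 : (1 : ℤ) = (2 ^ m : ℕ) * Nat.gcdA (2 ^ m) 3 + (3 : ℕ) * Nat.gcdB (2 ^ m) 3 := by
      have := Nat.gcd_eq_gcd_ab (2 ^ m) 3
      rw [hcop] at this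
      exact_mod_cast this
    have h5 : x = (x ^ 3) ^ (Nat.gcdB (2 ^ m) 3) := by
      calc x = x ^ (1 : ℤ) := (zpow_one x).symm
        _ = x ^ ((2 ^ m : ℕ) * Nat.gcdA (2 ^ m) 3 + (3 : ℕ) * Nat.gcdB (2 ^ m) 3 : ℤ) := by rw [← h4]
        _ = _ := by rw [zpow_add, zpow_mul, zpow_mul, zpow_natCast, hm', one_zpow, one_mul, zpow_natCast]
    rw [h5]
    exact a4.zpow_left _
  have h6 : p = z i := by rw [← a1, a5.eq, mul_inv_cancel_right]
  rw [h6, F.self _ hziU] at hB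
  exact absurd hB (by decide)

/-- some `ζ ∈ Z` is not centralised by `H` -/
theorem exists_zeta : ∃ ζ ∈ zc (S : Subgroup G), ¬ H ≤ centralizer ({ζ} : Set G) := by
  by_contra hcon
  push Not at hcon
  have h1 : H ≤ normalizer (zc (S : Subgroup G) : Set G) := by
    refine le_normalizer_of fun h hh x hx => ?_
    have h2 := mem_centralizer_singleton_iff.1 (hcon x hx hh)
    rw [h2, mul_inv_cancel_right]
    exact hx
  have h2 : zl (S : Subgroup G) H ≤ zc (S : Subgroup G) := zl_le le_rfl h1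
  apply D.ne
  intro v hv
  rw [mem_centralizer_iff]
  intro f hf
  exact (zcomm (h2 hf) (D.VS hv)).symm

/-- **(#)** -/
theorem hash {B : G → G → ℤˣ} (F : Form0 (Uk H z) (PPk H z) B)
    (hi : ∀ h ∈ H, ∀ u ∈ Uk H z, ∀ v ∈ Uk H z, B (h * u * h⁻¹) (h * v * h⁻¹) = B u v)
    (htv : ∀ i, ∀ h ∈ H, Tv (Uk H z) B (h * z i * h⁻¹) (h * n i * h⁻¹)) :
    ∃ φ : G → ℤˣ, (∀ p ∈ PPk H z, ∀ q ∈ PPk H z, B p q = -1 → φ (p * q) = φ p * φ q) ∧
      ∀ p ∈ PPk H z, φ p = 1 → ∀ i, B p (z i) = 1 := by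
  classical
  obtain ⟨ζ, hζ, hζ1⟩ := D.exists_zeta
  have hζU : ζ ∈ zl (S : Subgroup G) H := ZU hζ
  let Q : G → Prop := fun p => ∃ i, ∃ h ∈ H, p = h * z i * h⁻¹ ∧ (h * n i * h⁻¹) * ζ = ζ * (h * n i * h⁻¹)
  -- `Q` does not depend on the representation
  have hQ : ∀ i, ∀ h ∈ H, Q (h * z i * h⁻¹) ↔ (h * n i * h⁻¹) * ζ * (h * n i * h⁻¹)⁻¹ = ζ := by
    intro i h hh
    constructor
    · rintro ⟨j, h', hh', h1, h2⟩
      rw [D.same_act htv hh hh' h1 hζU, h2, mul_inv_cancel_right]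
    · intro h1
      exact ⟨i, h, hh, rfl, mul_inv_eq_iff_eq_mul.1 h1⟩
  refine ⟨fun p => if Q p then 1 else -1, ?_, ?_⟩
  · rintro _ ⟨i, h, hh, rfl⟩ _ ⟨j, h', hh', rfl⟩ hB
    set t := h * n i * h⁻¹ with ht
    set t' := h' * n j * h'⁻¹ with ht'
    set p := h * z i * h⁻¹ with hp
    set q := h' * z j * h'⁻¹ with hq
    have htH : t ∈ H := H.mul_mem (H.mul_mem hh (D.nH i)) (H.inv_mem hh)
    have hpU : p ∈ Uk H z := D.nU hh (D.zU1 i)
    have hqU : q ∈ Uk H z := D.nU hh' (D.zU1 j)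
    have hpU' := D.Uk_le hpU
    have hqU' := D.Uk_le hqU
    have htq : t * q * t⁻¹ = q * p := (htv i h hh q hqU).2 hB
    have hpq : p * q = (t * h') * z j * (t * h')⁻¹ := by
      have e1 : (t * h') * z j * (t * h')⁻¹ = t * q * t⁻¹ := by rw [hq]; group
      rw [e1, htq, D.Uk_comm hpU hqU]
    have htt : t⁻¹ = t := by
      have h1 : t * t = 1 := by
        rw [ht]
        calc h * n i * h⁻¹ * (h * n i * h⁻¹) = h * (n i * n i) * h⁻¹ := by group
          _ = 1 := by rw [D.n_sq]; group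
      exact inv_eq_of_mul_eq_one_left h1
    have hpp := D.Uk_sq hpU
    -- `t' p t'⁻¹ = p q`
    have ht'p : t' * p * t'⁻¹ = p * q := (htv j h' hh' p hpU).2 (by rw [F.symm _ hqU _ hpU]; exact hB)
    have h3 : Q (p * q) ↔ t' * (t * ζ * t⁻¹) * t'⁻¹ = t * ζ * t⁻¹ := by
      rw [hpq, hQ j _ (H.mul_mem htH hh')]
      have e1 : (t * h') * n j * (t * h')⁻¹ = t * t' * t⁻¹ := by rw [ht']; group
      rw [e1]
      constructor
      · intro h4
        have e2 : t' * (t * ζ * t⁻¹) * t'⁻¹ = t⁻¹ * ((t * t' * t⁻¹) * ζ * (t * t' * t⁻¹)⁻¹) * t := by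
          conv_rhs => rw [show (t * t' * t⁻¹) * ζ * (t * t' * t⁻¹)⁻¹ = t * t' * (t⁻¹ * ζ * t) * t'⁻¹ * t⁻¹ by group]
          rw [htt]
          conv_rhs => rw [show t * (t * t' * (t * ζ * t) * t'⁻¹ * t) * t = (t * t) * t' * (t * ζ * t) * t'⁻¹ * (t * t) by
            group]
          have h5 : t * t = 1 := by
            calc t * t = t⁻¹ * t := by rw [htt]
              _ = 1 := inv_mul_cancel t
          rw [h5, one_mul, mul_one]
        rw [e2, h4, htt]
      · intro h4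
        have e2 : (t * t' * t⁻¹) * ζ * (t * t' * t⁻¹)⁻¹ = t * (t' * (t⁻¹ * ζ * t) * t'⁻¹) * t⁻¹ := by group
        have e3 : t⁻¹ * ζ * t = t * ζ * t⁻¹ := by rw [htt]
        rw [e2, e3, h4]
        have h5 : t * t = 1 := by
          calc t * t = t⁻¹ * t := by rw [htt]
            _ = 1 := inv_mul_cancel t
        calc t * (t * ζ * t⁻¹) * t⁻¹ = (t * t) * ζ * (t⁻¹ * t⁻¹) := by group
          _ = ζ := by rw [htt, h5, one_mul, mul_one]
    have h4 : Q q ↔ t' * ζ * t'⁻¹ = ζ := hQ j h' hh'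
    have h5 : Q p ↔ t * ζ * t⁻¹ = ζ := hQ i h hh
    have hp1 : p ≠ 1 := by
      intro h6
      rw [h6, F.one_left hqU] at hB
      exact absurd hB (by decide)
    have hq1 : q ≠ 1 := by
      intro h6
      rw [h6, F.one_right hpU] at hB
      exact absurd hB (by decide)
    show (if Q (p * q) then (1 : ℤˣ) else -1) = (if Q p then 1 else -1) * (if Q q then 1 else -1)
    by_cases hQp : Q p
    · have h6 := h5.1 hQp
      rw [h6] at h3
      have h7 : Q (p * q) ↔ Q q := h3.trans h4.symm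
      rw [if_pos hQp, one_mul]
      by_cases hQq : Q q
      · rw [if_pos hQq, if_pos (h7.2 hQq)]
      · rw [if_neg hQq, if_neg (fun h8 => hQq (h7.1 h8))]
    · have h6 : t * ζ * t⁻¹ = ζ * p :=
        (D.cn_act hζU hh i).resolve_left fun h7 => hQp (h5.2 h7)
      rw [h6] at h3
      have e1 : t' * (ζ * p) * t'⁻¹ = (t' * ζ * t'⁻¹) * (p * q) := by rw [← ht'p]; group
      have h7 : Q (p * q) ↔ ¬ Q q := by
        rw [h3, e1, h4]
        rcases D.cn_act hζU hh' j with h8 | h8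
        · rw [h8]
          constructor
          · intro h9
            exfalso
            have h10 : ζ * p * q = ζ * p * 1 := by rw [mul_one, mul_assoc]; exact h9
            exact hq1 (mul_left_cancel h10)
          · intro h9; exact absurd rfl h9
        · rw [h8]
          constructor
          · intro _ h9
            exact hq1 (mul_eq_left.1 h9)
          · intro _
            rw [mul_assoc ζ, ← mul_assoc _ p q, ← D.Uk_comm hpU hqU, mul_assoc p q q, D.Uk_sq hqU, mul_one]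
      rw [if_neg hQp]
      by_cases hQq : Q q
      · rw [if_pos hQq, if_neg (fun h8 => (h7.1 h8) hQq)]; rfl
      · rw [if_neg hQq, if_pos (h7.2 hQq)]; decide
  · intro p hp hφ i
    have hQp : Q p := by
      by_contra h1
      simp only [if_neg h1] at hφ
      exact absurd hφ (by decide)
    obtain ⟨j, h, hh, rfl, h2⟩ := hQp
    exact D.hash_aux F hi htv hζ hζ1 hh h2 i

end HypK

end Cfsg.Agent.Omega.NOThreeL.RTools.Many

end

section


/-!
# NO-3L, box R ∩ (A), `q = 2`, all `k`: the system `Sys` from the frame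

* `HypK.exists_sys` : `Sys`, the action of the `n i` and the transvections; `HypK.syl`.
-/

set_option autoImplicit false
set_option linter.unusedSectionVars false
set_option linter.unusedVariables false

namespace Cfsg.Agent.Omega.NOThreeL.RTools.Many

open Subgroup Cfsg Cfsg.Agent.Omega.MinPar Cfsg.Agent.Omega.NOThreeL.RTools
open Cfsg.Agent.ZN (zc zl o2)
open Cfsg.Agent.Omega.Frame Cfsg.Agent.Omega.FrameNOFF
open Cfsg.Agent.Omega.Node.NO3L Cfsg.Agent.Omega.NOThreeL.Basic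
open Cfsg.Agent.Omega.NoFF.Basic (conj_conj mem_conj conj_le_iff conj_le_centralizer comm_symm comm_mono)
open Cfsg.Agent.Omega.NOThreeL.Pair (conj_eq_of_mem conj_le_normalizer zl_abel)
open Cfsg.Agent.MinSimple.VModule (zl_le zc_le_zl le_normalizer_zl zc_le o2_isPGroup le_normalizer_o2 le_o2
  normalizer_le_normalizer_zc)
open Cfsg.Agent.Omega.NOThreeL (mem_normalizer_of_conj_eq le_normalizer_of mem_sup_of_comm)
open scoped Pointwise

universe u

variable {G : Type u} [Group G]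

/-- the radical of the form -/
def radS {U : Subgroup G} {PP : Set G} {B : G → G → ℤˣ} (F : Form0 U PP B) : Subgroup G where
  carrier := {x | x ∈ U ∧ ∀ y ∈ U, B x y = 1}
  mul_mem' := by
    rintro x y ⟨hx, h1⟩ ⟨hy, h2⟩
    exact ⟨U.mul_mem hx hy, fun m hm => by rw [F.mul_left hx hy hm, h1 m hm, h2 m hm, one_mul]⟩
  one_mem' := ⟨U.one_mem, fun m hm => F.one_left hm⟩
  inv_mem' := by
    rintro x ⟨hx, h1⟩
    exact ⟨U.inv_mem hx, fun m hm => by rw [F.inv hx]; exact h1 m hm⟩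

theorem mem_radS {U : Subgroup G} {PP : Set G} {B : G → G → ℤˣ} (F : Form0 U PP B) {x : G} :
    x ∈ radS F ↔ x ∈ U ∧ ∀ y ∈ U, B x y = 1 := Iff.rfl

namespace HypK

variable [Finite G] {S : Sylow 2 G} {P H : Subgroup G} {k : ℕ} {z n : Fin k → G} {e w : G}
variable (D : HypK S P H z n e w)
include D

/-- `H` normalises the radical -/
theorem H_norm_rad {B : G → G → ℤˣ} (F : Form0 (Uk H z) (PPk H z) B)
    (hi : ∀ h ∈ H, ∀ u ∈ Uk H z, ∀ v ∈ Uk H z, B (h * u * h⁻¹) (h * v * h⁻¹) = B u v) :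
    H ≤ normalizer (radS F : Set G) := by
  refine le_normalizer_of fun h hh x hx => ?_
  obtain ⟨hx1, hx2⟩ := (mem_radS F).1 hx
  refine (mem_radS F).2 ⟨D.nU hh hx1, fun y hy => ?_⟩
  have hy' := D.nU' hh hy
  have e1 : h * (h⁻¹ * y * h) * h⁻¹ = y := by group
  rw [← e1, hi h hh x hx1 _ hy']
  exact hx2 _ hy'

/-- **(0)(d)** for the form -/
theorem core {B : G → G → ℤˣ} (F : Form0 (Uk H z) (PPk H z) B)
    (hi : ∀ h ∈ H, ∀ u ∈ Uk H z, ∀ v ∈ Uk H z, B (h * u * h⁻¹) (h * v * h⁻¹) = B u v) {h : G} (hh : h ∈ H)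
    (h1 : ∀ m ∈ Uk H z, ∀ y ∈ Uk H z, B (h * m * h⁻¹ * m⁻¹) y = 1)
    (h2 : ∀ m ∈ Uk H z, (∀ y ∈ Uk H z, B m y = 1) → h * m * h⁻¹ = m) : ∀ m ∈ Uk H z, h * m * h⁻¹ = m := by
  intro m hm
  have h3 := D.triv (I := radS F) (fun x hx => ((mem_radS F).1 hx).1) (D.H_norm_rad F hi) hh
    (fun x hx => (mem_radS F).2 ⟨D.cm_mem hh (D.Uk_le hx), fun y hy => h1 x hx y hy⟩)
    (fun x hx => by
      have h4 := (mem_radS F).1 hx
      rw [cm_def, h2 x h4.1 h4.2, mul_inv_cancel]) m hm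
  rwa [cm_def, mul_inv_eq_one] at h3

/-- `N` fixes the components -/
theorem comp_N {B : G → G → ℤˣ} (F : Form0 (Uk H z) (PPk H z) B)
    (hi : ∀ h ∈ H, ∀ u ∈ Uk H z, ∀ v ∈ Uk H z, B (h * u * h⁻¹) (h * v * h⁻¹) = B u v)
    (htv : ∀ i, ∀ h ∈ H, Tv (Uk H z) B (h * z i * h⁻¹) (h * n i * h⁻¹)) {m : G}
    (hm : m ∈ NN (S : Subgroup G) P H) {p : G} (hp : p ∈ PPk H z) : m * p * m⁻¹ ∈ Comp (PPk H z) B p := by
  have hPH : ∀ h ∈ H, ∀ p ∈ PPk H z, h * p * h⁻¹ ∈ PPk H z := fun h hh p hp => PPk_conj hh hp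
  let M₁ : Subgroup G :=
    { carrier := {x | x ∈ H ∧ ∀ p ∈ PPk H z, x * p * x⁻¹ ∈ Comp (PPk H z) B p}
      mul_mem' := by
        rintro x y ⟨hx, h1⟩ ⟨hy, h2⟩
        refine ⟨H.mul_mem hx hy, fun p hp => ?_⟩
        have e1 : x * y * p * (x * y)⁻¹ = x * (y * p * y⁻¹) * x⁻¹ := by group
        rw [e1]
        exact Form0.comp_trans (h2 p hp) (h1 _ (hPH y hy p hp))
      one_mem' := ⟨H.one_mem, fun p _ => by rw [one_mul, inv_one, mul_one]; exact Form0.comp_self p⟩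
      inv_mem' := by
        rintro x ⟨hx, h1⟩
        refine ⟨H.inv_mem hx, fun p hp => ?_⟩
        have h2 := h1 _ (hPH _ (H.inv_mem hx) p hp)
        have e1 : x * (x⁻¹ * p * x⁻¹⁻¹) * x⁻¹ = p := by group
        rw [e1] at h2
        exact F.comp_symm h2 }
  -- elements of `U_H` and transvections
  have hUM : ∀ x ∈ zl (S : Subgroup G) H, x ∈ M₁ := by
    intro x hx
    refine ⟨D.SH (D.US hx), fun p hp => ?_⟩
    rw [D.commU hx (D.Uk_le (PPk_sub hp)), mul_inv_cancel_right]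
    exact Form0.comp_self p
  have hTM : ∀ i, ∀ h ∈ H, h * n i * h⁻¹ ∈ M₁ := by
    intro i h hh
    refine ⟨H.mul_mem (H.mul_mem hh (D.nH i)) (H.inv_mem hh), fun p hp => ?_⟩
    have h1 := htv i h hh p (PPk_sub hp)
    have hqP : h * z i * h⁻¹ ∈ PPk H z := ⟨i, h, hh, rfl⟩
    rcases Int.units_eq_one_or (B (h * z i * h⁻¹) p) with h2 | h2
    · rw [h1.1 h2]; exact Form0.comp_self p
    · rw [h1.2 h2]
      have h3 : B p (h * z i * h⁻¹) = -1 := by rw [F.symm _ (PPk_sub hp) _ (PPk_sub hqP)]; exact h2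
      refine Form0.comp_adj hp (Form0.comp_self p) (F.tr p hp _ hqP h3) ?_
      rw [F.mul _ (PPk_sub hp) _ (PPk_sub hp) _ (PPk_sub hqP), F.self _ (PPk_sub hp), h3, one_mul]
  have hle : NN (S : Subgroup G) P H ≤ M₁ := by
    refine NN_le fun h hh v' hv' => ?_
    rw [mem_conj] at hv'
    obtain ⟨x, hx, ε, hε, h1⟩ := D.cov _ hv'
    have e1 : v' = (h * x * h⁻¹) * (h * ε * h⁻¹) := by
      have e2 : v' = h * (h⁻¹ * v' * h) * h⁻¹ := by group
      rw [e2, h1]; group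
    have h2 : h * x * h⁻¹ ∈ M₁ := by
      refine closure_induction (p := fun x _ => h * x * h⁻¹ ∈ M₁) ?_ ?_ ?_ ?_ hx
      · rintro _ (⟨i, rfl⟩ | ⟨i, rfl⟩)
        · exact hUM _ (conj_mem_of_mem (le_normalizer_zl _ _ hh) (D.zU i))
        · exact hTM i h hh
      · rw [mul_one, mul_inv_cancel]; exact one_mem _
      · intro a b _ _ ha hb
        have e3 : h * (a * b) * h⁻¹ = (h * a * h⁻¹) * (h * b * h⁻¹) := by group
        rw [e3]; exact mul_mem ha hb
      · intro a _ ha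
        have e3 : h * a⁻¹ * h⁻¹ = (h * a * h⁻¹)⁻¹ := by group
        rw [e3]; exact inv_mem ha
    rw [e1]
    exact mul_mem h2 (hUM _ (conj_mem_of_mem (le_normalizer_zl _ _ hh) (ZU (mem_inf.1 hε).1)))
  exact (hle hm).2 p hp

/-- some element of `U_1` is moved by the transvection at `h z_i h⁻¹` -/
theorem exists_moved {B : G → G → ℤˣ} (F : Form0 (Uk H z) (PPk H z) B)
    (hi : ∀ h ∈ H, ∀ u ∈ Uk H z, ∀ v ∈ Uk H z, B (h * u * h⁻¹) (h * v * h⁻¹) = B u v)
    (hc : ∀ i, ∀ v ∈ Uk H z, B (z i) v = 1 ↔ v * n i = n i * v) {h : G} (hh : h ∈ H) (i : Fin k) :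
    ∃ m ∈ Uk H z, B (h * z i * h⁻¹) m = -1 := by
  obtain ⟨f, hf, h1⟩ := D.exists_f i
  refine ⟨h * f * h⁻¹, D.nU hh hf, ?_⟩
  rw [hi h hh _ (D.zU1 i) _ hf]
  by_contra h2
  have h3 := (hc i f hf).1 (ne_neg h2)
  rw [h3, mul_inv_cancel_right] at h1
  exact D.z1 i (mul_eq_right.1 h1.symm)

/-- `PP ∩ p Rad = {p}` -/
theorem ppr {B : G → G → ℤˣ} (F : Form0 (Uk H z) (PPk H z) B)
    (hi : ∀ h ∈ H, ∀ u ∈ Uk H z, ∀ v ∈ Uk H z, B (h * u * h⁻¹) (h * v * h⁻¹) = B u v)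
    (hc : ∀ i, ∀ v ∈ Uk H z, B (z i) v = 1 ↔ v * n i = n i * v)
    (htv : ∀ i, ∀ h ∈ H, Tv (Uk H z) B (h * z i * h⁻¹) (h * n i * h⁻¹)) {p q : G} (hp : p ∈ PPk H z)
    (hq : q ∈ PPk H z) (hr : ∀ y ∈ Uk H z, B (p * q) y = 1) : p = q := by
  have hpU := PPk_sub hp
  have hqU := PPk_sub hq
  obtain ⟨i, h, hh, hpe⟩ := hp
  obtain ⟨j, h', hh', hqe⟩ := hq
  have ht := htv i h hh
  have ht' := htv j h' hh'
  rw [← hpe] at ht
  rw [← hqe] at ht'
  set t := h * n i * h⁻¹ with htdef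
  set t' := h' * n j * h'⁻¹ with htdef'
  have htH : t ∈ H := H.mul_mem (H.mul_mem hh (D.nH i)) (H.inv_mem hh)
  have htH' : t' ∈ H := H.mul_mem (H.mul_mem hh' (D.nH j)) (H.inv_mem hh')
  have hpq := (Uk H z).mul_mem hpU hqU
  have hBpq : ∀ m ∈ Uk H z, B p m = B q m := by
    intro m hm
    have h1 := hr m hm
    rw [F.mul_left hpU hqU hm] at h1
    rcases Int.units_eq_one_or (B p m) with h2 | h2 <;> rcases Int.units_eq_one_or (B q m) with h3 | h3 <;>
      rw [h2, h3] at h1 ⊢ <;> first | rfl | exact absurd h1 (by decide)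
  have hact : ∀ m ∈ Uk H z, (B p m = 1 → (t * t') * m * (t * t')⁻¹ = m) ∧
      (B p m = -1 → (t * t') * m * (t * t')⁻¹ = m * (p * q)) := by
    intro m hm
    have e1 : (t * t') * m * (t * t')⁻¹ = t * (t' * m * t'⁻¹) * t⁻¹ := by group
    rw [e1]
    refine ⟨fun h1 => ?_, fun h1 => ?_⟩
    · rw [(ht' m hm).1 (by rw [← hBpq m hm]; exact h1), (ht m hm).1 h1]
    · rw [(ht' m hm).2 (by rw [← hBpq m hm]; exact h1)]
      have h2 : B p q = 1 := by rw [hBpq q hqU, F.self q hqU]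
      have e2 : t * (m * q) * t⁻¹ = (t * m * t⁻¹) * (t * q * t⁻¹) := by group
      rw [e2, (ht m hm).2 h1, (ht q hqU).1 h2, mul_assoc]
  have h1 := D.core F hi (H.mul_mem htH htH') (fun m hm y hy => by
    rcases Int.units_eq_one_or (B p m) with h2 | h2
    · rw [(hact m hm).1 h2, mul_inv_cancel, F.one_left hy]
    · rw [(hact m hm).2 h2, D.Uk_comm hm hpq, mul_inv_cancel_right]
      exact hr y hy) (fun m hm hm' => (hact m hm).1 (by rw [F.symm p hpU m hm]; exact hm' p hpU))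
  obtain ⟨m, hm, hBm⟩ := D.exists_moved F hi hc hh i
  rw [← hpe] at hBm
  have h2 := h1 m hm
  rw [(hact m hm).2 hBm] at h2
  have h3 : p * q = 1 := mul_eq_left.1 h2
  calc p = p * (q * q) := by rw [D.Uk_sq hqU, mul_one]
    _ = p * q * q := by group
    _ = q := by rw [h3, one_mul]

/-- **the symplectic system** -/
theorem exists_sys (hY : D.NY) : ∃ (B : G → G → ℤˣ) (ω : Fin k → G), Sys H (Uk H z) (PPk H z) B z ω ∧
    (∀ u ∈ Uk H z, ∀ i, B (z i) u = 1 ↔ n i * u = u * n i) ∧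
    (∀ q ∈ PPk H z, ∃ t ∈ H, t * t = 1 ∧
      ∀ m ∈ Uk H z, (B q m = 1 → t * m * t⁻¹ = m) ∧ (B q m = -1 → t * m * t⁻¹ = m * q)) := by
  obtain ⟨B, F, hi, hc, htv⟩ := D.exists_form hY
  have hzP : ∀ i, z i ∈ PPk H z := fun i => ⟨i, 1, H.one_mem, by group⟩
  have hω : ∀ i, ∃ q ∈ PPk H z, B q (z i) = -1 := by
    intro i
    by_contra hcon
    push Not at hcon
    obtain ⟨m, hm, hBm⟩ := D.exists_moved F hi hc H.one_mem i
    rw [one_mul, inv_one, mul_one] at hBm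
    have h1 := F.rad_of_pts (D.zU1 i) (fun p hp => by
      rw [F.symm _ (D.zU1 i) _ (PPk_sub hp)]; exact ne_neg (hcon p hp)) m hm
    rw [h1] at hBm
    exact absurd hBm (by decide)
  choose ω hω1 hω2 using hω
  refine ⟨B, ω, ?_, fun u hu i => (hc i u hu).trans eq_comm, ?_⟩
  · exact
      { toForm0 := F
        nU := fun h hh u hu => D.nU hh hu
        nP := fun h hh p hp => PPk_conj hh hp
        isom := hi
        ppr := fun p hp q hq hr => D.ppr F hi hc htv hp hq hr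
        zP := hzP
        zi := fun i j hij => D.disj i j (z i) (Or.inl rfl) (by rw [hij]; exact Or.inl rfl)
        wP := hω1
        wz := hω2
        hash := D.hash F hi htv
        fac := by
          intro h hh
          obtain ⟨m, hm, c, hcC, rfl⟩ := D.exists_nc hh
          refine ⟨m, D.NN_le_H hm, c, D.CH hcC, rfl, fun p hp => D.comp_N F hi htv hm hp, ?_⟩
          have h1 : LP z = e := D.eprod.symm
          rw [h1]
          exact mul_inv_eq_iff_eq_mul.1 (C_cent D.eZ hcC)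
        tz := by
          rintro _ ⟨i, h, hh, rfl⟩
          exact ⟨h, hh, i, rfl⟩ }
  · rintro _ ⟨i, h, hh, rfl⟩
    refine ⟨h * n i * h⁻¹, H.mul_mem (H.mul_mem hh (D.nH i)) (H.inv_mem hh), ?_, htv i h hh⟩
    calc h * n i * h⁻¹ * (h * n i * h⁻¹) = h * (n i * n i) * h⁻¹ := by group
      _ = 1 := by rw [D.n_sq]; group

/-- Sylow's theorem in `K = C_H(e)` -/
theorem syl {t : G} (ht : t ∈ H) (hte : t * LP z = LP z * t) (htt : t * t = 1) :
    ∃ h ∈ H, h * LP z = LP z * h ∧ h * t * h⁻¹ ∈ (S : Subgroup G) := by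
  have he : LP z = e := D.eprod.symm
  rw [he] at hte ⊢
  have hSK : (S : Subgroup G) ≤ H ⊓ centralizer ({e} : Set G) :=
    le_inf D.SH (fun s hs => mem_centralizer_singleton_iff.2 (zcomm D.eZ hs))
  have hp : IsPGroup 2 (zpowers t) := by
    by_cases h : t = 1
    · refine IsPGroup.of_card (n := 0) ?_
      rw [Nat.card_zpowers, h, orderOf_one, pow_zero]
    · refine IsPGroup.of_card (n := 1) ?_
      rw [Nat.card_zpowers, pow_one]
      exact orderOf_eq_prime (by rw [pow_two]; exact htt) h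
  obtain ⟨m, hm, hle⟩ := Cfsg.Agent.Omega.FFThm.exists_conj_le S hSK hp
    (zpowers_le.2 (mem_inf.2 ⟨ht, mem_centralizer_singleton_iff.2 hte⟩))
  refine ⟨m, (mem_inf.1 hm).1, mem_centralizer_singleton_iff.1 (mem_inf.1 hm).2, hle ?_⟩
  exact ⟨t, mem_zpowers t, rfl⟩

end HypK

end Cfsg.Agent.Omega.NOThreeL.RTools.Many

end

section


/-!
# NO-3L, box R, case (A), `q = 2`, all `k`, symplectic case (#18037, helper850): (4), three groups

`SpK` : the frame `HypK` with the form on `U₁ = Uk H z` (`Sys`, 401): `f_i = B (z i) ·`.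
`T = Tk H z w = U₁ ∩ U₁^w`, `X = ⟨U₁, U₁^w⟩`, `Y₁ = Yk = U₁ ∩ C(V)`, `g = gk = u u^w`, `u = LP ω` (all `f_i(u) = 1`).

* `SpK.exists_J` : every subset of `Fin k` is `{i | f_i(u) = 1}` for some `u ∈ U₁`;
* `SpK.threeG` : the three groups `U₁`, `U₁^w`, `U₁^{uw}` (571's `ThreeG`); `gz` : `z_i^g = n_i`; `gP`, `g_E`;
* `SpK.X_T`, `SpK.T_le`, `SpK.core` (`x ∈ U₁^w`, `x u = u x` implies `x ∈ T`), `SpK.S_T` (`S` normalises `T`),
  `SpK.z_not` (`z_i ∉ T`), `SpK.TI` (`T ∩ Rad = 1`);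
* `SpK.comm_mem` : `[Y₁, Y₁^w] ≤ T`; `SpK.rad_comm` : `[Rad, Y₁^w] = 1`; `SpK.comm_perp` : `[Y₁, Y₁^w] ⊥ Y₁`;
  `SpK.perpY` : `Y₁^⊥ = ⟨z_1, …, z_k⟩ Rad`.
-/

set_option autoImplicit false
set_option linter.unusedSectionVars false

namespace Cfsg.Agent.Omega.NOThreeL.RTools.Many

open Subgroup Cfsg Cfsg.Agent.Omega.MinPar Cfsg.Agent.Omega.NOThreeL.RTools
open Cfsg.Agent.ZN (zc zl o2)
open Cfsg.Agent.Omega.Frame Cfsg.Agent.Omega.FrameNOFF
open Cfsg.Agent.Omega.Node.NO3L Cfsg.Agent.Omega.NOThreeL.Basic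
open Cfsg.Agent.Omega.NoFF.Basic (conj_conj mem_conj conj_le_iff conj_le_centralizer comm_symm comm_mono)
open Cfsg.Agent.Omega.NOThreeL.Pair (conj_eq_of_mem conj_le_normalizer zl_abel)
open Cfsg.Agent.MinSimple.VModule (zl_le zc_le_zl le_normalizer_zl zc_le o2_isPGroup le_normalizer_o2 le_o2
  normalizer_le_normalizer_zc)
open Cfsg.Agent.Omega.NOThreeL (mem_normalizer_of_conj_eq le_normalizer_of mem_sup_of_comm)
open Cfsg.Agent.Omega.NOThreeL.RAOne (ThreeG)
open scoped Pointwise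

universe u

variable {G : Type u} [Group G]

/-- The frame with the form on `U₁`. -/
structure SpK [Finite G] (S : Sylow 2 G) (P H : Subgroup G) {k : ℕ} (z n : Fin k → G) (e w : G)
    (B : G → G → ℤˣ) (ω : Fin k → G) : Prop extends HypK S P H z n e w where
  sys : Sys H (Uk H z) (PPk H z) B z ω
  act : ∀ u ∈ Uk H z, ∀ i, B (z i) u = 1 ↔ n i * u = u * n i

/-- `T = U₁ ∩ U₁^w`. -/
def Tk {k : ℕ} (H : Subgroup G) (z : Fin k → G) (w : G) : Subgroup G := Uk H z ⊓ MulAut.conj w • Uk H z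

/-- `g = u u^w`, `u = ω_1 ⋯ ω_k`. -/
def gk {k : ℕ} (ω : Fin k → G) (w : G) : G := LP ω * (w * LP ω * w⁻¹)

/-- `I = C_{U₁}(N)`, the radical of the form -/
def Ik {k : ℕ} (S P H : Subgroup G) (z : Fin k → G) : Subgroup G := Uk H z ⊓ centralizer (NN S P H : Set G)

/-- `Y₁ = C_{U₁}(V)` -/
def Yk {k : ℕ} (S P H : Subgroup G) (z : Fin k → G) : Subgroup G := Uk H z ⊓ centralizer (zl S P : Set G)

/-- `L = ⟨z_1, …, z_k⟩ I` -/
def Lk {k : ℕ} (S P H : Subgroup G) (z : Fin k → G) : Subgroup G := closure (Set.range z) ⊔ Ik S P H z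

namespace SpK

variable [Finite G] {S : Sylow 2 G} {P H : Subgroup G} {k : ℕ} {z n : Fin k → G} {e w : G}
variable {B : G → G → ℤˣ} {ω : Fin k → G}
variable (D : SpK S P H z n e w B ω)
include D

/-- the action of `u ∈ U₁` on `n_i` -/
theorem act' {u : G} (hu : u ∈ Uk H z) (i : Fin k) :
    (B (z i) u = 1 ∧ u * n i * u⁻¹ = n i) ∨ (B (z i) u = -1 ∧ u * n i * u⁻¹ = z i * n i) := by
  by_cases h : B (z i) u = 1
  · left
    refine ⟨h, ?_⟩
    rw [← (D.act u hu i).mp h, mul_inv_cancel_right]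
  · right
    refine ⟨ne_one h, (D.Un u (D.Uk_le hu) i).resolve_left fun h1 => h ?_⟩
    rw [D.act u hu i]
    rw [mul_inv_eq_iff_eq_mul] at h1
    exact h1.symm

/-- every subset of `Fin k` occurs -/
theorem exists_J (J : Set (Fin k)) : ∃ u ∈ Uk H z, ∀ i, (i ∈ J → u * n i * u⁻¹ = z i * n i) ∧
    (i ∉ J → u * n i * u⁻¹ = n i) := by
  classical
  set f : Fin k → G := fun i => if i ∈ J then ω i else 1 with hf
  have hfU : ∀ i, f i ∈ Uk H z := fun i => by
    rw [hf]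
    dsimp only
    split_ifs
    · exact D.sys.wU i
    · exact one_mem _
  have hB : ∀ i, B (z i) (LP f) = if i ∈ J then -1 else 1 := by
    intro i
    rw [D.sys.B_LP (D.sys.zU i) f hfU, Finset.prod_eq_single i]
    · rw [hf]
      dsimp only
      split_ifs
      · exact D.sys.z_w_self i
      · exact D.sys.toForm0.one_right (D.sys.zU i)
    · intro j _ hj
      rw [hf]
      dsimp only
      split_ifs
      · exact D.sys.z_w hj.symm
      · exact D.sys.toForm0.one_right (D.sys.zU i)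
    · intro h; exact absurd (Finset.mem_univ i) h
  refine ⟨LP f, LP_mem hfU, fun i => ⟨fun hi => ?_, fun hi => ?_⟩⟩
  · rcases D.act' (LP_mem hfU) i with ⟨h, -⟩ | ⟨-, h⟩
    · rw [hB i, if_pos hi] at h
      exact absurd h (by decide)
    · exact h
  · rcases D.act' (LP_mem hfU) i with ⟨-, h⟩ | ⟨h, -⟩
    · exact h
    · rw [hB i, if_neg hi] at h
      exact absurd h (by decide)

theorem uU : LP ω ∈ Uk H z := LP_mem D.sys.wU

theorem B_u (i : Fin k) : B (z i) (LP ω) = -1 := by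
  rw [D.sys.B_LP (D.sys.zU i) ω D.sys.wU, Finset.prod_eq_single i]
  · exact D.sys.z_w_self i
  · exact fun j _ hj => D.sys.z_w hj.symm
  · intro h; exact absurd (Finset.mem_univ i) h

/-- `u` moves all the `n_i` -/
theorem un (i : Fin k) : LP ω * n i * (LP ω)⁻¹ = z i * n i := by
  rcases D.act' D.uU i with ⟨h, -⟩ | ⟨-, h⟩
  · rw [D.B_u i] at h; exact absurd h (by decide)
  · exact h

theorem uz (i : Fin k) : LP ω * z i * (LP ω)⁻¹ = z i := by
  rw [D.Uz _ (D.Uk_le D.uU) i, mul_inv_cancel_right]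

theorem UP : Uk H z ≤ P := (D.Uk_le.trans D.US).trans D.SP

theorem PV : P ≤ normalizer (zl (S : Subgroup G) P : Set G) := le_normalizer_zl _ _

/-- an element of `P` permuting the `z_i` normalises `U₁` -/
theorem norm_of_perm {p : G} (hp : p ∈ P) (h : ∀ i, ∃ j, p * z i * p⁻¹ = z j) : p ∈ normalizer (Uk H z : Set G) :=
  le_normalizer_Uk H z (D.CH ((D.Cz p hp).mpr h))

theorem C_norm : centralizer (zl (S : Subgroup G) P : Set G) ≤ normalizer (Uk H z : Set G) :=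
  ((centralizer_le (zc_le_zl (S : Subgroup G) P)).trans D.CH).trans (le_normalizer_Uk H z)

theorem P_normC {p : G} (hp : p ∈ P) : p ∈ normalizer (centralizer (zl (S : Subgroup G) P : Set G) : Set G) := by
  refine mem_normalizer_of_conj_eq ?_
  rw [Cfsg.Agent.Omega.NOThreeL.ThmT.conj_centralizer_eq (D.PV hp)]

theorem wu_mem : w * LP ω * w⁻¹ ∈ MulAut.conj w • Uk H z := by
  rw [mem_conj]
  have e1 : w⁻¹ * (w * LP ω * w⁻¹) * w = LP ω := by group
  rw [e1]
  exact D.uU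

theorem winv_n (i : Fin k) : w⁻¹ * n i * w = z i := by
  rw [← D.wz i]; group

theorem winv_z (i : Fin k) : w⁻¹ * z i * w = n i := by
  rw [← D.wn i]; group

/-- `S` normalises `U₁` -/
theorem S_norm : (S : Subgroup G) ≤ normalizer (Uk H z : Set G) := D.SH.trans (le_normalizer_Uk H z)

/-- `u^w` on `z_i` -/
theorem vz (i : Fin k) : (w * LP ω * w⁻¹) * z i * (w * LP ω * w⁻¹)⁻¹ = z i * n i := by
  calc (w * LP ω * w⁻¹) * z i * (w * LP ω * w⁻¹)⁻¹ = w * (LP ω * (w⁻¹ * z i * w) * (LP ω)⁻¹) * w⁻¹ := by group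
    _ = w * (z i * n i) * w⁻¹ := by rw [D.winv_z i, D.un i]
    _ = (w * z i * w⁻¹) * (w * n i * w⁻¹) := by group
    _ = z i * n i := by rw [D.wz i, D.wn i, D.zn i]

/-- **the three groups** -/
theorem threeG : ThreeG (Uk H z) (MulAut.conj w • Uk H z) (centralizer (zl (S : Subgroup G) P : Set G)) (LP ω)
    (w * LP ω * w⁻¹) where
  abA x hx y hy := D.Uk_comm hx hy
  abB x hx y hy := by
    rw [mem_conj] at hx hy
    have h1 := D.Uk_comm hx hy
    calc x * y = w * ((w⁻¹ * x * w) * (w⁻¹ * y * w)) * w⁻¹ := by group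
      _ = w * ((w⁻¹ * y * w) * (w⁻¹ * x * w)) * w⁻¹ := by rw [h1]
      _ = y * x := by group
  uA := D.uU
  vB := D.wu_mem
  uu := D.Uk_sq D.uU
  vv := by
    have e1 : w * LP ω * w⁻¹ * (w * LP ω * w⁻¹) = w * (LP ω * LP ω) * w⁻¹ := by group
    rw [e1, D.Uk_sq D.uU, mul_one, mul_inv_cancel]
  swap := by
    have h0 : w⁻¹ * (LP ω)⁻¹ * w * LP ω * w⁻¹ ∈ normalizer (Uk H z : Set G) := by
      have huP : LP ω ∈ P := D.UP D.uU
      refine D.norm_of_perm (mul_mem (mul_mem (mul_mem (mul_mem (inv_mem D.w_mem) (inv_mem huP)) D.w_mem) huP)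
        (inv_mem D.w_mem)) fun i => ⟨i, ?_⟩
      have hui : (LP ω)⁻¹ = LP ω := inv_eq_of_mul_eq_one_left (D.Uk_sq D.uU)
      have e3 : ∀ x : G, (LP ω)⁻¹ * x * LP ω = LP ω * x * (LP ω)⁻¹ := fun x => by rw [hui]
      calc w⁻¹ * (LP ω)⁻¹ * w * LP ω * w⁻¹ * z i * (w⁻¹ * (LP ω)⁻¹ * w * LP ω * w⁻¹)⁻¹
          = w⁻¹ * ((LP ω)⁻¹ * (w * (LP ω * (w⁻¹ * z i * w) * (LP ω)⁻¹) * w⁻¹) * LP ω) * w := by group
        _ = w⁻¹ * ((LP ω)⁻¹ * ((w * z i * w⁻¹) * (w * n i * w⁻¹)) * LP ω) * w := by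
            rw [D.winv_z i, D.un i]; group
        _ = w⁻¹ * (LP ω * (n i * z i) * (LP ω)⁻¹) * w := by rw [D.wz i, D.wn i, e3]
        _ = w⁻¹ * ((LP ω * n i * (LP ω)⁻¹) * (LP ω * z i * (LP ω)⁻¹)) * w := by group
        _ = w⁻¹ * (z i * n i * z i) * w := by rw [D.un i, D.uz i]
        _ = w⁻¹ * (n i * (z i * z i)) * w := by rw [D.zn i]; group
        _ = z i := by rw [D.z_sq i, mul_one, D.winv_n i]
    have h1 := conj_eq_of_mem h0
    calc MulAut.conj (w * LP ω * w⁻¹) • Uk H z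
        = MulAut.conj (LP ω * w) • (MulAut.conj (w⁻¹ * (LP ω)⁻¹ * w * LP ω * w⁻¹) • Uk H z) := by
          rw [conj_conj]
          congr 2
          group
      _ = MulAut.conj (LP ω) • (MulAut.conj w • Uk H z) := by rw [h1, conj_conj]
  DA := D.C_norm
  DB := by
    have h1 := conj_le_normalizer (g := w) D.C_norm
    rwa [conj_eq_of_mem (D.P_normC D.w_mem)] at h1
  uD := D.P_normC (D.UP D.uU)
  vD := mul_mem (mul_mem (D.P_normC D.w_mem) (D.P_normC (D.UP D.uU))) (inv_mem (D.P_normC D.w_mem))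

theorem gP : gk ω w ∈ P := mul_mem (D.UP D.uU) (mul_mem (mul_mem D.w_mem (D.UP D.uU)) (inv_mem D.w_mem))

theorem gX : gk ω w ∈ Uk H z ⊔ MulAut.conj w • Uk H z :=
  mul_mem ((le_sup_left : Uk H z ≤ _) D.uU) ((le_sup_right : MulAut.conj w • Uk H z ≤ _) D.wu_mem)

/-- **`z_i^g = n_i`** -/
theorem gz (i : Fin k) : gk ω w * z i * (gk ω w)⁻¹ = n i := by
  rw [gk]
  calc LP ω * (w * LP ω * w⁻¹) * z i * (LP ω * (w * LP ω * w⁻¹))⁻¹
      = LP ω * ((w * LP ω * w⁻¹) * z i * (w * LP ω * w⁻¹)⁻¹) * (LP ω)⁻¹ := by group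
    _ = (LP ω * z i * (LP ω)⁻¹) * (LP ω * n i * (LP ω)⁻¹) := by rw [D.vz i]; group
    _ = z i * (z i * n i) := by rw [D.uz i, D.un i]
    _ = n i := by rw [← mul_assoc, D.z_sq, one_mul]

theorem conj_g : MulAut.conj (gk ω w) • Uk H z = MulAut.conj w • Uk H z := D.threeG.conj_g

/-- **`X` centralises `T`** -/
theorem X_T : Uk H z ⊔ MulAut.conj w • Uk H z ≤ centralizer (Tk H z w : Set G) := by
  refine sup_le (fun x hx => mem_centralizer_iff.2 fun y hy => ?_)
    (fun x hx => mem_centralizer_iff.2 fun y hy => ?_)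
  · exact D.threeG.abA y hy.1 x hx
  · exact D.threeG.abB y hy.2 x hx

theorem X_le : Uk H z ⊔ MulAut.conj w • Uk H z ≤ P := by
  refine sup_le D.UP ?_
  have h1 := conj_le_iff (g := w).2 D.UP
  rwa [conj_eq_of_mem (Subgroup.le_normalizer D.w_mem)] at h1

/-- `g` centralises `T` -/
theorem g_T {t : G} (ht : t ∈ Tk H z w) : gk ω w * t = t * gk ω w :=
  (mem_centralizer_iff.mp (D.X_T D.gX) t ht).symm

/-- `g` centralises `E` -/
theorem g_E {t : G} (ht : t ∈ centralizer (P : Set G)) : gk ω w * t = t * gk ω w :=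
  mem_centralizer_iff.mp ht _ D.gP

theorem n_mem (i : Fin k) : n i ∈ MulAut.conj w • Uk H z := by
  rw [mem_conj, D.winv_n i]
  exact z_mem_Uk H z i

/-- `T ≤ C(V)` -/
theorem T_le : Tk H z w ≤ centralizer (zl (S : Subgroup G) P : Set G) := by
  intro t ht
  refine D.cent_of (D.Uk_le ht.1) fun i => ?_
  rw [D.threeG.abB t ht.2 _ (D.n_mem i), mul_inv_cancel_right]

theorem nz1 (i : Fin k) : n i ≠ 1 := by
  intro h
  have h1 := D.wz i
  rw [h] at h1
  apply D.z1 i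
  have h2 : z i = w⁻¹ * (w * z i * w⁻¹) * w := by group
  rw [h2, h1]; group

/-- `z_i ∉ T` -/
theorem z_not (i : Fin k) : z i ∉ Tk H z w := by
  intro h
  have h1 := D.gz i
  rw [D.g_T h, mul_inv_cancel_right] at h1
  exact D.nz i h1.symm

/-- **core**: an element of `U₁^w` commuting with `u` is in `T` -/
theorem core {x : G} (hx : x ∈ MulAut.conj w • Uk H z) (hu : LP ω * x = x * LP ω) : x ∈ Tk H z w := by
  -- `x ∈ U₁^w ∩ U₁^{wu} = (U₁^w ∩ U₁)^v`, `v = u^w`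
  have h1 : x ∈ MulAut.conj (w * LP ω * w⁻¹) • Uk H z := by
    rw [D.threeG.swap, mem_conj]
    have e1 : (LP ω)⁻¹ * x * LP ω = x := by rw [mul_assoc, ← hu, inv_mul_cancel_left]
    rwa [e1]
  rw [mem_conj] at h1
  have hv := D.wu_mem
  have h2 : (w * LP ω * w⁻¹)⁻¹ * x * (w * LP ω * w⁻¹) = x := by
    rw [mul_assoc, D.threeG.abB x hx _ hv, inv_mul_cancel_left]
  rw [h2] at h1
  exact ⟨h1, hx⟩

/-- **`S` normalises `T`** -/
theorem S_T : (S : Subgroup G) ≤ normalizer (Tk H z w : Set G) := by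
  intro s hs
  refine mem_normalizer_of_conj_eq ?_
  have hsA := conj_eq_of_mem (D.S_norm hs)
  have h0 : MulAut.conj s • Tk H z w = Uk H z ⊓ MulAut.conj (s * w) • Uk H z := by
    rw [Tk, smul_inf, hsA, conj_conj]
  rw [h0]
  -- `s` maps `n_i` to `n_j` or `z_j n_j`
  obtain ⟨x, hx, hxJ⟩ := D.exists_J {j | ∃ i, s * n i * s⁻¹ = z j * n j}
  have hxP := D.UP hx
  have key : w⁻¹ * (x⁻¹ * s) * w ∈ normalizer (Uk H z : Set G) := by
    refine D.norm_of_perm (mul_mem (mul_mem (inv_mem D.w_mem) (mul_mem (inv_mem hxP) (D.SP hs))) D.w_mem)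
      fun i => ?_
    obtain ⟨j, hj⟩ := D.Sz s hs i
    refine ⟨j, ?_⟩
    have e1 : w⁻¹ * (x⁻¹ * s) * w * z i * (w⁻¹ * (x⁻¹ * s) * w)⁻¹
        = w⁻¹ * (x⁻¹ * (s * (w * z i * w⁻¹) * s⁻¹) * x) * w := by group
    rw [e1, D.wz i]
    have hxn : ∀ y : G, x * n j * x⁻¹ = y → x⁻¹ * y * x = n j := by
      intro y hy; rw [← hy]; group
    rcases D.S_n hs hj with h1 | h1
    · rw [h1]
      have h2 : j ∉ {j | ∃ i, s * n i * s⁻¹ = z j * n j} := by
        rintro ⟨i', hi'⟩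
        -- `s n_i' s⁻¹ = z_j n_j` and `s n_i s⁻¹ = n_j`
        have h3 : i' = i := by
          obtain ⟨σ, hσ⟩ := D.perm s (D.SP hs)
          have h4 : σ i' = j := D.disj _ _ _ (hσ i' _ (Or.inr (Or.inl rfl))) (by rw [hi']; exact Or.inr (Or.inr rfl))
          have h5 : σ i = j := D.disj _ _ _ (hσ i _ (Or.inr (Or.inl rfl))) (by rw [h1]; exact Or.inr (Or.inl rfl))
          exact σ.injective (h4.trans h5.symm)
        rw [h3, h1] at hi'
        exact D.z1 j (mul_eq_right.1 hi'.symm)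
      rw [hxn _ ((hxJ j).2 h2), D.winv_n j]
    · rw [h1, hxn _ ((hxJ j).1 ⟨i, h1⟩), D.winv_n j]
  have h1 := conj_eq_of_mem key
  have h3 : MulAut.conj (s * w) • Uk H z = MulAut.conj x • (MulAut.conj w • Uk H z) := by
    calc MulAut.conj (s * w) • Uk H z
        = MulAut.conj (x * w) • (MulAut.conj (w⁻¹ * (x⁻¹ * s) * w) • Uk H z) := by
          rw [conj_conj]
          congr 2
          group
      _ = MulAut.conj x • (MulAut.conj w • Uk H z) := by rw [h1, conj_conj]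
  have h4 := conj_eq_of_mem (Subgroup.le_normalizer hx : x ∈ normalizer (Uk H z : Set G))
  have h5 : MulAut.conj x • Tk H z w = Tk H z w :=
    conj_eq_of_mem (centralizer_le_normalizer _ (D.X_T ((le_sup_left : Uk H z ≤ _) hx)))
  calc Uk H z ⊓ MulAut.conj (s * w) • Uk H z = MulAut.conj x • Tk H z w := by
        rw [h3, Tk, smul_inf, h4]
    _ = Tk H z w := h5

/-! ### The radical -/

theorem z_conj_mem {h : G} (hh : h ∈ H) (i : Fin k) : h * z i * h⁻¹ ∈ Uk H z := PPk_sub ⟨i, h, hh, rfl⟩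

theorem conj_mem {h x : G} (hh : h ∈ H) (hx : x ∈ Uk H z) : h * x * h⁻¹ ∈ Uk H z :=
  conj_mem_of_mem (le_normalizer_Uk H z hh) hx

theorem conj_mem' {h x : G} (hh : h ∈ H) (hx : x ∈ Uk H z) : h⁻¹ * x * h ∈ Uk H z := by
  have h1 := D.conj_mem (inv_mem hh) hx
  rwa [inv_inv] at h1

/-- `B` and conjugation -/
theorem B_conj {h x y : G} (hh : h ∈ H) (hx : x ∈ Uk H z) (hy : y ∈ Uk H z) :
    B (h * x * h⁻¹) y = B x (h⁻¹ * y * h) := by
  have h1 := D.sys.isom h hh x hx _ (D.conj_mem' hh hy)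
  have e1 : h * (h⁻¹ * y * h) * h⁻¹ = y := by group
  rwa [e1] at h1

/-- `I` is the radical -/
theorem rad_iff {x : G} (hx : x ∈ Uk H z) :
    (∀ y ∈ Uk H z, B x y = 1) ↔ x ∈ centralizer (NN (S : Subgroup G) P H : Set G) := by
  constructor
  · intro h
    refine comm_symm (A := NN (S : Subgroup G) P H) (B := closure {x}) ?_ |>.trans
      (le_refl _) (subset_closure rfl)
    refine NN_le fun m hm v' hv' => ?_
    rw [mem_conj] at hv'
    rw [centralizer_closure, mem_centralizer_iff]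
    intro y hy
    rw [Set.mem_singleton_iff.mp hy]
    -- `x' = m⁻¹ x m` centralises `V`
    have hx' := D.conj_mem' hm hx
    have h1 : m⁻¹ * x * m ∈ centralizer (zl (S : Subgroup G) P : Set G) := by
      refine D.cent_of (D.Uk_le hx') fun i => ?_
      rcases D.act' hx' i with ⟨-, h2⟩ | ⟨h2, -⟩
      · exact h2
      · exfalso
        rw [← D.B_conj hm (D.sys.zU i) hx, D.sys.symm _ (D.z_conj_mem hm i) _ hx, h _ (D.z_conj_mem hm i)] at h2
        exact absurd h2 (by decide)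
    have h2 := mem_centralizer_iff.mp h1 _ hv'
    calc x * v' = m * ((m⁻¹ * x * m) * (m⁻¹ * v' * m)) * m⁻¹ := by group
      _ = m * ((m⁻¹ * v' * m) * (m⁻¹ * x * m)) * m⁻¹ := by rw [h2]
      _ = v' * x := by group
  · intro h
    refine D.sys.toForm0.rad_of_pts hx ?_
    rintro _ ⟨i, m, hm, rfl⟩
    rw [D.sys.symm _ hx _ (D.z_conj_mem hm i), D.B_conj hm (D.sys.zU i) hx, D.act _ (D.conj_mem' hm hx) i]
    have h1 : m * n i * m⁻¹ ∈ NN (S : Subgroup G) P H := by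
      refine conj_le_NN hm ?_
      rw [mem_conj]
      have e1 : m⁻¹ * (m * n i * m⁻¹) * m = n i := by group
      rw [e1]
      exact D.nV i
    have h2 := mem_centralizer_iff.mp h _ h1
    calc n i * (m⁻¹ * x * m) = m⁻¹ * ((m * n i * m⁻¹) * x) * m := by group
      _ = m⁻¹ * (x * (m * n i * m⁻¹)) * m := by rw [h2]
      _ = (m⁻¹ * x * m) * n i := by group

theorem mem_Ik {x : G} : x ∈ Ik (S : Subgroup G) P H z ↔ x ∈ Uk H z ∧ ∀ y ∈ Uk H z, B x y = 1 := by
  constructor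
  · intro h
    exact ⟨(mem_inf.mp h).1, (D.rad_iff (mem_inf.mp h).1).mpr (mem_inf.mp h).2⟩
  · rintro ⟨h1, h2⟩
    exact mem_inf.mpr ⟨h1, (D.rad_iff h1).mp h2⟩

theorem mem_Yk {x : G} : x ∈ Yk (S : Subgroup G) P H z ↔ x ∈ Uk H z ∧ ∀ i, B (z i) x = 1 := by
  constructor
  · intro h
    refine ⟨(mem_inf.mp h).1, fun i => ?_⟩
    rw [D.act _ (mem_inf.mp h).1 i]
    exact mem_centralizer_iff.mp (mem_inf.mp h).2 _ (D.nV i)
  · rintro ⟨h1, h2⟩
    refine mem_inf.mpr ⟨h1, D.cent_of (D.Uk_le h1) fun i => ?_⟩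
    rw [← (D.act x h1 i).mp (h2 i), mul_inv_cancel_right]

theorem H_norm_Ik : H ≤ normalizer (Ik (S : Subgroup G) P H z : Set G) := by
  refine le_normalizer_of fun h hh x hx => ?_
  obtain ⟨h1, h2⟩ := (D.mem_Ik).mp hx
  refine (D.mem_Ik).mpr ⟨D.conj_mem hh h1, fun y hy => ?_⟩
  rw [D.B_conj hh h1 hy, h2 _ (D.conj_mem' hh hy)]

theorem Ik_le_Yk : Ik (S : Subgroup G) P H z ≤ Yk (S : Subgroup G) P H z :=
  inf_le_inf le_rfl (centralizer_le (le_NN (S : Subgroup G) P H))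

/-- `[z_i]` are in `Y₁` -/
theorem z_mem_Yk (i : Fin k) : z i ∈ Yk (S : Subgroup G) P H z :=
  (D.mem_Yk).mpr ⟨z_mem_Uk H z i, fun j => D.sys.zz j i⟩

theorem T_le_Yk : Tk H z w ≤ Yk (S : Subgroup G) P H z := le_inf inf_le_left D.T_le

/-- `e` is not central in `H` -/
theorem e_not : ¬ H ≤ centralizer ({e} : Set G) := by
  intro h
  obtain ⟨i, -⟩ := D.exists_i
  have he : LP z = e := D.eprod.symm
  have h1 := D.sys.w_e i
  rw [he] at h1
  have h2 : e ∈ centralizer (NN (S : Subgroup G) P H : Set G) := by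
    rw [mem_centralizer_iff]
    intro m hm
    exact (mem_centralizer_iff.mp (h (D.NN_le_H hm)) e rfl).symm
  have h3 := (D.rad_iff D.e_mem).mpr h2 _ (D.sys.wU i)
  rw [D.sys.symm _ (D.sys.wU i) _ D.e_mem, h3] at h1
  exact absurd h1 (by decide)

/-- an element of `Z` centralised by `g` is in `E` -/
theorem mem_E {t : G} (ht : t ∈ zc (S : Subgroup G)) (hg : gk ω w * t = t * gk ω w) :
    t ∈ centralizer (P : Set G) := by
  rcases D.Zor t ht with h | h
  · exact h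
  · exfalso
    have hge : gk ω w * e = e * gk ω w := by
      have h1 := D.g_E h
      have h2 : e = (e * t) * t := by
        have h3 : t * t = 1 := D.sqU (HypK.ZU ht)
        rw [mul_assoc, h3, mul_one]
      calc gk ω w * e = (gk ω w * (e * t)) * t := by rw [mul_assoc, ← h2]
        _ = (e * t) * (gk ω w * t) := by rw [h1]; group
        _ = (e * t) * t * gk ω w := by rw [hg]; group
        _ = e * gk ω w := by rw [← h2]
    have hgC : gk ω w ∈ CZ (S : Subgroup G) := by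
      refine mem_centralizer_iff.mpr fun y hy => ?_
      rcases D.Zor y hy with h3 | h3
      · exact (D.g_E h3).symm
      · have h4 := D.g_E h3
        have h5 : y = e * (e * y) := by rw [← mul_assoc, D.e_sq, one_mul]
        calc y * gk ω w = e * ((e * y) * gk ω w) := by rw [← mul_assoc e (e * y), ← h5]
          _ = (e * gk ω w) * (e * y) := by rw [← h4]; group
          _ = gk ω w * (e * (e * y)) := by rw [← hge]; group
          _ = gk ω w * y := by rw [← h5]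
    obtain ⟨i, -⟩ := D.exists_i
    obtain ⟨j, hj⟩ := (D.Cz _ D.gP).mp hgC i
    rw [D.gz i] at hj
    have h6 : i = j := D.disj _ _ (n i) (Or.inr (Or.inl rfl)) (Or.inl hj)
    rw [← h6] at hj
    exact D.nz i hj

/-- **`T ∩ I = 1`** -/
theorem TI : Tk H z w ⊓ Ik (S : Subgroup G) P H z = ⊥ := by
  by_contra hne
  have hS : (S : Subgroup G) ≤ normalizer ((Tk H z w ⊓ Ik (S : Subgroup G) P H z : Subgroup G) : Set G) := by
    refine le_normalizer_of fun s hs x hx => mem_inf.mpr ⟨?_, ?_⟩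
    · exact conj_mem_of_mem (D.S_T hs) (mem_inf.mp hx).1
    · exact conj_mem_of_mem (D.H_norm_Ik (D.SH hs)) (mem_inf.mp hx).2
  obtain ⟨t, ht, htZ, ht1⟩ := Cfsg.Agent.MinSimple.CaseD8.exists_mem_zc S.isPGroup'
    ((inf_le_left.trans inf_le_left).trans (D.Uk_le.trans D.US)) hS hne
  have ht' := mem_inf.mp ht
  exact ht1 (D.not_cent htZ (D.mem_E htZ (D.g_T ht'.1)) (mem_inf.mp ht'.2).2)

/-! ### (4) -/

/-- `Y₁^w = U₁^w ∩ C(V)`; `Y₁^g = Y₁^w` -/
theorem mem_Yw {y : G} (hy : y ∈ Yk (S : Subgroup G) P H z) :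
    gk ω w * y * (gk ω w)⁻¹ ∈ MulAut.conj w • Uk H z ⊓ centralizer (zl (S : Subgroup G) P : Set G) :=
  D.threeG.mem_BD hy

theorem C_le_H : centralizer (zl (S : Subgroup G) P : Set G) ≤ H :=
  (centralizer_le (zc_le_zl (S : Subgroup G) P)).trans D.CH

/-- **`[Y₁, Y₁^w] ≤ T`** -/
theorem comm_T {y y' : G} (hy : y ∈ Yk (S : Subgroup G) P H z)
    (hy' : y' ∈ MulAut.conj w • Uk H z ⊓ centralizer (zl (S : Subgroup G) P : Set G)) : cm y' y ∈ Tk H z w := by
  have h1 := D.threeG.comm_mem_T hy hy'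
  have h2 : cm y' y = (y * y' * y⁻¹ * y'⁻¹)⁻¹ := by rw [cm_def]; group
  rw [h2]
  exact inv_mem h1

/-- **`[I, Y₁^w] = 1`** -/
theorem rad_comm {x y' : G} (hx : x ∈ Ik (S : Subgroup G) P H z)
    (hy' : y' ∈ MulAut.conj w • Uk H z ⊓ centralizer (zl (S : Subgroup G) P : Set G)) : y' * x = x * y' := by
  have h1 := D.comm_T (D.Ik_le_Yk hx) hy'
  have h2 : cm y' x ∈ Ik (S : Subgroup G) P H z := by
    rw [cm_def]
    exact mul_mem (conj_mem_of_mem (D.H_norm_Ik (D.C_le_H (mem_inf.mp hy').2)) hx) (inv_mem hx)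
  have h3 : cm y' x ∈ (⊥ : Subgroup G) := by rw [← D.TI]; exact mem_inf.mpr ⟨h1, h2⟩
  rw [mem_bot, cm_def, mul_inv_eq_one, mul_inv_eq_iff_eq_mul] at h3
  exact h3

/-- `[U₁, Y₁^w] ⊥ T` -/
theorem perp_T {u y' t : G} (hu : u ∈ Uk H z)
    (hy' : y' ∈ MulAut.conj w • Uk H z ⊓ centralizer (zl (S : Subgroup G) P : Set G)) (ht : t ∈ Tk H z w) :
    B (cm y' u) t = 1 := by
  have hyH := D.C_le_H (mem_inf.mp hy').2
  have h1 : cm y' u ∈ Uk H z := by
    rw [cm_def]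
    exact mul_mem (D.conj_mem hyH hu) (inv_mem hu)
  have h2 : y' * t * y'⁻¹ = t := by
    rw [D.threeG.abB y' (mem_inf.mp hy').1 t ht.2, mul_inv_cancel_right]
  have h3 := D.sys.isom y' hyH u hu t ht.1
  rw [h2, ← cm_mul y' u, D.sys.toForm0.mul_left h1 hu ht.1] at h3
  exact mul_eq_right.mp h3

/-- **`Y₁ ≤ [u, Y₁^w] T`** -/
theorem split {x : G} (hx : x ∈ Yk (S : Subgroup G) P H z) :
    ∃ t ∈ Tk H z w, x = cm (gk ω w * x * (gk ω w)⁻¹) (LP ω) * t := by
  refine ⟨_, D.threeG.third hx, ?_⟩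
  rw [cm_def]
  change x = gk ω w * x * (gk ω w)⁻¹ * LP ω * (gk ω w * x * (gk ω w)⁻¹)⁻¹ * (LP ω)⁻¹ *
    (LP ω * (gk ω w * x * (gk ω w)⁻¹) * (LP ω)⁻¹ * (gk ω w * x * (gk ω w)⁻¹)⁻¹ * x)
  group

/-- **`[Y₁, Y₁^w] ⊥ Y₁`** -/
theorem comm_perp {x y y' : G} (hy : y ∈ Yk (S : Subgroup G) P H z)
    (hy' : y' ∈ MulAut.conj w • Uk H z ⊓ centralizer (zl (S : Subgroup G) P : Set G))
    (hx : x ∈ Yk (S : Subgroup G) P H z) : B (cm y' y) x = 1 := by
  have hc := D.comm_T hy hy'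
  obtain ⟨t, ht, h1⟩ := D.split hx
  have hxw := D.mem_Yw hx
  have h2 : cm (gk ω w * x * (gk ω w)⁻¹) (LP ω) ∈ Uk H z := by
    rw [cm_def]
    exact mul_mem (D.conj_mem (D.C_le_H (mem_inf.mp hxw).2) D.uU) (inv_mem D.uU)
  rw [h1, D.sys.mul _ hc.1 _ h2 _ ht.1, D.perp_T (mem_inf.mp hy).1 hy' ht,
    D.sys.symm _ hc.1 _ h2, D.perp_T D.uU hxw hc, mul_one]

/-- **`Y₁^⊥ = ⟨z_1, …, z_k⟩ I`** -/
theorem perpY {c : G} (hc : c ∈ Uk H z) (h : ∀ x ∈ Yk (S : Subgroup G) P H z, B c x = 1) :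
    c ∈ Lk (S : Subgroup G) P H z := by
  classical
  set f : Fin k → G := fun i => if B c (ω i) = -1 then z i else 1 with hf
  have hfU : ∀ i, f i ∈ Uk H z := fun i => by
    rw [hf]
    dsimp only
    split_ifs
    · exact D.sys.zU i
    · exact one_mem _
  have hfz : LP f ∈ closure (Set.range z) := LP_mem fun i => by
    rw [hf]
    dsimp only
    split_ifs
    · exact subset_closure ⟨i, rfl⟩
    · exact one_mem _
  have hLU : LP f ∈ Uk H z := LP_mem hfU
  have hr : LP f * c ∈ Ik (S : Subgroup G) P H z := by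
    refine (D.mem_Ik).mpr ⟨mul_mem hLU hc, fun x hx => ?_⟩
    have hw : ∀ j, B (LP f * c) (ω j) = 1 := by
      intro j
      rw [D.sys.toForm0.mul_left hLU hc (D.sys.wU j), D.sys.symm _ hLU _ (D.sys.wU j),
        D.sys.B_LP (D.sys.wU j) f hfU, Finset.prod_eq_single j]
      · rw [hf]
        dsimp only
        split_ifs with h1
        · rw [D.sys.wz j, h1]; decide
        · rw [D.sys.toForm0.one_right (D.sys.wU j), ne_neg h1]; decide
      · intro i _ hi
        rw [hf]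
        dsimp only
        split_ifs
        · rw [D.sys.symm _ (D.sys.wU j) _ (D.sys.zU i)]; exact D.sys.z_w hi
        · exact D.sys.toForm0.one_right (D.sys.wU j)
      · intro h1; exact absurd (Finset.mem_univ j) h1
    refine D.sys.ind (P := fun x => x ∈ Uk H z → B (LP f * c) x = 1) ?_ ?_ hx hx
    · intro x hx h1 _
      have hxY : x ∈ Yk (S : Subgroup G) P H z := (D.mem_Yk).mpr ⟨hx, h1⟩
      have h2 : B (LP f) x = 1 := by
        have h3 : LP f ∈ Uk H z ∧ B x (LP f) = 1 :=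
          D.sys.toForm0.eq_one_of_closure (A := Set.range z) (by rintro _ ⟨i, rfl⟩; exact D.sys.zU i) hx
            (by rintro _ ⟨i, rfl⟩; rw [D.sys.symm _ hx _ (D.sys.zU i)]; exact h1 i) hfz
        rw [D.sys.symm _ hLU _ hx]; exact h3.2
      rw [D.sys.toForm0.mul_left hLU hc hx, h2, h x hxY, one_mul]
    · intro x hx j h1 _
      have h2 := h1 (mul_mem hx (D.sys.wU j))
      rwa [D.sys.mul _ (mul_mem hLU hc) _ hx _ (D.sys.wU j), hw j, mul_one] at h2
  have h1 : c = LP f * (LP f * c) := by rw [← mul_assoc, D.Uk_sq hLU, one_mul]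
  rw [h1]
  exact mul_mem ((le_sup_left : closure (Set.range z) ≤ _) hfz) ((le_sup_right : Ik (S : Subgroup G) P H z ≤ _) hr)

/-- **`[Y₁, Y₁^w] ≤ L`** -/
theorem comm_L {y y' : G} (hy : y ∈ Yk (S : Subgroup G) P H z)
    (hy' : y' ∈ MulAut.conj w • Uk H z ⊓ centralizer (zl (S : Subgroup G) P : Set G)) :
    cm y' y ∈ Lk (S : Subgroup G) P H z :=
  D.perpY (D.comm_T hy hy').1 fun _ hx => D.comm_perp hy hy' hx

end SpK

end Cfsg.Agent.Omega.NOThreeL.RTools.Many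

end

section


/-!
# NO-3L, box R, case (A), `q = 2`, all `k`, symplectic case: the fields of `End` mentioning `g` and `T`

`W = Wk S H z e = W ∩ U₁`, `g = gk ω w`, `T = Tk H z w`.  `SpK.mkEnd` : `End` from the other fields.
-/

set_option autoImplicit false
set_option linter.unusedSectionVars false

namespace Cfsg.Agent.Omega.NOThreeL.RTools.Many

open Subgroup Cfsg Cfsg.Agent.Omega.MinPar Cfsg.Agent.Omega.NOThreeL.RTools
open Cfsg.Agent.ZN (zc zl o2)
open Cfsg.Agent.Omega.Frame Cfsg.Agent.Omega.FrameNOFF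
open Cfsg.Agent.Omega.Node.NO3L Cfsg.Agent.Omega.NOThreeL.Basic
open Cfsg.Agent.Omega.NoFF.Basic (conj_conj mem_conj conj_le_iff conj_le_centralizer comm_symm comm_mono)
open scoped Pointwise

universe u

variable {G : Type u} [Group G]

namespace SpK

variable [Finite G] {S : Sylow 2 G} {P H : Subgroup G} {k : ℕ} {z n : Fin k → G} {e w : G}
variable {B : G → G → ℤˣ} {ω : Fin k → G}
variable (D : SpK S P H z n e w B ω)
include D

/-- `W ≤ Y₁` -/
theorem W_Yk {x : G} (hx : x ∈ Wl (S : Subgroup G) H e) (hx1 : x ∈ Uk H z) : x ∈ Yk (S : Subgroup G) P H z :=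
  mem_inf.mpr ⟨hx1, D.Wl_cent_V D.eZ D.e_not hx⟩

theorem gH {x : G} (hx : x ∈ Yk (S : Subgroup G) P H z) : gk ω w * x * (gk ω w)⁻¹ ∈ H :=
  D.C_le_H (mem_inf.mp (D.mem_Yw hx)).2

theorem g_z {x : G} (hx : x ∈ Yk (S : Subgroup G) P H z) (i : Fin k) :
    z i * (gk ω w * x * (gk ω w)⁻¹) = (gk ω w * x * (gk ω w)⁻¹) * z i :=
  mem_centralizer_iff.mp (mem_inf.mp (D.mem_Yw hx)).2 _ (D.zV i)

theorem gI {x r : G} (hx : x ∈ Yk (S : Subgroup G) P H z) (hr : r ∈ Ik (S : Subgroup G) P H z) :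
    r * (gk ω w * x * (gk ω w)⁻¹) = (gk ω w * x * (gk ω w)⁻¹) * r :=
  (D.rad_comm hr (D.mem_Yw hx)).symm

/-- `n_i` acts as the transvection at `z_i` -/
theorem av (i : Fin k) {m : G} (hm : m ∈ Uk H z) :
    (B (z i) m = 1 → n i * m * (n i)⁻¹ = m) ∧ (B (z i) m = -1 → n i * m * (n i)⁻¹ = m * z i) := by
  rcases D.act' hm i with ⟨h1, h2⟩ | ⟨h1, h2⟩
  · refine ⟨fun _ => ?_, fun h => ?_⟩
    · rw [(D.act m hm i).mp h1, mul_inv_cancel_right]
    · rw [h1] at h; exact absurd h (by decide)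
  · refine ⟨fun h => ?_, fun _ => ?_⟩
    · rw [h1] at h; exact absurd h (by decide)
    · have h3 : m * n i = z i * n i * m := by rw [← h2, inv_mul_cancel_right]
      have h4 : n i * m = z i * (m * n i) := by
        rw [h3, ← mul_assoc, ← mul_assoc, D.z_sq, one_mul]
      rw [h4, ← mul_assoc, mul_inv_cancel_right]
      exact (D.Uz m (D.Uk_le hm) i).symm

theorem coreT {x : G} (hx : x ∈ Uk H z)
    (h : ∀ m ∈ Uk H z, (gk ω w * x * (gk ω w)⁻¹) * m * (gk ω w * x * (gk ω w)⁻¹)⁻¹ = m) : x ∈ Tk H z w := by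
  have h1 : gk ω w * x * (gk ω w)⁻¹ ∈ MulAut.conj w • Uk H z := by
    rw [← D.conj_g, mem_conj]
    have e1 : (gk ω w)⁻¹ * (gk ω w * x * (gk ω w)⁻¹) * gk ω w = x := by group
    rwa [e1]
  have h2 : gk ω w * x * (gk ω w)⁻¹ ∈ Tk H z w := by
    refine D.core h1 ?_
    have h3 := h _ D.uU
    rw [mul_inv_eq_iff_eq_mul] at h3
    exact h3.symm
  have h3 := D.g_T h2
  have h4 : x = gk ω w * x * (gk ω w)⁻¹ := by
    calc x = (gk ω w)⁻¹ * ((gk ω w * x * (gk ω w)⁻¹) * gk ω w) := by group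
      _ = (gk ω w)⁻¹ * (gk ω w * (gk ω w * x * (gk ω w)⁻¹)) := by rw [h3]
      _ = gk ω w * x * (gk ω w)⁻¹ := by group
  rw [h4]
  exact h2

theorem gT {t : G} (ht : t ∈ Tk H z w) : gk ω w * t * (gk ω w)⁻¹ = t := by
  rw [D.g_T ht, mul_inv_cancel_right]

/-- **`End`** -/
theorem mkEnd {S₀ : Subgroup G} (hS₀ : S₀ = (S : Subgroup G))
    (tv : ∀ q ∈ PPk H z, ∃ t ∈ H, t * t = 1 ∧
      ∀ m ∈ Uk H z, (B q m = 1 → t * m * t⁻¹ = m) ∧ (B q m = -1 → t * m * t⁻¹ = m * q))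
    (syl : ∀ t ∈ H, t * LP z = LP z * t → t * t = 1 →
      ∃ h ∈ H, h * LP z = LP z * h ∧ h * t * h⁻¹ ∈ S₀)
    (WW : ∀ x ∈ Wl (S : Subgroup G) H e, ∀ y ∈ Wl (S : Subgroup G) H e,
      x * (gk ω w * y * (gk ω w)⁻¹) = (gk ω w * y * (gk ω w)⁻¹) * x)
    (frame : ∀ h ∈ H, h * LP z * h⁻¹ ∈ Tk H z w → ∃ R : Subgroup G, (∀ a ∈ R, ∀ b ∈ R, a * b = b * a) ∧
      (∀ c ∈ H, c * (h * LP z * h⁻¹) = (h * LP z * h⁻¹) * c → ∀ r ∈ R, c * r * c⁻¹ ∈ R) ∧
      (∀ r ∈ R, gk ω w * r * (gk ω w)⁻¹ ∈ R) ∧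
      ∃ y ∈ Uk H z, ∃ ε : G, (∀ m ∈ Uk H z, ε * m = m * ε) ∧ ε * gk ω w = gk ω w * ε ∧ y * ε ∈ R ∧
        y ∉ Tk H z w) :
    End H (Uk H z) (PPk H z) B z ω (gk ω w) S₀ (Tk H z w) (Wl (S : Subgroup G) H e ⊓ Uk H z) where
  toSys := D.sys
  UH := D.Uk_le.trans (D.US.trans D.SH)
  tv := tv
  core := by
    intro h hh h1 h2 m hm
    have h3 := D.triv (I := Ik (S : Subgroup G) P H z) inf_le_left D.H_norm_Ik hh
      (fun x hx => (D.mem_Ik).mpr ⟨D.cm_mem hh (D.Uk_le hx), fun y hy => h1 x hx y hy⟩)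
      (fun x hx => by
        have h4 := (D.mem_Ik).mp hx
        rw [cm_def, h2 x h4.1 h4.2, mul_inv_cancel]) m hm
    rwa [cm_def, mul_inv_eq_one] at h3
  WU := inf_le_right
  WY := fun x hx => ((D.mem_Yk).mp (D.W_Yk (mem_inf.mp hx).1 (mem_inf.mp hx).2)).2
  WK := by
    intro h hh he x hx
    have he' : h ∈ H ⊓ centralizer ({e} : Set G) := by
      refine mem_inf.mpr ⟨hh, ?_⟩
      rw [mem_centralizer_iff]
      intro y hy
      rw [Set.mem_singleton_iff.mp hy, D.eprod]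
      exact he.symm
    exact mem_inf.mpr ⟨conj_mem_of_mem (K_norm_Wl he') (mem_inf.mp hx).1, D.conj_mem hh (mem_inf.mp hx).2⟩
  Wne := by
    obtain ⟨h, hh, h1, h2⟩ := D.exists_ne D.eZ D.e_not
    have he : LP z = e := D.eprod.symm
    rw [he]
    exact ⟨h, hh, mem_inf.mpr ⟨h1, D.conj_mem hh D.e_mem⟩, h2⟩
  WW := fun x hx y hy => WW x (mem_inf.mp hx).1 y (mem_inf.mp hy).1
  gH := fun x hx => D.gH (D.W_Yk (mem_inf.mp hx).1 (mem_inf.mp hx).2)
  gz := fun x hx i => D.g_z (D.W_Yk (mem_inf.mp hx).1 (mem_inf.mp hx).2) i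
  gI := fun x hx r hr h => D.gI (D.W_Yk (mem_inf.mp hx).1 (mem_inf.mp hx).2) ((D.mem_Ik).mpr ⟨hr, h⟩)
  gzH := fun i => by rw [D.gz i]; exact D.VH (D.nV i)
  av := fun i m hm => by rw [D.gz i]; exact D.av i hm
  TU := fun t ht => (D.mem_Yk).mp (D.T_le_Yk ht)
  coreT := fun x hx h => D.coreT hx h
  gT := fun t ht => D.gT ht
  zT := D.z_not
  SK := by
    subst hS₀
    intro x hx
    refine ⟨D.SH hx, ?_⟩
    have he : LP z = e := D.eprod.symm
    rw [he]
    exact zcomm D.eZ hx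
  ST := by
    subst hS₀
    exact fun x hx t ht => conj_mem_of_mem (D.S_T hx) ht
  Str := by
    subst hS₀
    exact D.Str
  syl := syl
  frame := frame

end SpK

end Cfsg.Agent.Omega.NOThreeL.RTools.Many

end

end

-- merged: Cfsg.Agent.Mrg.Omega.NOThreeL.RTools.Many.Fr
section

section


/-!
# NO-3L, box R, case (A), `q = 2`, all `k`, symplectic case: the frame of (9') (#18224, helper401)

`p = e^h ∈ T`: `R = U_{C_G(p)} = ⟨Z^{C_G(e)}⟩^h` is abelian, normalised by `C_G(p)`, and `Z^h` contains some `y ε`,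
`y ∈ U₁ - T`, `ε ∈ E`.

* `SpK.not_X_le` : `X = ⟨U₁, U₁^w⟩` is not contained in `H`; **`SpK.frame`**.
-/

set_option autoImplicit false
set_option linter.unusedSectionVars false

namespace Cfsg.Agent.Omega.NOThreeL.RTools.Many

open Subgroup Cfsg Cfsg.Agent.Omega.MinPar Cfsg.Agent.Omega.NOThreeL.RTools
open Cfsg.Agent.ZN (zc zl o2)
open Cfsg.Agent.Omega.Frame Cfsg.Agent.Omega.FrameNOFF
open Cfsg.Agent.Omega.Node.NO3L Cfsg.Agent.Omega.NOThreeL.Basic
open Cfsg.Agent.Omega.NoFF.Basic (conj_conj mem_conj conj_le_iff conj_le_centralizer comm_symm comm_mono)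
open Cfsg.Agent.Omega.NOThreeL.Pair (conj_eq_of_mem conj_le_normalizer zl_abel)
open Cfsg.Agent.MinSimple.VModule (zl_le zc_le_zl le_normalizer_zl zc_le o2_isPGroup le_normalizer_o2 le_o2
  normalizer_le_normalizer_zc)
open Cfsg.Agent.Omega.NOThreeL (mem_normalizer_of_conj_eq le_normalizer_of mem_sup_of_comm)
open scoped Pointwise

universe u

variable {G : Type u} [Group G]

namespace SpK

variable [Finite G] {S : Sylow 2 G} {P H : Subgroup G} {k : ℕ} {z n : Fin k → G} {e w : G}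
variable {B : G → G → ℤˣ} {ω : Fin k → G}
variable (D : SpK S P H z n e w B ω)
include D

theorem e_ne : e ≠ 1 := by
  rintro rfl
  apply D.e_not
  intro h _
  rw [mem_centralizer_iff]
  intro y hy
  rw [Set.mem_singleton_iff.mp hy, one_mul, mul_one]

theorem gk_not : gk ω w ∉ H := by
  intro h
  obtain ⟨i, -⟩ := D.exists_i
  have h1 : n i ∈ Uk H z := by
    rw [← D.gz i]
    exact D.conj_mem h (z_mem_Uk H z i)
  have h2 := D.un i
  rw [D.Uk_comm D.uU h1, mul_inv_cancel_right] at h2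
  exact D.z1 i (mul_eq_right.1 h2.symm)

/-- **`X ≰ H`** -/
theorem not_X_le : ¬ Uk H z ⊔ MulAut.conj w • Uk H z ≤ H := fun h => D.gk_not (h D.gX)

/-- the frame of (9'), for every `p = e^h` -/
theorem frame₀ {h : G} (hh : h ∈ H) :
    ∃ R : Subgroup G, (∀ a ∈ R, ∀ b ∈ R, a * b = b * a) ∧
    (∀ c : G, c * (h * e * h⁻¹) = (h * e * h⁻¹) * c → ∀ r ∈ R, c * r * c⁻¹ ∈ R) ∧
    ∃ y ∈ Uk H z, ∃ ε ∈ zc (S : Subgroup G) ⊓ centralizer (P : Set G), y * ε ∈ R ∧ y ∉ Tk H z w := by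
  have hL : IsLong (S : Subgroup G) (centralizer ({e} : Set G)) := isLong S D.eZ D.e_ne
  refine ⟨MulAut.conj h • zl (S : Subgroup G) (centralizer ({e} : Set G)), ?_, ?_, ?_⟩
  · intro a ha b hb
    rw [mem_conj] at ha hb
    have h1 := mem_centralizer_iff.mp ((zl_abel D.hc S hL.loc).1 hb) _ ha
    calc a * b = h * ((h⁻¹ * a * h) * (h⁻¹ * b * h)) * h⁻¹ := by group
      _ = h * ((h⁻¹ * b * h) * (h⁻¹ * a * h)) * h⁻¹ := by rw [h1]
      _ = b * a := by group
  · intro c hc r hr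
    rw [mem_conj] at hr ⊢
    have h1 : h⁻¹ * c * h ∈ centralizer ({e} : Set G) := by
      rw [mem_centralizer_iff]
      intro y hy
      rw [Set.mem_singleton_iff.mp hy]
      calc e * (h⁻¹ * c * h) = h⁻¹ * ((h * e * h⁻¹) * c) * h := by group
        _ = h⁻¹ * (c * (h * e * h⁻¹)) * h := by rw [hc]
        _ = h⁻¹ * c * h * e := by group
    have h2 := conj_mem_of_mem (le_normalizer_zl (S : Subgroup G) _ h1) hr
    have e1 : h⁻¹ * c * h * (h⁻¹ * r * h) * (h⁻¹ * c * h)⁻¹ = h⁻¹ * (c * r * c⁻¹) * h := by group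
    rwa [e1] at h2
  · have h1 : ∃ x ∈ Uk H z ⊔ MulAut.conj w • Uk H z, ∃ y ∈ zc (S : Subgroup G),
        x * (h * y * h⁻¹) ≠ (h * y * h⁻¹) * x := by
      by_contra hcon
      push Not at hcon
      apply D.not_X_le
      intro x hx
      have h2 : h⁻¹ * x * h ∈ CZ (S : Subgroup G) := by
        refine mem_centralizer_iff.mpr fun y hy => ?_
        have h3 := hcon x hx y hy
        calc y * (h⁻¹ * x * h) = h⁻¹ * ((h * y * h⁻¹) * x) * h := by group
          _ = h⁻¹ * (x * (h * y * h⁻¹)) * h := by rw [h3]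
          _ = h⁻¹ * x * h * y := by group
      have h3 := mul_mem (mul_mem hh (D.CH h2)) (inv_mem hh)
      have e1 : h * (h⁻¹ * x * h) * h⁻¹ = x := by group
      rwa [e1] at h3
    obtain ⟨x, hx, v, hv, hne⟩ := h1
    have h2 : h * v * h⁻¹ ∈ zl (S : Subgroup G) H := conj_mem_of_mem (le_normalizer_zl _ _ hh) (HypK.ZU hv)
    obtain ⟨y, hy, ε, hε, h3⟩ := D.exists_mulE h2
    refine ⟨y, hy, ε, hε, ?_, fun hyT => hne ?_⟩
    · rw [← h3, mem_conj]
      have e1 : h⁻¹ * (h * v * h⁻¹) * h = v := by group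
      rw [e1]
      exact zc_le_zl _ _ hv
    · have h4 := mem_centralizer_iff.mp (D.X_T hx) y hyT
      have h5 := mem_centralizer_iff.mp (mem_inf.mp hε).2 x (D.X_le hx)
      rw [h3]
      calc x * (y * ε) = x * y * ε := by group
        _ = y * (x * ε) := by rw [← h4]; group
        _ = y * ε * x := by rw [h5]; group

/-- **the frame of (9')**, as used in `End` -/
theorem frame {h : G} (hh : h ∈ H) (hT : h * LP z * h⁻¹ ∈ Tk H z w) :
    ∃ R : Subgroup G, (∀ a ∈ R, ∀ b ∈ R, a * b = b * a) ∧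
    (∀ c ∈ H, c * (h * LP z * h⁻¹) = (h * LP z * h⁻¹) * c → ∀ r ∈ R, c * r * c⁻¹ ∈ R) ∧
    (∀ r ∈ R, gk ω w * r * (gk ω w)⁻¹ ∈ R) ∧
    ∃ y ∈ Uk H z, ∃ ε : G, (∀ m ∈ Uk H z, ε * m = m * ε) ∧ ε * gk ω w = gk ω w * ε ∧ y * ε ∈ R ∧
      y ∉ Tk H z w := by
  obtain ⟨R, h1, h2, y, hy, ε, hε, h3, h4⟩ := D.frame₀ hh
  have he : LP z = e := D.eprod.symm
  rw [he] at hT ⊢
  refine ⟨R, h1, fun c _ => h2 c, h2 _ (D.g_T hT), y, hy, ε, fun m hm => ?_, (D.g_E (mem_inf.mp hε).2).symm, h3, h4⟩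
  exact D.commU (HypK.ZU (mem_inf.mp hε).1) (D.Uk_le hm)

end SpK

end Cfsg.Agent.Omega.NOThreeL.RTools.Many

end

section


/-!
# NO-3L, box R, case (A), `q = 2`, all `k`, symplectic case (#18037): (5), `[W, W^g] = 1`

`W = Wl S H e` : the product of the lines in `H` on `e`. `K = C_H(e)`.

* `SpK.K_perm`, `SpK.K_norm_Yk`, `SpK.K_norm_Lk` : `K` permutes the `z_i` and normalises `Y₁`, `L`;
* `Qk` : the elements of `H` trivial on `Y₁ / L` and `L`; `SpK.Qk_odd` : an odd element of `Qk` centralises `U`;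
  `SpK.Qk_mul` : `Qk ≤ S C(U)`; `SpK.Qk_norm` : `Qk` normalises every line of `W`;
* `SpK.w_Yk` : `Y₁^w ≤ Qk`; `SpK.Wl_w` : `[W, W^w] = 1`; **`SpK.WW`** : `[W, W^g] = 1`.

No Frattini argument: `Qk` is invariant under `K`.
-/

set_option autoImplicit false
set_option linter.unusedSectionVars false

namespace Cfsg.Agent.Omega.NOThreeL.RTools.Many

open Subgroup Cfsg Cfsg.Agent.Omega.MinPar Cfsg.Agent.Omega.NOThreeL.RTools
open Cfsg.Agent.ZN (zc zl o2)
open Cfsg.Agent.Omega.Frame Cfsg.Agent.Omega.FrameNOFF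
open Cfsg.Agent.Omega.Node.NO3L Cfsg.Agent.Omega.NOThreeL.Basic
open Cfsg.Agent.Omega.NoFF.Basic (conj_conj mem_conj conj_le_iff conj_le_centralizer comm_symm comm_mono)
open Cfsg.Agent.Omega.NOThreeL.Pair (conj_eq_of_mem conj_le_normalizer zl_abel)
open Cfsg.Agent.MinSimple.VModule (zl_le zc_le_zl le_normalizer_zl zc_le o2_isPGroup le_normalizer_o2 le_o2
  normalizer_le_normalizer_zc oddGen oddGen_def oddGen_le_of_sup le_normalizer_oddGen mem_oddGen)
open Cfsg.Agent.Omega.NOThreeL (mem_normalizer_of_conj_eq le_normalizer_of mem_sup_of_comm)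
open Cfsg.Agent.Omega.NOThreeL.RTransv (act mem_act conj_act conj_cent mem_normalizer_inf mem_of_odd sq_mem)
open scoped Pointwise

universe u

variable {G : Type u} [Group G]

/-- `Qk` : the elements of `H` which are trivial on `Y₁ / L` and on `L` -/
def Qk {k : ℕ} (S P H : Subgroup G) (z : Fin k → G) : Subgroup G :=
  H ⊓ (act (Yk S P H z) (Lk S P H z) ⊓ centralizer (Lk S P H z : Set G))

namespace SpK

variable [Finite G] {S : Sylow 2 G} {P H : Subgroup G} {k : ℕ} {z n : Fin k → G} {e w : G}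
variable {B : G → G → ℤˣ} {ω : Fin k → G}
variable (D : SpK S P H z n e w B ω)
include D

theorem e_LP : LP z = e := D.eprod.symm

theorem e_V : e ∈ zl (S : Subgroup G) P := zc_le_zl _ _ D.eZ

/-- `K = C_H(e)` permutes the `z_i` -/
theorem K_perm {c : G} (hc : c ∈ H ⊓ centralizer ({e} : Set G)) :
    ∃ σ : Equiv.Perm (Fin k), ∀ i, c * z i * c⁻¹ = z (σ i) :=
  D.sys.perm (mem_inf.mp hc).1 (by rw [D.e_LP]; exact (mem_centralizer_iff.mp (mem_inf.mp hc).2 e rfl).symm)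

theorem K_norm_Yk : H ⊓ centralizer ({e} : Set G) ≤ normalizer (Yk (S : Subgroup G) P H z : Set G) := by
  refine le_normalizer_of fun c hc x hx => ?_
  have hcH := (mem_inf.mp hc).1
  obtain ⟨h1, h2⟩ := (D.mem_Yk).mp hx
  obtain ⟨σ, hσ⟩ := D.K_perm (inv_mem hc)
  refine (D.mem_Yk).mpr ⟨D.conj_mem hcH h1, fun i => ?_⟩
  rw [D.sys.symm _ (z_mem_Uk H z i) _ (D.conj_mem hcH h1), D.B_conj hcH h1 (z_mem_Uk H z i)]
  have h3 := hσ i
  rw [inv_inv] at h3
  rw [h3, D.sys.symm _ h1 _ (z_mem_Uk H z _)]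
  exact h2 _

theorem K_norm_Lk : H ⊓ centralizer ({e} : Set G) ≤ normalizer (Lk (S : Subgroup G) P H z : Set G) := by
  refine le_normalizer_sup (le_normalizer_of fun c hc x hx => ?_) (inf_le_left.trans D.H_norm_Ik)
  obtain ⟨σ, hσ⟩ := D.K_perm hc
  refine closure_induction (p := fun x _ => c * x * c⁻¹ ∈ closure (Set.range z)) ?_ ?_ ?_ ?_ hx
  · rintro _ ⟨i, rfl⟩
    rw [hσ i]
    exact subset_closure ⟨_, rfl⟩
  · rw [mul_one, mul_inv_cancel]; exact one_mem _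
  · intro x y _ _ h1 h2
    have e1 : c * (x * y) * c⁻¹ = (c * x * c⁻¹) * (c * y * c⁻¹) := by group
    rw [e1]
    exact mul_mem h1 h2
  · intro x _ h1
    have e1 : c * x⁻¹ * c⁻¹ = (c * x * c⁻¹)⁻¹ := by group
    rw [e1]
    exact inv_mem h1

theorem K_norm_Qk : H ⊓ centralizer ({e} : Set G) ≤ normalizer (Qk (S : Subgroup G) P H z : Set G) := fun _ hc =>
  mem_normalizer_inf (Subgroup.le_normalizer (mem_inf.mp hc).1)
    (mem_normalizer_inf (conj_act (D.K_norm_Yk hc) (D.K_norm_Lk hc)) (conj_cent (D.K_norm_Lk hc)))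

/-- `S ≤ K` -/
theorem S_le_K : (S : Subgroup G) ≤ H ⊓ centralizer ({e} : Set G) := by
  refine le_inf D.SH fun s hs => ?_
  rw [mem_centralizer_iff]
  rintro _ rfl
  exact (zcomm D.eZ hs).symm

theorem C_le_K : centralizer (zl (S : Subgroup G) P : Set G) ≤ H ⊓ centralizer ({e} : Set G) := by
  refine le_inf D.C_le_H fun x hx => ?_
  rw [mem_centralizer_iff]
  rintro _ rfl
  exact mem_centralizer_iff.mp hx _ D.e_V

theorem Lk_le_Yk : Lk (S : Subgroup G) P H z ≤ Yk (S : Subgroup G) P H z := by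
  refine sup_le ?_ D.Ik_le_Yk
  rw [closure_le]
  rintro _ ⟨i, rfl⟩
  exact D.z_mem_Yk i

/-- **an odd element of `Qk` centralises `U`** -/
theorem Qk_odd {x : G} (hx : x ∈ Qk (S : Subgroup G) P H z) (ho : Odd (orderOf x)) :
    x ∈ centralizer (zl (S : Subgroup G) H : Set G) := by
  obtain ⟨hH, h1⟩ := mem_inf.mp hx
  obtain ⟨h1, h2⟩ := mem_inf.mp h1
  have h3 : x ∈ centralizer (Yk (S : Subgroup G) P H z : Set G) :=
    mem_of_odd ho (sq_mem D.Lk_le_Yk (fun u hu => D.Uk_sq (mem_inf.mp hu).1) h1 h2)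
  have h4 : x ∈ RTransv.act (Uk H z) (Yk (S : Subgroup G) P H z) := by
    refine mem_act.mpr ⟨le_normalizer_Uk H z hH, fun u hu => ?_⟩
    have h5 : x * u * x⁻¹ * u⁻¹ ∈ Uk H z := mul_mem (D.conj_mem hH hu) (inv_mem hu)
    refine (D.mem_Yk).mpr ⟨h5, fun i => ?_⟩
    have h6 : x * z i * x⁻¹ = z i := by
      have h7 := mem_centralizer_iff.mp h3 _ (D.z_mem_Yk i)
      rw [← h7, mul_inv_cancel_right]
    have h7 := D.sys.isom x hH _ (z_mem_Uk H z i) u hu
    rw [h6] at h7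
    rw [D.sys.mul _ (z_mem_Uk H z i) _ (D.conj_mem hH hu) _ (inv_mem hu), D.sys.toForm0.inv_right hu, h7,
      Symp.units_mul_self]
  have h5 : x ∈ centralizer (Uk H z : Set G) :=
    mem_of_odd ho (sq_mem inf_le_left (fun u hu => D.Uk_sq hu) h4 h3)
  exact D.cent_U (mem_inf.mpr ⟨hH, h5⟩)

/-- **`Qk ≤ S C(U)`** -/
theorem Qk_mul {g : G} (hg : g ∈ Qk (S : Subgroup G) P H z) :
    ∃ s ∈ (S : Subgroup G), ∃ d ∈ centralizer (zl (S : Subgroup G) H : Set G), g = s * d := by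
  set X := Qk (S : Subgroup G) P H z with hX
  have hSX : (S : Subgroup G) ≤ normalizer (X : Set G) := D.S_le_K.trans D.K_norm_Qk
  have hn : X ⊔ (S : Subgroup G) ≤ normalizer (X : Set G) := sup_le Subgroup.le_normalizer hSX
  have h1 : oddGen (X ⊔ (S : Subgroup G)) ≤ X :=
    oddGen_le_of_sup hn le_rfl le_sup_right le_sup_left S.isPGroup'
  have h2 : oddGen (X ⊔ (S : Subgroup G)) ≤ centralizer (zl (S : Subgroup G) H : Set G) := by
    rw [oddGen_def, closure_le]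
    rintro x ⟨hx, ho⟩
    exact D.Qk_odd (h1 (mem_oddGen hx ho)) ho
  have h3 := NoFF.LinesPlug.oddGen_sup (P := X ⊔ (S : Subgroup G)) le_sup_right
    (MinSimple.Basic.not_dvd_relIndex S le_sup_right)
  have h4 : g ∈ ((S : Subgroup G) ⊔ oddGen (X ⊔ (S : Subgroup G)) : Subgroup G) := by
    rw [sup_comm, h3]; exact (le_sup_left : X ≤ _) hg
  have h5 : (S : Subgroup G) ≤ normalizer (oddGen (X ⊔ (S : Subgroup G)) : Set G) :=
    le_sup_right.trans (le_normalizer_oddGen _)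
  have h6 : (g : G) ∈ (((S : Subgroup G) : Set G) * (oddGen (X ⊔ (S : Subgroup G)) : Set G)) := by
    rw [← coe_mul_of_left_le_normalizer_right _ _ h5]
    exact h4
  obtain ⟨s, hs, d, hd, rfl⟩ := Set.mem_mul.1 h6
  exact ⟨s, hs, d, h2 hd, rfl⟩

/-- **`Qk` normalises the lines of `W`** -/
theorem Qk_norm {P₁ : Subgroup G} (h1 : IsParS (S : Subgroup G) P₁) (h2 : P₁ ≤ H) {c : G}
    (hc : c ∈ H ⊓ centralizer ({e} : Set G)) :
    Qk (S : Subgroup G) P H z ≤ normalizer ((MulAut.conj c • zl (S : Subgroup G) P₁ : Subgroup G) : Set G) := by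
  have h3 : Qk (S : Subgroup G) P H z ≤ normalizer (zl (S : Subgroup G) P₁ : Set G) := by
    intro g hg
    obtain ⟨s, hs, d, hd, rfl⟩ := D.Qk_mul hg
    have h4 : zl (S : Subgroup G) P₁ ≤ zl (S : Subgroup G) H := by
      have h5 := D.line_le_U h2 H.one_mem
      rwa [map_one, one_smul] at h5
    exact mul_mem (le_normalizer_zl _ _ (h1.le hs)) (centralizer_le_normalizer _ (centralizer_le h4 hd))
  have h4 := conj_le_normalizer (g := c) h3
  rwa [conj_eq_of_mem (D.K_norm_Qk hc)] at h4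

/-- `Y₁^w ≤ Qk` -/
theorem w_Yk {y : G} (hy : y ∈ Yk (S : Subgroup G) P H z) : w * y * w⁻¹ ∈ Qk (S : Subgroup G) P H z := by
  have h1 : w * y * w⁻¹ ∈ MulAut.conj w • Uk H z ⊓ centralizer (zl (S : Subgroup G) P : Set G) := by
    refine mem_inf.mpr ⟨?_, conj_mem_of_mem (D.P_normC D.w_mem) (mem_inf.mp hy).2⟩
    rw [mem_conj]
    have e1 : w⁻¹ * (w * y * w⁻¹) * w = y := by group
    rw [e1]
    exact (mem_inf.mp hy).1
  have h2 := (mem_inf.mp h1).2
  refine mem_inf.mpr ⟨D.C_le_H h2, mem_inf.mpr ⟨mem_act.mpr ⟨D.K_norm_Yk (D.C_le_K h2), fun u hu => ?_⟩, ?_⟩⟩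
  · have h3 := D.comm_L hu h1
    rwa [cm_def] at h3
  · rw [mem_centralizer_iff]
    intro l hl
    have h3 : Lk (S : Subgroup G) P H z ≤ centralizer ({w * y * w⁻¹} : Set G) := by
      refine sup_le ?_ fun x hx => ?_
      · rw [closure_le]
        rintro _ ⟨i, rfl⟩
        refine mem_centralizer_iff.mpr fun a ha => ?_
        rw [Set.mem_singleton_iff.mp ha]
        exact (mem_centralizer_iff.mp h2 _ (D.zV i)).symm
      · refine mem_centralizer_iff.mpr fun a ha => ?_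
        rw [Set.mem_singleton_iff.mp ha]
        exact D.rad_comm hx h1
    exact (mem_centralizer_iff.mp (h3 hl) _ rfl).symm

/-- `w² ∈ C(V)` -/
theorem ww_mem : w * w ∈ centralizer (zl (S : Subgroup G) P : Set G) := by
  have h0 : closure (Set.range z ∪ Set.range n) ≤ centralizer ({w * w} : Set G) := by
    rw [closure_le]
    rintro _ (⟨i, rfl⟩ | ⟨i, rfl⟩)
    · refine mem_centralizer_iff.mpr fun y hy => ?_
      rw [Set.mem_singleton_iff.mp hy]
      have h1 : w * w * z i * (w * w)⁻¹ = z i := by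
        calc w * w * z i * (w * w)⁻¹ = w * (w * z i * w⁻¹) * w⁻¹ := by group
          _ = z i := by rw [D.wz, D.wn]
      rwa [mul_inv_eq_iff_eq_mul] at h1
    · refine mem_centralizer_iff.mpr fun y hy => ?_
      rw [Set.mem_singleton_iff.mp hy]
      have h1 : w * w * n i * (w * w)⁻¹ = n i := by
        calc w * w * n i * (w * w)⁻¹ = w * (w * n i * w⁻¹) * w⁻¹ := by group
          _ = n i := by rw [D.wn, D.wz]
      rwa [mul_inv_eq_iff_eq_mul] at h1
  rw [mem_centralizer_iff]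
  intro v hv
  obtain ⟨x, hx, ε, hε, rfl⟩ := D.cov v hv
  have h1 : w * w * ε = ε * (w * w) := (mem_centralizer_iff.mp (mem_inf.mp hε).2 _ (mul_mem D.w_mem D.w_mem))
  have h2 : w * w * x = x * (w * w) := mem_centralizer_iff.mp (h0 hx) _ rfl
  calc x * ε * (w * w) = x * (ε * (w * w)) := by group
    _ = (x * (w * w)) * ε := by rw [← h1]; group
    _ = w * w * (x * ε) := by rw [← h2]; group

/-- `Y₁^(w⁻¹) ≤ Qk` -/
theorem winv_Yk {y : G} (hy : y ∈ Yk (S : Subgroup G) P H z) : w⁻¹ * y * w ∈ Qk (S : Subgroup G) P H z := by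
  have h1 : (w * w)⁻¹ * y * (w * w) ∈ Yk (S : Subgroup G) P H z := by
    have h2 := conj_mem_of_mem (D.K_norm_Yk (D.C_le_K (inv_mem D.ww_mem))) hy
    rwa [inv_inv] at h2
  have h2 := D.w_Yk h1
  have e1 : w * ((w * w)⁻¹ * y * (w * w)) * w⁻¹ = w⁻¹ * y * w := by group
  rwa [e1] at h2

/-- an element of `W` is `y ε`, `y ∈ Y₁`, `ε ∈ E` -/
theorem exists_Wl {x : G} (hx : x ∈ Wl (S : Subgroup G) H e) :
    ∃ y ∈ Yk (S : Subgroup G) P H z, ∃ ε ∈ zc (S : Subgroup G) ⊓ centralizer (P : Set G), x = y * ε := by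
  have hV := D.Wl_cent_V D.eZ D.e_not hx
  obtain ⟨y, hy, ε, hε, rfl⟩ := D.exists_mulE (D.Wl_le_U hx)
  refine ⟨y, mem_inf.mpr ⟨hy, ?_⟩, ε, hε, rfl⟩
  rw [mem_centralizer_iff]
  intro v hv
  have h1 := mem_centralizer_iff.mp hV v hv
  have h2 : ε * v = v * ε := (zcomm (mem_inf.mp hε).1 (D.VS hv)).symm
  have h3 : (v * y) * ε = (y * v) * ε := by
    calc (v * y) * ε = v * (y * ε) := by group
      _ = y * (ε * v) := by rw [h1]; group
      _ = (y * v) * ε := by rw [h2]; group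
  exact mul_right_cancel h3

/-- **`[W, W^w] = 1`** -/
theorem Wl_w : Wl (S : Subgroup G) H e ≤
    centralizer ((MulAut.conj w • Wl (S : Subgroup G) H e : Subgroup G) : Set G) := by
  -- `W^w` and `W^(w⁻¹)` normalise the lines of `W`
  have n1 : ∀ {P₁ : Subgroup G}, IsParS (S : Subgroup G) P₁ → P₁ ≤ H →
      ∀ {c : G}, c ∈ H ⊓ centralizer ({e} : Set G) → ∀ x ∈ Wl (S : Subgroup G) H e,
      w * x * w⁻¹ ∈ normalizer ((MulAut.conj c • zl (S : Subgroup G) P₁ : Subgroup G) : Set G) ∧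
      w⁻¹ * x * w ∈ normalizer ((MulAut.conj c • zl (S : Subgroup G) P₁ : Subgroup G) : Set G) := by
    intro P₁ h1 h2 c hc x hx
    obtain ⟨y, hy, ε, hε, rfl⟩ := D.exists_Wl hx
    have h3 : ε ∈ normalizer ((MulAut.conj c • zl (S : Subgroup G) P₁ : Subgroup G) : Set G) := by
      refine centralizer_le_normalizer _ (centralizer_le (D.line_le_U h2 (mem_inf.mp hc).1) ?_)
      rw [mem_centralizer_iff]
      intro u hu
      exact D.commU hu (HypK.ZU (mem_inf.mp hε).1)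
    have h4 : w * ε = ε * w := (mem_centralizer_iff.mp (mem_inf.mp hε).2 _ D.w_mem)
    have e1 : w * (y * ε) * w⁻¹ = (w * y * w⁻¹) * ε := by
      calc w * (y * ε) * w⁻¹ = w * y * w⁻¹ * (w * ε) * w⁻¹ := by group
        _ = (w * y * w⁻¹) * ε := by rw [h4]; group
    have e2 : w⁻¹ * (y * ε) * w = (w⁻¹ * y * w) * ε := by
      calc w⁻¹ * (y * ε) * w = w⁻¹ * y * (ε * w) := by group
        _ = (w⁻¹ * y * w) * ε := by rw [← h4]; group
    rw [e1, e2]
    exact ⟨mul_mem (D.Qk_norm h1 h2 hc (D.w_Yk hy)) h3, mul_mem (D.Qk_norm h1 h2 hc (D.winv_Yk hy)) h3⟩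
  -- lines
  have n2 : ∀ {P₁ P₂ : Subgroup G}, IsParS (S : Subgroup G) P₁ → P₁ ≤ H → IsParS (S : Subgroup G) P₂ → P₂ ≤ H →
      ∀ {c d : G}, c ∈ H ⊓ centralizer ({e} : Set G) → d ∈ H ⊓ centralizer ({e} : Set G) →
      MulAut.conj c • zl (S : Subgroup G) P₁ ≤
        centralizer ((MulAut.conj (w * d) • zl (S : Subgroup G) P₂ : Subgroup G) : Set G) := by
    intro P₁ P₂ h1 h2 h3 h4 c d hc hd
    refine D.noff' h1 h3 ?_ ?_
    · -- `ℓ ≤ N(ℓ'^w)`
      rw [← conj_conj]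
      have h5 : MulAut.conj w⁻¹ • (MulAut.conj c • zl (S : Subgroup G) P₁ : Subgroup G) ≤
          normalizer ((MulAut.conj d • zl (S : Subgroup G) P₂ : Subgroup G) : Set G) := by
        intro x hx
        rw [mem_conj, inv_inv] at hx
        have h6 := (n1 h3 h4 hd _ (line_le_Wl h1 h2 hc hx)).2
        have e1 : w⁻¹ * (w * x * w⁻¹) * w = x := by group
        rwa [e1] at h6
      have h6 := conj_le_normalizer (g := w) h5
      rwa [conj_conj, mul_inv_cancel, map_one, one_smul] at h6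
    · rw [← conj_conj]
      intro x hx
      rw [mem_conj] at hx
      have h6 := (n1 h1 h2 hc _ (line_le_Wl h3 h4 hd hx)).1
      have e1 : w * (w⁻¹ * x * w) * w⁻¹ = x := by group
      rwa [e1] at h6
  refine Wl_le fun P₁ h1 h2 c hc => ?_
  refine comm_symm ?_
  have h3 : Wl (S : Subgroup G) H e ≤
      MulAut.conj w⁻¹ • centralizer ((MulAut.conj c • zl (S : Subgroup G) P₁ : Subgroup G) : Set G) := by
    refine Wl_le fun P₂ h3 h4 d hd => ?_
    have h5 := comm_symm (n2 h1 h2 h3 h4 hc hd)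
    have h6 := (conj_le_iff (g := w⁻¹)).2 h5
    rwa [conj_conj, inv_mul_cancel_left] at h6
  have h4 := (conj_le_iff (g := w)).2 h3
  rwa [conj_conj, mul_inv_cancel, map_one, one_smul] at h4

/-- `w⁻¹ g ∈ K` -/
theorem wg_mem : w⁻¹ * gk ω w ∈ H ⊓ centralizer ({e} : Set G) := by
  have h1 : w⁻¹ * gk ω w ∈ CZ (S : Subgroup G) := by
    rw [D.Cz _ (mul_mem (inv_mem D.w_mem) D.gP)]
    intro i
    refine ⟨i, ?_⟩
    calc w⁻¹ * gk ω w * z i * (w⁻¹ * gk ω w)⁻¹ = w⁻¹ * (gk ω w * z i * (gk ω w)⁻¹) * w := by group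
      _ = z i := by rw [D.gz i, D.winv_n i]
  exact mem_inf.mpr ⟨D.CH h1, centralizer_le (Set.singleton_subset_iff.2 D.eZ) h1⟩

theorem conj_g_Wl : MulAut.conj (gk ω w) • Wl (S : Subgroup G) H e = MulAut.conj w • Wl (S : Subgroup G) H e := by
  have h1 := conj_eq_of_mem (K_norm_Wl (S := (S : Subgroup G)) D.wg_mem)
  calc MulAut.conj (gk ω w) • Wl (S : Subgroup G) H e
      = MulAut.conj w • (MulAut.conj (w⁻¹ * gk ω w) • Wl (S : Subgroup G) H e) := by
        rw [conj_conj, mul_inv_cancel_left]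
    _ = MulAut.conj w • Wl (S : Subgroup G) H e := by rw [h1]

/-- **(5)** `[W, W^g] = 1` -/
theorem WW {x y : G} (hx : x ∈ Wl (S : Subgroup G) H e) (hy : y ∈ Wl (S : Subgroup G) H e) :
    x * (gk ω w * y * (gk ω w)⁻¹) = (gk ω w * y * (gk ω w)⁻¹) * x := by
  have h1 : gk ω w * y * (gk ω w)⁻¹ ∈ MulAut.conj w • Wl (S : Subgroup G) H e := by
    rw [← D.conj_g_Wl, mem_conj]
    have e1 : (gk ω w)⁻¹ * (gk ω w * y * (gk ω w)⁻¹) * gk ω w = y := by group
    rwa [e1]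
  exact (mem_centralizer_iff.mp (D.Wl_w hx) _ h1).symm

end SpK

end Cfsg.Agent.Omega.NOThreeL.RTools.Many

end

end

-- merged: Cfsg.Agent.Mrg.Omega.NOThreeL.RTools.Many.Final
section

/-!
# NO-3L, box R, case (A), `q = 2`, all `k`: the case is dead (#18037, helper850; end #18224, helper401)

* `HypK.false` : the frame hypotheses `HypK` are contradictory;
* `false_of_nat` : `G` of characteristic 2 type, `DataLow S` (no mutual pair, `V_P ≤ Q`), `P ∈ P*(S)`, `H` long, `[V_P, U_H] ≠ 1`;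
  then `V_P` is not a natural `SL₂(2)^k`-module modulo `D ≤ V_P` (`C_Z(P)` arbitrary; nothing about offenders).
-/

set_option autoImplicit false

namespace Cfsg.Agent.Omega.NOThreeL.RTools.Many

open Subgroup Cfsg Cfsg.Agent.ZN Cfsg.Agent.Omega.MinPar Cfsg.Agent.Omega.Frame Cfsg.Agent.Omega.FrameNOFF
open Cfsg.Agent.Omega.Node.NO3L Cfsg.Agent.Omega.NOThreeL.Basic
open Cfsg.Agent.Omega.FFThm (Off NatK)

universe u

variable {G : Type u} [Group G] [Finite G]

/-- **The frame hypotheses are contradictory.** -/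
theorem HypK.false {S : Sylow 2 G} {P H : Subgroup G} {k : ℕ} {z n : Fin k → G} {e w : G}
    (D : HypK S P H z n e w) : False := by
  have hY : D.NY := fun i h hh hz y hy hn => (D.norm_Y i hh hz hy hn.symm).symm
  obtain ⟨B, ω, hs, hact, htv⟩ := D.exists_sys hY
  have s : SpK S P H z n e w B ω := ⟨D, hs, hact⟩
  exact (s.mkEnd (S₀ := (S : Subgroup G)) rfl htv (fun t ht hte htt => D.syl ht hte htt)
    (fun x hx y hy => s.WW hx hy) (fun h hh hT => s.frame hh hT)).false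

/-- **`R ∩ (A)`, `q = 2`, all `k`, is dead** (nothing about offenders). -/
theorem false_of_nat {S : Sylow 2 G} {P H D : Subgroup G} {F : Type} [Field F] [CharP F 2] {k : ℕ}
    (hc : IsCharacteristicTwoType G) (Da : DataLow (S : Subgroup G)) (hPH : PairA (S : Subgroup G) P H)
    (hF : ∀ x : F, x = 0 ∨ x = 1)
    (M : NatK F (S : Subgroup G) P (zl (S : Subgroup G) P) D k) (hDV : D ≤ zl (S : Subgroup G) P) : False := by
  obtain ⟨H₁, _, z, n, e, w, hD⟩ := exists_hypK_of_natK hc Da hPH hF M hDV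
  exact hD.false

/-- The same, with the superfluous hypothesis that `U_H` is an offender. -/
theorem false_of_natK {S : Sylow 2 G} {P H D : Subgroup G} {F : Type} [Field F] [CharP F 2] {k : ℕ}
    (hc : IsCharacteristicTwoType G) (Da : DataLow (S : Subgroup G)) (hPH : PairA (S : Subgroup G) P H)
    (_ : Off (zl (S : Subgroup G) P) (zl (S : Subgroup G) H)) (hF : ∀ x : F, x = 0 ∨ x = 1)
    (M : NatK F (S : Subgroup G) P (zl (S : Subgroup G) P) D k) (hDV : D ≤ zl (S : Subgroup G) P) : False :=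
  false_of_nat hc Da hPH hF M hDV

end Cfsg.Agent.Omega.NOThreeL.RTools.Many

end

-- merged: Cfsg.Agent.Mrg.Omega.NOThreeL.RTools.Many.Reduce
section

/-!
# NO-3L, case (A) without `C_Z(P) = 1`: only natural `SL₂(q)^k`, `q > 2`, is left

`DataLow S` (`noff`, `low` only: box R included, and NO-3S), `PairA S P H` : `V_P` is a sum of natural `SL₂(F)`-modules modulo `C_{V_P}(O²(P))` with
`|F| > 2`.

* `V_P` not FF (image sense): `AFour.notFF` (helper456); type `S_{2^m+1}^k`: `RSym.no_sym` (helper797);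
  `|F| = 2` : `false_of_nat` (#18037).
-/

set_option autoImplicit false

namespace Cfsg.Agent.Omega.NOThreeL.RTools.Many

open Subgroup Cfsg Cfsg.Agent.ZN Cfsg.Agent.Omega.FrameNOFF
open Cfsg.Agent.Omega.MinPar Cfsg.Agent.Omega.FFThm Cfsg.Agent.Omega.Node.NO3L Cfsg.Agent.Omega.Frame
open Cfsg.Agent.Omega.NOThreeL.Basic Cfsg.Agent.Omega.NOThreeL.Main
open Cfsg.Agent.Omega.FrameFF (cv)

universe u

/-- Over a field with two elements. -/
theorem two_of_card {F : Type} [Field F] [Finite F] (h : Nat.card F = 2) (x : F) : x = 0 ∨ x = 1 := by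
  classical
  by_contra hx
  push Not at hx
  have h1 : ({0, 1, x} : Finset F).card = 3 := by
    rw [Finset.card_insert_of_notMem, Finset.card_insert_of_notMem, Finset.card_singleton]
    · simpa using hx.2.symm
    · simp only [Finset.mem_insert, Finset.mem_singleton, not_or]
      exact ⟨zero_ne_one, hx.1.symm⟩
  have := Fintype.ofFinite F
  have h2 := Finset.card_le_univ ({0, 1, x} : Finset F)
  rw [h1, ← Nat.card_eq_fintype_card, h] at h2
  omega

/-- **Case (A) of NO-3L, `C_Z(P)` arbitrary**: `V_P` is of type natural `SL₂(F)^k`, `|F| > 2`. -/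
theorem exists_nat_big {G : Type u} [Group G] [Finite G] (hG : Ctx G) {S : Sylow 2 G} (D : DataLow (S : Subgroup G))
    {P H : Subgroup G} (E : PairA (S : Subgroup G) P H) :
    ∃ (F : Type) (_ : Field F) (_ : Finite F) (_ : CharP F 2) (k : ℕ), 0 < k ∧ 2 < Nat.card F ∧
      Nonempty (NatKM F (S : Subgroup G) P (zl (S : Subgroup G) P) (cv (S : Subgroup G) P) k) := by
  by_cases hoff : ∃ A : Subgroup G, A ≤ P ∧ OffM (zl (S : Subgroup G) P) A
  · obtain ⟨-, hC⟩ := FFBr.ffthmM G (S : Subgroup G) P (syl_of_sylow S E.par.le) E.par.toIsMinPar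
      (E.par.isLoc.char2 S hG.char2) hoff
    rcases hC with ⟨F, _, _, _, k, hk, ⟨M⟩⟩ | ⟨k, m, hk, hm, ⟨M⟩⟩
    · have hq : 1 < Nat.card F := Finite.one_lt_card
      rcases Nat.lt_or_ge 2 (Nat.card F) with hq2 | hq2
      · exact ⟨F, _, inferInstance, inferInstance, k, hk, hq2, ⟨M⟩⟩
      · exact (false_of_nat hG.char2 D E (two_of_card (by omega)) M.toNatK inf_le_left).elim
    · exact (RSym.no_sym hG.char2 E hm M.toSymK).elim
  · push Not at hoff
    exact (E.ne (AFour.comm_of_notFF AFour.offAll hG.char2 D E.par hoff E.long)).elim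

end Cfsg.Agent.Omega.NOThreeL.RTools.Many

end

-- merged: Cfsg.Agent.Mrg.Omega.NOThreeL.RTree
section

/-!
# NO-3L, box R: the tree below `Merge.RG K`

`Data S`, `C_Z(P) ≠ 1` for some `P ∈ P*(S)`, and `V* = ⟨Z^⟨P*(S)⟩⟩` is FF or `V* ≰ Q`.

* `RAbig K` : case (A), `V_P` of type natural `SL₂(F)^k` (modulo `cv S P`), `|F| > 2` (no hypothesis about offenders);
* `RBz K` : not (A), some `z ∈ Z#` is moved only by `P ∈ P*(S)` with `P ≤ N_G(V^!(S))` (the frame of NotFF for `z`);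
* `RBc K` : not (A), every `z ∈ Z#` is moved by some `P ∈ P*(S)`, `P ≰ N_G(V^!(S))` (#18145: two centres);
* `rg_of` : they imply `Merge.RG K`.

The rest of case (A) is closed by `RTools.Many.exists_nat_big` (helper571): `V_P` not FF, type `S_{2^m+1}^k`,
`|F| = 2`.
-/

set_option autoImplicit false

namespace Cfsg.Agent.Omega.NOThreeL.RTree

open Subgroup Cfsg Cfsg.Agent.ZN Cfsg.Agent.Omega.MinPar Cfsg.Agent.Omega.Frame Cfsg.Agent.Omega.FrameNOFF
open Cfsg.Agent.Omega.Node.NO3L Cfsg.Agent.Omega.NOThreeL.Basic Cfsg.Agent.Omega.NOThreeL.Main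
open Cfsg.Agent.Omega.FFThm (NatKM)
open Cfsg.Agent.Omega.FrameFF (cv)
open Cfsg.Agent.Omega.NO3S (FFMod)
open Cfsg.Agent.Omega.NOThreeL.Merge (MZ)
open Cfsg.Agent.Omega.NOThreeL.ZCut (FZ)
open Cfsg.Agent.Omega.NO3b.Bang (bang)

universe u

section sockets

variable (K : Cls.{u})

/-- (A), natural `SL₂(F)^k`, `|F| > 2`. -/
def RAbig : Prop :=
  ∀ (G : Type u) [Group G] [Finite G], Ctx G → K G → ∀ (S : Sylow 2 G), Full (S : Subgroup G) →
    Data (S : Subgroup G) → ∀ P H : Subgroup G, PairA (S : Subgroup G) P H →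
      ∀ (F : Type) [Field F] [Finite F] [CharP F 2] (k : ℕ), 0 < k → 2 < Nat.card F →
        NatKM F (S : Subgroup G) P (zl (S : Subgroup G) P) (cv (S : Subgroup G) P) k → IsKnownSimple' G

/-- The common hypotheses of the two cases of not (A). -/
structure RB {G : Type u} [Group G] [Finite G] (S : Sylow 2 G) : Prop where
  ctx : Ctx G
  full : Full (S : Subgroup G)
  data : Data (S : Subgroup G)
  notA : ¬ CaseA (S : Subgroup G)
  ff : FFMod (S : Subgroup G) (MZ (S : Subgroup G)) ∨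
    ¬ zl (S : Subgroup G) (MZ (S : Subgroup G)) ≤ o2 (CZ (S : Subgroup G))
  ex : ∃ P : Subgroup G, IsParS (S : Subgroup G) P ∧
    zc (S : Subgroup G) ⊓ centralizer (P : Set G) ≠ ⊥

/-- (RC') fails: some `z ∈ Z#` is moved only by `P ∈ P*(S)` with `P ≤ N_G(V^!(S))`. -/
def RBz : Prop :=
  ∀ (G : Type u) [Group G] [Finite G], K G → ∀ (S : Sylow 2 G), RB S →
    ∀ z ∈ zc (S : Subgroup G), z ≠ 1 →
      (∀ P ∈ FZ (S : Subgroup G) z, P ≤ normalizer (bang (S : Subgroup G) : Set G)) → IsKnownSimple' G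

/-- (RC'): every `z ∈ Z#` is moved by some `P ∈ P*(S)` with `P ≰ N_G(V^!(S))`. -/
def RBc : Prop :=
  ∀ (G : Type u) [Group G] [Finite G], K G → ∀ (S : Sylow 2 G), RB S →
    (∀ z ∈ zc (S : Subgroup G), z ≠ 1 →
      ∃ P ∈ FZ (S : Subgroup G) z, ¬ P ≤ normalizer (bang (S : Subgroup G) : Set G)) → IsKnownSimple' G

end sockets

/-- **Case (A) of box R.** -/
theorem caseA_of {K : Cls.{u}} (hq : RAbig K) {G : Type u} [Group G] [Finite G] (hG : Ctx G)
    (hK : K G) {S : Sylow 2 G} (hF : Full (S : Subgroup G)) (D : Data (S : Subgroup G))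
    (hA : CaseA (S : Subgroup G)) : IsKnownSimple' G := by
  obtain ⟨P, H, hPH⟩ := caseA_iff.1 hA
  obtain ⟨F, _, _, _, k, hk, h2, ⟨M⟩⟩ := RTools.Many.exists_nat_big hG D hPH
  exact hq G hG hK S hF D P H hPH F k hk h2 M

/-- **Box R from its leaves.** -/
theorem rg_of {K : Cls.{u}} (hq : RAbig K) (hz : RBz K) (hc : RBc K) : Merge.RG K := by
  intro G _ _ hG hK S hF D hff P hP hzP
  by_cases hA : CaseA (S : Subgroup G)
  · exact caseA_of hq hG hK hF D hA
  · have hB : RB S := ⟨hG, hF, D, hA, hff, P, hP, hzP⟩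
    by_cases h : ∀ z ∈ zc (S : Subgroup G), z ≠ 1 →
        ∃ P ∈ FZ (S : Subgroup G) z, ¬ P ≤ normalizer (bang (S : Subgroup G) : Set G)
    · exact hc G hK S hB h
    · push Not at h
      obtain ⟨z, hz1, hz2, hz3⟩ := h
      exact hz G hK S hB z hz1 hz2 hz3

end Cfsg.Agent.Omega.NOThreeL.RTree

end
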